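import Cfsg.Agent.Lib.Classical.SmallIso.OmegaSixMinus
import Cfsg.Agent.Lib.Classical.QuadCentre
import Cfsg.Agent.Lib.Classical.AutOrder.PSU

/-!
# The orthogonal group of dimension six of minus type over two elements as an automorphism group
-/

set_option autoImplicit false

namespace CfsgLib.LargeFischer

variable {F : Type} [Field F] [Fintype F]

/-- The full isometry group of the elliptic form in dimension six over `GF(2)` is `Aut PSU₄(2)`. -/
theorem minus_six_iso (hF : Fintype.card F = 2 ^ 2) (hP : Nat.card (Cfsg.PSU 4 F 2) = 25920) :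
    Nonempty (MulAut (Cfsg.PSU 4 F 2) ≃* Cfsg.isometryGroup (ZMod 2) (Cfsg.quadFormMinus 2 (ZMod 2) 1 1)) := by
  classical
  have hab : CfsgLib.Classical.BinAniso (1 : ZMod 2) 1 := by
    unfold CfsgLib.Classical.BinAniso
    decide
  set Q := CfsgLib.Classical.qExt 2 (CfsgLib.Classical.qBin (1 : ZMod 2) 1) with hQdef
  have hnd : CfsgLib.Classical.PolarNondeg Q :=
    CfsgLib.Classical.polarNondeg_qExt (CfsgLib.Classical.polarNondeg_qBin hab) 2
  rw [← CfsgLib.Classical.coe_qExt_qBin 2 (1 : ZMod 2) 1, ← hQdef]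
  obtain ⟨e⟩ := CfsgLib.Classical.SmallIso.pomega_six_minus (F := ZMod 2) (K := F) (q := 2) (a := 1) (b := 1)
    (ZMod.card 2) hF hab
  rw [← CfsgLib.Classical.coe_qExt_qBin 2 (1 : ZMod 2) 1, ← hQdef] at e
  let O := Cfsg.isometryGroup (ZMod 2) ⇑Q
  let W := Cfsg.Omega (ZMod 2) ⇑Q
  let ψ : ↥O →* MulAut ↥W := MulAut.conjNormal
  have hinj : Function.Injective ψ := by
    rw [← MonoidHom.ker_eq_bot_iff, eq_bot_iff]
    intro z hz
    have hcomm : ∀ x ∈ commutator ↥O, z * x = x * z := by
      intro x hx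
      have h := congrArg Subtype.val (DFunLike.congr_fun (show ψ z = 1 from hz) ⟨x, hx⟩)
      rw [show ((ψ z ⟨x, hx⟩ : ↥W) : ↥O) = z * x * z⁻¹ from MulAut.conjNormal_apply _ _] at h
      exact mul_inv_eq_iff_eq_mul.1 h
    rw [Subgroup.mem_bot]
    refine (CfsgLib.Classical.isoEquiv Q).injective ?_
    rw [map_one]
    have hzq : ∀ y ∈ commutator (CfsgLib.Classical.qAut Q),
        CfsgLib.Classical.isoEquiv Q z * y = y * CfsgLib.Classical.isoEquiv Q z := by
      intro y hy
      have hy' : (CfsgLib.Classical.isoEquiv Q).symm y ∈ commutator ↥O := by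
        have hle : (commutator (CfsgLib.Classical.qAut Q)).map (CfsgLib.Classical.isoEquiv Q).symm.toMonoidHom ≤
            commutator ↥O := by
          rw [commutator_def, Subgroup.map_commutator, commutator_def]
          exact Subgroup.commutator_mono le_top le_top
        exact hle ⟨y, hy, rfl⟩
      have := congrArg (CfsgLib.Classical.isoEquiv Q) (hcomm _ hy')
      simpa using this
    refine Subtype.ext (LinearEquiv.ext fun x => ?_)
    have h6 : 6 ≤ Module.finrank (ZMod 2) ((Fin 2 ⊕ Fin 2) ⊕ Fin 2 → ZMod 2) := by simp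
    rcases CfsgLib.Classical.centralizer_commutator Q hnd h6 hzq with h | h
    · exact h x
    · rw [h x]
      show -x = x
      funext i
      exact ZMod.neg_eq_self_mod_two _
  have hcW : Subgroup.center ↥W = ⊥ := by
    rw [eq_bot_iff]
    intro x hx
    rw [Subgroup.mem_bot]
    refine Subtype.ext (hinj (MulEquiv.ext fun y => Subtype.ext ?_))
    rw [OneMemClass.coe_one, map_one, MulAut.one_apply, show ((ψ (x : ↥O) y : ↥W) : ↥O) = x * y * (x : ↥O)⁻¹ from
      MulAut.conjNormal_apply _ _]
    have h := congrArg Subtype.val (Subgroup.mem_center_iff.1 hx y)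
    rw [Subgroup.coe_mul, Subgroup.coe_mul] at h
    rw [← h, mul_inv_cancel_right]
  let e' : ↥W ≃* Cfsg.PSU 4 F 2 :=
    (QuotientGroup.quotientBot (G := ↥W)).symm.trans ((QuotientGroup.quotientMulEquivOfEq hcW.symm).trans e)
  have hcO : Nat.card ↥O = 51840 := by
    rw [Nat.card_congr (CfsgLib.Classical.isoEquiv Q).toEquiv, hQdef,
      CfsgLib.Classical.card_qAut_minus hab 2, ZMod.card]
    simp [Finset.prod_range_succ]
  have hcA : Nat.card (MulAut ↥W) = 51840 := by
    rw [Nat.card_congr (MulAut.congr e').toEquiv,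
      CfsgLib.Classical.AutOrder.card_mulaut_psu (K := F) 2 1 le_rfl (pow_one 2).symm hF 4 (by norm_num)
        (by norm_num),
      hP]
    norm_num
  haveI : Finite ↥O := Nat.finite_of_card_ne_zero (by rw [hcO]; norm_num)
  haveI : Finite (MulAut ↥W) := Nat.finite_of_card_ne_zero (by rw [hcA]; norm_num)
  have hbij : Function.Bijective ψ := (Nat.bijective_iff_injective_and_card ψ).2 ⟨hinj, hcO.trans hcA.symm⟩
  exact ⟨(MulAut.congr e').symm.trans (MulEquiv.ofBijective ψ hbij).symm⟩

end CfsgLib.LargeFischer
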