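import Cfsg.Agent.Lib.LargeFischer.Coord
import Cfsg.Agent.Lib.Classical.AutOrder.PSU
import Cfsg.Agent.Lib.LargeFischer.MinusSix

/-!
# The stabiliser of the other vector is the orthogonal group of dimension six of minus type
-/

set_option autoImplicit false
set_option linter.unusedSectionVars false
set_option linter.style.haveILetI false

namespace CfsgLib.LargeFischer

open QuadraticMap Matrix
open CfsgLib.Schur.Tails.UFour (H4)

theorem card_SU4 : Nat.card ↥(Cfsg.SU 4 F4 2) = 25920 := by
  have h := CfsgLib.Classical.card_su (q := 2) (n := 4) card_F4' (by norm_num)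
  have h' : Nat.card ↥(Cfsg.GU 4 F4 2) = 77760 := by
    rw [CfsgLib.Classical.card_gu card_F4' 4]
    rfl
  rw [← CfsgLib.Classical.card_gu card_F4' 4, h'] at h
  omega

theorem center_SU4 : Subgroup.center ↥(Cfsg.SU 4 F4 2) = ⊥ := by
  refine Subgroup.card_eq_one.1 ?_
  rw [CfsgLib.Classical.card_center_su card_F4' (by norm_num)]
  norm_num

/-- The simple group as the special unitary group. -/
theorem psu_equiv_su : Nonempty (Cfsg.PSU 4 F4 2 ≃* ↥(Cfsg.SU 4 F4 2)) :=
  ⟨(QuotientGroup.quotientMulEquivOfEq center_SU4).trans QuotientGroup.quotientBot⟩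

theorem su4_index {H : Subgroup ↥(Cfsg.SU 4 F4 2)} (h : H.index < 27) : H = ⊤ := by
  obtain ⟨e⟩ := psu_equiv_su
  by_contra hne
  have hne' : H.comap e.toMonoidHom ≠ ⊤ := fun he => hne (by
    rw [← Subgroup.map_comap_eq_self_of_surjective (f := e.toMonoidHom) e.surjective H, he,
      Subgroup.map_top_of_surjective _ e.surjective])
  have hb := (CfsgLib.UnMinIndex.psu_four_min_index (F := F4) (q := 2) card_F4').1 _ hne'
  rw [Subgroup.index_comap_of_surjective H (f := e.toMonoidHom) e.surjective] at hb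
  omega

namespace Core

variable {V : Type*} [AddCommGroup V] [Module (ZMod 2) V] [Finite V]
  {K : Type*} [Group K] [Finite K] [DistribMulAction K V]
  {q : QuadraticForm (ZMod 2) V} {n : K} {M : Subgroup K} {φ : ↥M →* ↥H4} (c : Core q n M φ) {s : V}
  (hs : Central q K s)

include c hs

/-- Outside `M` the subgroup of order three is inverted. -/
theorem conj_n_outer {u : K} (hu : u ∉ M) : u * n = n * n * u := by
  obtain ⟨k, hk⟩ := c.exists_outer hs
  rcases c.conj_n u with e | e
  · exfalso
    apply hk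
    have hkM : k ∉ M := fun h => hk (c.commute h)
    have hm : u⁻¹ * k ∈ M := (Subgroup.mul_mem_iff_of_index_two c.indexM).2 (by simp [hu, hkM])
    have hun : u * n = n * u := mul_inv_eq_iff_eq_mul.1 e
    calc k * n = u * ((u⁻¹ * k) * n) := by group
      _ = (u * n) * (u⁻¹ * k) := by rw [c.commute hm]; group
      _ = n * k := by rw [hun]; group
  · exact mul_inv_eq_iff_eq_mul.1 e

set_option maxHeartbeats 1600000 in
theorem rest_iso {t : V} (ht : q t = 0) (ht0 : t ≠ 0) (hts : t ∉ MulAction.orbit K s) :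
    Nonempty (↥(MulAction.stabilizer K t) ≃*
      ↥(Cfsg.isometryGroup (ZMod 2) (Cfsg.quadFormMinus 2 (ZMod 2) 1 1))) := by
  classical
  obtain ⟨hXcard, hYcard⟩ := c.rest_cards hs ht ht0 hts
  obtain ⟨-, hWperp⟩ := c.line_perp hs ht ht0
  obtain ⟨w, cr, hw, hsurj, hker, hwsm, hherm⟩ := c.exists_coord hs ht ht0
  set X := MulAction.stabilizer K t with hX
  set Y := MulAction.stabilizer K t ⊓ M with hY
  have hu2 : ∀ x : K, x ∈ X → x • (n • t) = n • t ∨ x • (n • t) = n • n • t := fun x hx => by
    by_cases hxM : x ∈ M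
    · left; rw [← mul_smul, c.commute hxM, mul_smul, show x • t = t from hx]
    · right; rw [← mul_smul, c.conj_n_outer hs hxM, mul_smul, mul_smul, show x • t = t from hx]
  have hpW : ∀ {x : K}, x ∈ X → ∀ {v : V}, v ∈ Wsp q n t → x • v ∈ Wsp q n t := by
    intro x hx v hv
    have e0 : x⁻¹ • t = t := inv_smul_eq_iff.2 (show x • t = t from hx).symm
    have e1 := hu2 x⁻¹ (X.inv_mem hx)
    refine ⟨?_, ?_⟩
    · rw [← c.polar_smul x⁻¹, inv_smul_smul, e0]; exact hv.1
    · rw [← c.polar_smul x⁻¹, inv_smul_smul]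
      rcases e1 with e | e <;> rw [e]
      · exact hv.2
      · rw [c.n_quad hs, QuadraticMap.polar_add_right, hv.1, hv.2, add_zero]
  let act : ↥X → ↥(Wsp q n t) → ↥(Wsp q n t) := fun x v => ⟨(x : K) • (v : V), hpW x.2 v.2⟩
  -- the maps on coordinates
  choose lift hlift using hsurj
  let L : ↥X → (Fin 4 → F4) → (Fin 4 → F4) := fun x v => cr (act x (lift v))
  have hT : ∀ (x : ↥X) (v : ↥(Wsp q n t)), cr v = 0 → cr (act x v) = 0 := by
    intro x v hv
    rw [hker] at hv ⊢
    show (x : K) • (v : V) = 0 ∨ (x : K) • (v : V) = t ∨ (x : K) • (v : V) = n • t ∨ (x : K) • (v : V) = t + n • t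
    have e0 : (x : K) • t = t := x.2
    rcases hv with e | e | e | e <;> rw [e]
    · exact .inl (smul_zero _)
    · exact .inr (.inl e0)
    · rcases hu2 _ x.2 with e1 | e1 <;> rw [e1]
      · exact .inr (.inr (.inl rfl))
      · exact .inr (.inr (.inr (c.n_quad hs t)))
    · rw [smul_add, e0]
      rcases hu2 _ x.2 with e1 | e1 <;> rw [e1]
      · exact .inr (.inr (.inr rfl))
      · refine .inr (.inr (.inl ?_))
        rw [c.n_quad hs, ← add_assoc, vadd_self, zero_add]
  have hLcr : ∀ (x : ↥X) (v : ↥(Wsp q n t)), L x (cr v) = cr (act x v) := by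
    intro x v
    have h1 := hT x (lift (cr v) - v) (by rw [map_sub, hlift, sub_self])
    have e : act x (lift (cr v) - v) = act x (lift (cr v)) - act x v := Subtype.ext (smul_sub _ _ _)
    rw [e, map_sub, sub_eq_zero] at h1
    exact h1
  have hLadd : ∀ (x : ↥X) u v, L x (u + v) = L x u + L x v := by
    intro x u v
    obtain ⟨a, rfl⟩ : ∃ a, cr a = u := ⟨_, hlift u⟩
    obtain ⟨b, rfl⟩ : ∃ b, cr b = v := ⟨_, hlift v⟩
    rw [← map_add, hLcr, hLcr, hLcr, ← map_add]
    exact congrArg cr (Subtype.ext (smul_add _ _ _))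
  have hLmul : ∀ (x y : ↥X) v, L (x * y) v = L x (L y v) := by
    intro x y v
    obtain ⟨a, rfl⟩ : ∃ a, cr a = v := ⟨_, hlift v⟩
    rw [hLcr y a, hLcr, hLcr]
    exact congrArg cr (Subtype.ext (mul_smul (x : K) (y : K) (a : V)))
  have hLone : ∀ v, L 1 v = v := by
    intro v
    obtain ⟨a, rfl⟩ : ∃ a, cr a = v := ⟨_, hlift v⟩
    rw [hLcr]
    exact congrArg cr (Subtype.ext (one_smul K (a : V)))
  have hnW : ∀ v : ↥(Wsp q n t), n • (v : V) ∈ Wsp q n t := fun v =>
    ⟨by rw [c.polar_n_left hs, v.2.1, v.2.2, add_zero], by rw [c.polar_smul]; exact v.2.1⟩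
  have hem : ∀ r : ZMod 2, ∀ (x : ↥X) (v : Fin 4 → F4), L x (em r • v) = em r • L x v := by
    intro r x v
    rcases z2_cases r with rfl | rfl
    · rw [map_zero, zero_smul, zero_smul]
      have := hLadd x 0 0
      rw [add_zero] at this
      exact (left_eq_add.1 this)
    · rw [map_one, one_smul, one_smul]
  have hLw : ∀ (x : ↥X) v, L x (w • v) = (if (x : K) ∈ M then w else w ^ 2) • L x v := by
    intro x v
    obtain ⟨a, rfl⟩ : ∃ a, cr a = v := ⟨_, hlift v⟩
    rw [← hwsm a ⟨_, hnW a⟩ rfl, hLcr, hLcr]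
    split_ifs with hxM
    · exact hwsm _ _ (show (x : K) • n • (a : V) = n • (x : K) • (a : V) by
        rw [← mul_smul, c.commute hxM, mul_smul])
    · have h1 := hwsm (act x a) ⟨_, hnW (act x a)⟩ rfl
      have h2 := hwsm ⟨_, hnW (act x a)⟩ (act x ⟨n • (a : V), hnW a⟩)
        (show (x : K) • n • (a : V) = n • n • (x : K) • (a : V) by
          rw [← mul_smul, c.conj_n_outer hs hxM, mul_smul, mul_smul])
      rw [h2, h1, smul_smul, pow_two]
  have hscal : ∀ (x : ↥X) (r : F4) v, L x (r • v) = (if (x : K) ∈ M then r else r ^ 2) • L x v := by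
    intro x r v
    obtain ⟨a, b, rfl⟩ := surj_F4 hw r
    rw [add_smul, hLadd, mul_smul, hem, hem, hLw]
    split_ifs with hxM
    · rw [smul_smul, ← add_smul]
    · rw [smul_smul, ← add_smul]
      congr 1
      rw [conj_coord hw, pow_two, hw]
      simp only [map_add]
      ring
  -- the part in `M`
  haveI := c.M_normal
  let toX : ↥Y → ↥X := fun y => ⟨y, y.2.1⟩
  let Llin : ↥Y → ((Fin 4 → F4) →ₗ[F4] (Fin 4 → F4)) := fun y =>
    { toFun := L (toX y)
      map_add' := hLadd _
      map_smul' := fun r v => by rw [hscal, if_pos (show ((toX y : ↥X) : K) ∈ M from y.2.2)]; rfl }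
  let A : ↥Y →* Matrix (Fin 4) (Fin 4) F4 :=
    { toFun := fun y => LinearMap.toMatrix' (Llin y)
      map_one' := by
        apply Matrix.toLin'.injective
        refine LinearMap.ext fun v => ?_
        simp only [Matrix.toLin'_toMatrix', Matrix.toLin'_one, LinearMap.id_apply]
        exact hLone v
      map_mul' := fun x y => by
        apply Matrix.toLin'.injective
        refine LinearMap.ext fun v => ?_
        simp only [Matrix.toLin'_toMatrix', Matrix.toLin'_mul, LinearMap.comp_apply]
        exact hLmul (toX x) (toX y) v }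
  have hA : ∀ y v, A y *ᵥ v = L (toX y) v := fun y v => LinearMap.toMatrix'_mulVec (Llin y) v
  have hAgu : ∀ y, A.toHomUnits y ∈ Cfsg.GU 4 F4 2 := by
    intro y u v
    show Cfsg.hermForm 4 F4 2 (A y *ᵥ u) (A y *ᵥ v) = Cfsg.hermForm 4 F4 2 u v
    obtain ⟨a, rfl⟩ : ∃ a, cr a = u := ⟨_, hlift u⟩
    obtain ⟨b, rfl⟩ : ∃ b, cr b = v := ⟨_, hlift v⟩
    rw [hA, hA, hLcr, hLcr, hherm, hherm]
    show em (polar q ((y : K) • (a : V)) (n • (y : K) • (b : V))) +
      em (polar q ((y : K) • (a : V)) ((y : K) • (b : V))) * w = _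
    rw [← mul_smul n, ← c.commute y.2.2, mul_smul, c.polar_smul, c.polar_smul]
  let ψ : ↥Y →* ↥(Cfsg.GU 4 F4 2) := A.toHomUnits.codRestrict _ hAgu
  have hψ : Function.Injective ψ := by
    rw [← MonoidHom.ker_eq_bot_iff]
    have h2 : IsPGroup 2 ↥ψ.ker := by
      rintro ⟨p, hp⟩
      refine ⟨2, Subtype.ext (Subtype.ext ?_)⟩
      show (p : K) ^ (2 ^ 2) = 1
      have hA1 : A p = 1 := congrArg (fun g : ↥(Cfsg.GU 4 F4 2) => ((g : GL (Fin 4) F4) : Matrix (Fin 4) (Fin 4) F4))
        (MonoidHom.mem_ker.1 hp)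
      have hfix : ∀ u, u = 0 ∨ u = t ∨ u = n • t ∨ u = t + n • t → (p : K) • u = u := by
        have e0 : (p : K) • t = t := p.2.1
        have e1 : (p : K) • n • t = n • t := by rw [← mul_smul, c.commute p.2.2, mul_smul, e0]
        rintro u (rfl | rfl | rfl | rfl)
        · exact smul_zero _
        · exact e0
        · exact e1
        · rw [smul_add, e0, e1]
      have hsq : ∀ x : ↥(Wsp q n t), ((p : K) * p) • (x : V) = x := by
        intro x
        have h1 : cr (act (toX p) x - x) = 0 := by
          rw [map_sub, ← hLcr, ← hA, hA1, Matrix.one_mulVec, sub_self]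
        have h2 := hfix _ ((hker _).1 h1)
        rw [AddSubgroup.coe_sub, smul_sub] at h2
        rw [mul_smul]
        change (p : K) • ((p : K) • (x : V)) - (p : K) • (x : V) = (p : K) • (x : V) - x at h2
        calc (p : K) • (p : K) • (x : V)
            = ((p : K) • (p : K) • (x : V) - (p : K) • (x : V)) + (p : K) • (x : V) := by abel
          _ = ((p : K) • (x : V) - x) + (p : K) • (x : V) := by rw [h2]
          _ = ((p : K) • (x : V) + (p : K) • (x : V)) - x := by abel
          _ = x := by rw [vadd_self, zero_sub]; exact (eq_neg_of_add_eq_zero_left (vadd_self _)).symm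
      refine c.faithful _ fun v => ?_
      have h3 : ((p : K) * p) • v + v = 0 ∨ ((p : K) * p) • v + v = t ∨ ((p : K) * p) • v + v = n • t ∨
          ((p : K) * p) • v + v = t + n • t := by
        refine hWperp _ fun y hy => ?_
        rw [QuadraticMap.polar_add_left]
        have e : polar q (((p : K) * p) • v) (((p : K) * p) • y) = polar q v y := c.polar_smul _ v y
        rw [show ((p : K) * p) • y = y from hsq ⟨y, hy⟩] at e
        rw [e, CharTwo.add_self_eq_zero]
      have h4 : ((p : K) * p) • (((p : K) * p) • v + v) = ((p : K) * p) • v + v := by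
        rw [mul_smul _ _ (((p : K) * p) • v + v), hfix _ h3, hfix _ h3]
      rw [smul_add] at h4
      rw [show (p : K) ^ (2 ^ 2) = (p : K) * p * ((p : K) * p) by norm_num [pow_succ, mul_assoc], mul_smul]
      exact add_right_cancel (b := ((p : K) * p) • v) (by rw [h4, add_comm])
    have hbot := c.rest_two_core hs ht ht0 hts (P := ψ.ker.map Y.subtype) (Subgroup.map_subtype_le _)
      (fun y hy p hp => by
        obtain ⟨p', hp', rfl⟩ := hp
        exact ⟨⟨y, hy⟩ * p' * ⟨y, hy⟩⁻¹, (MonoidHom.normal_ker ψ).conj_mem _ hp' _, rfl⟩)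
      (h2.map Y.subtype)
    exact (Subgroup.map_eq_bot_iff_of_injective _ Y.subtype_injective).1 hbot
  -- onto the special unitary group
  let dt : ↥Y →* F4ˣ := (CfsgLib.Classical.guDet 4 F4 2).comp ψ
  have hdetA : ∀ y : ↥dt.ker, (A (y : ↥Y)).det = 1 := fun y => by
    have := congrArg Units.val (MonoidHom.mem_ker.1 y.2)
    simpa [dt, CfsgLib.Classical.guDet, ψ] using this
  let χ : ↥dt.ker →* ↥(Cfsg.SU 4 F4 2) :=
    MonoidHom.mk' (fun y => ⟨⟨A (y : ↥Y), hdetA y⟩, hAgu (y : ↥Y)⟩) fun x y =>
      Subtype.ext (Subtype.ext (map_mul A _ _))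
  have hχ : Function.Injective χ := fun x y e =>
    Subtype.ext (hψ (Subtype.ext (Units.ext (congrArg (fun g : ↥(Cfsg.SU 4 F4 2) => (g : SpecialLinearGroup (Fin 4) F4).1) e))))
  have hYc : Nat.card ↥Y = 25920 := hYcard
  have hdt3 : dt.ker.index ≤ 3 := by
    rw [Subgroup.index_ker]
    refine (Nat.le_of_dvd Nat.card_pos (Subgroup.card_subgroup_dvd_card _)).trans ?_
    rw [Nat.card_units, Nat.card_eq_fintype_card, card_F4]
  have hdk : 8640 ≤ Nat.card ↥dt.ker := by
    have h := dt.ker.card_mul_index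
    rw [hYc] at h
    nlinarith
  have hrange : χ.range = ⊤ := su4_index (by
    have h1 := χ.range.card_mul_index
    rw [card_SU4, ← Nat.card_congr (MonoidHom.ofInjective hχ).toEquiv] at h1
    by_contra h
    nlinarith)
  have hχc : Nat.card ↥dt.ker = 25920 := by
    rw [Nat.card_congr (MonoidHom.ofInjective hχ).toEquiv, hrange, Subgroup.card_top, card_SU4]
  have hdtk : dt.ker = ⊤ := Subgroup.eq_top_of_card_eq _ (by rw [hχc, hYc])
  let eY : ↥Y ≃* ↥(Cfsg.SU 4 F4 2) := (Subgroup.topEquiv.symm.trans (MulEquiv.subgroupCongr hdtk.symm)).trans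
    (MulEquiv.ofBijective χ ⟨hχ, MonoidHom.range_eq_top.1 hrange⟩)
  have heY : ∀ y : ↥Y, (((eY y : ↥(Cfsg.SU 4 F4 2)) : SpecialLinearGroup (Fin 4) F4) : Matrix (Fin 4) (Fin 4) F4) = A y :=
    fun y => rfl
  -- the whole stabiliser acts faithfully on the part in `M`
  let eY' : ↥(M.subgroupOf X) ≃* ↥Y :=
    { toFun := fun y => ⟨((y : ↥X) : K), (y : ↥X).2, y.2⟩
      invFun := fun y => ⟨⟨(y : K), y.2.1⟩, y.2.2⟩
      left_inv := fun y => rfl
      right_inv := fun y => rfl
      map_mul' := fun x y => rfl }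
  let θ : ↥X →* MulAut ↥(M.subgroupOf X) := MulAut.conjNormal
  have hθ : Function.Injective θ := by
    rw [injective_iff_map_eq_one]
    intro u hu
    have hcom : ∀ y : ↥(M.subgroupOf X), u * (y : ↥X) = (y : ↥X) * u := fun y => by
      have h := congrArg Subtype.val (DFunLike.congr_fun hu y)
      rw [MulAut.conjNormal_apply] at h
      exact mul_inv_eq_iff_eq_mul.1 h
    by_cases huM : (u : K) ∈ M
    · have hc : eY (eY' ⟨u, huM⟩) ∈ Subgroup.center ↥(Cfsg.SU 4 F4 2) := Subgroup.mem_center_iff.2 fun g => by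
        obtain ⟨y, rfl⟩ := (eY'.trans eY).surjective g
        show eY (eY' y) * eY (eY' ⟨u, huM⟩) = eY (eY' ⟨u, huM⟩) * eY (eY' y)
        rw [← map_mul, ← map_mul, ← map_mul, ← map_mul]
        exact congrArg (fun z => eY (eY' z)) (Subtype.ext (hcom y).symm)
      rw [center_SU4, Subgroup.mem_bot] at hc
      have := (eY'.trans eY).injective (hc.trans (map_one (eY'.trans eY)).symm)
      exact congrArg Subtype.val this
    · exfalso
      -- a semilinear map commuting with the unitary group forces traces into the prime field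
      let B : Matrix (Fin 4) (Fin 4) F4 := Matrix.of fun i j => L u (Pi.single j 1) i
      let cj : (Fin 4 → F4) → (Fin 4 → F4) := fun v j => v j ^ 2
      have hLu0 : L u 0 = 0 := by
        have := hLadd u 0 0
        rw [add_zero] at this
        exact left_eq_add.1 this
      have hB : ∀ v, L u v = B *ᵥ cj v := by
        intro v
        let f : (Fin 4 → F4) →+ (Fin 4 → F4) := AddMonoidHom.mk' (L u) (hLadd u)
        have hv : v = ∑ j, v j • (Pi.single j (1 : F4) : Fin 4 → F4) := by
          funext i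
          simp [Finset.sum_apply, Pi.single_apply]
        have e : L u v = f v := rfl
        rw [e]
        conv_lhs => rw [hv, map_sum]
        funext i
        rw [Finset.sum_apply, Matrix.mulVec, dotProduct]
        refine Finset.sum_congr rfl fun j _ => ?_
        show L u (v j • (Pi.single j (1 : F4) : Fin 4 → F4)) i = _
        rw [hscal, if_neg huM, Pi.smul_apply, smul_eq_mul, mul_comm]
        rfl
      have hcjA : ∀ (N : Matrix (Fin 4) (Fin 4) F4) v, cj (N *ᵥ v) = N.map (fun x => x ^ 2) *ᵥ cj v := by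
        intro N v
        funext i
        simp only [cj, Matrix.mulVec, dotProduct, Matrix.map_apply, ← mul_pow]
        exact map_sum (frobenius F4 2) _ _
      have hcjsurj : Function.Surjective cj := Finite.surjective_of_injective fun a b e => funext fun i =>
        frobenius_inj F4 2 (congrFun e i)
      have hBsurj : Function.Surjective fun v => B *ᵥ v := fun v => by
        refine ⟨cj (L u⁻¹ v), ?_⟩
        show B *ᵥ _ = v
        rw [← hB, ← hLmul, mul_inv_cancel, hLone]
      have hBunit : IsUnit B := Matrix.mulVec_surjective_iff_isUnit.1 hBsurj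
      have hAB : ∀ y : ↥Y, A y * B = B * (A y).map (fun x => x ^ 2) := by
        intro y
        have h : ∀ v, A y *ᵥ L u v = L u (A y *ᵥ v) := fun v => by
          rw [hA, hA, ← hLmul, ← hLmul]
          exact congrArg (fun z => L z v) (hcom (eY'.symm y)).symm
        apply Matrix.ext_of_mulVec_single
        intro j
        obtain ⟨v, hv⟩ := hcjsurj (Pi.single j 1)
        rw [← hv, ← Matrix.mulVec_mulVec, ← Matrix.mulVec_mulVec, ← hB, ← hcjA, ← hB]
        exact h v
      have htr : ∀ y : ↥Y, (A y).trace ^ 2 = (A y).trace := by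
        intro y
        obtain ⟨Bu, hBu⟩ := hBunit
        have h1 : (A y).map (fun x => x ^ 2) = (↑Bu⁻¹ : Matrix (Fin 4) (Fin 4) F4) * (A y * B) := by
          rw [hAB, ← Matrix.mul_assoc, ← hBu, Units.inv_mul, Matrix.one_mul]
        have h2 : ((A y).map (fun x => x ^ 2)).trace = (A y).trace := by
          rw [h1, Matrix.trace_mul_comm, Matrix.mul_assoc, ← hBu, Units.mul_inv, Matrix.mul_one]
        have h3 : ((A y).map (fun x => x ^ 2)).trace = (A y).trace ^ 2 := by
          simp only [Matrix.trace, Matrix.diag_apply, Matrix.map_apply]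
          exact (map_sum (frobenius F4 2) _ _).symm
        rw [← h3, h2]
      have h2 : (2 : F4) = 0 := CharTwo.two_eq_zero
      have hw3 : w * w * w = 1 := by linear_combination (w + 1) * hw + w * h2
      let d : Fin 4 → F4 := ![w, w, w, 1]
      have hdet : (Matrix.diagonal d).det = 1 := by
        rw [Matrix.det_diagonal, Fin.prod_univ_four]
        simp [d, hw3]
      have hd3 : ∀ i, d i * d i ^ 2 = 1 := by
        intro i
        fin_cases i <;> simp [d] <;> linear_combination hw3
      let gd : ↥(Cfsg.SU 4 F4 2) := ⟨⟨Matrix.diagonal d, hdet⟩, fun a b => by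
        show Cfsg.hermForm 4 F4 2 (Matrix.diagonal d *ᵥ a) (Matrix.diagonal d *ᵥ b) = Cfsg.hermForm 4 F4 2 a b
        simp only [Cfsg.hermForm, Matrix.mulVec_diagonal, mul_pow]
        refine Finset.sum_congr rfl fun i _ => ?_
        linear_combination (a i * b i ^ 2) * hd3 i⟩
      obtain ⟨y, hy⟩ := eY.surjective gd
      have hAy : A y = Matrix.diagonal d := by rw [← heY y, hy]
      have h := htr y
      rw [hAy, Matrix.trace_diagonal, Fin.sum_univ_four] at h
      simp [d] at h
      have hw0 : w * w ≠ 0 := mul_ne_zero (fun e => zero_ne_one (α := F4) (by rw [← hw3, e]; ring))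
        (fun e => zero_ne_one (α := F4) (by rw [← hw3, e]; ring))
      exact one_ne_zero (α := F4) (by linear_combination h - 9 * hw - (6 * w + 4) * h2)
  obtain ⟨eP⟩ := psu_equiv_su
  let η : ↥X →* MulAut (Cfsg.PSU 4 F4 2) := (MulAut.congr ((eY'.trans eY).trans eP.symm)).toMonoidHom.comp θ
  have hη : Function.Injective η := (MulAut.congr ((eY'.trans eY).trans eP.symm)).injective.comp hθ
  have hbij : Function.Bijective η := (Nat.bijective_iff_injective_and_card _).2 ⟨hη, by
    haveI := Fact.mk Nat.prime_two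
    rw [CfsgLib.Classical.AutOrder.card_mulaut_psu 2 1 le_rfl (q := 2) (by norm_num)
      (by rw [card_F4]; norm_num) 4 (by norm_num) (by norm_num),
      Nat.card_congr eP.toEquiv, card_SU4]
    exact hXcard.trans (by norm_num)⟩
  obtain ⟨eM⟩ := minus_six_iso (F := F4) card_F4' (by rw [Nat.card_congr eP.toEquiv, card_SU4])
  exact ⟨(MulEquiv.ofBijective η hbij).trans eM⟩

end Core

end CfsgLib.LargeFischer
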