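import Cfsg.Agent.Lib.LargeFischer.Conj
import Cfsg.Agent.Lib.LargeFischer.Rest

/-!
# Groups of large Fischer type: conjugates of the central involution
-/

set_option autoImplicit false
set_option linter.unusedSectionVars false

namespace CfsgLib.LargeFischer

open Subgroup QuadraticMap CfsgLib.LargeExtra
open CfsgLib.Schur.Tails.UFour (H4)

variable {G : Type*} [Group G] [Finite G] {z : G} {Q : Subgroup (centralizer ({z} : Set G))} [Q.Normal]

theorem pairHyp_of (hF : Cfsg.IsOfLargeFischerTypeAt z Q) {g : G}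
    (hmem : g * z * g⁻¹ ∈ Q.map (centralizer ({z} : Set G)).subtype) (hne : g * z * g⁻¹ ≠ z) :
    PairHyp (Q.map (centralizer ({z} : Set G)).subtype) z g := by
  obtain ⟨⟨hz, hFit, hQ, -, -⟩, -⟩ := hF
  have eQ := Q.equivMapOfInjective (centralizer ({z} : Set G)).subtype (subtype_injective _)
  have hEg := CfsgLib.LargeExtra.isExtraspecial_of_mulEquiv eQ hQ
  obtain ⟨h1, h2, h3⟩ := extra_data hz (map_subtype_le Q) (by rw [hFit]) hEg
  exact ⟨hEg, h1, hz, h2, h3, hmem, hne⟩

namespace Model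

variable {V : Type*} [AddCommGroup V] [Module (ZMod 2) V] [DistribMulAction ((centralizer ({z} : Set G)) ⧸ Q) V]
  [Finite V] {q : QuadraticForm (ZMod 2) V} {π : ↥Q → V} {n : (centralizer ({z} : Set G)) ⧸ Q}
  {M : Subgroup ((centralizer ({z} : Set G)) ⧸ Q)} {φ : ↥M →* ↥H4} (m : Model z Q q π n M φ)
  (hF : Cfsg.IsOfLargeFischerTypeAt z Q)

include m hF

theorem central_of_isConj {x : ↥Q} (hx : IsConj z ((x : centralizer ({z} : Set G)) : G))
    (hne : ((x : centralizer ({z} : Set G)) : G) ≠ z) : Central q ((centralizer ({z} : Set G)) ⧸ Q) (π x) := by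
  obtain ⟨g, hg⟩ := isConj_iff.1 hx
  have h := pairHyp_of hF (g := g) (hg ▸ ⟨_, x.2, rfl⟩) (hg ▸ hne)
  obtain ⟨h1, D, hd, -⟩ := m.centData h hF.1.2.2.2.1 (x := x) hg.symm
  exact ⟨h1, ⟨_, D, hd⟩⟩

theorem exists_central : ∃ x : ↥Q, IsConj z ((x : centralizer ({z} : Set G)) : G) ∧
    ((x : centralizer ({z} : Set G)) : G) ≠ z := by
  obtain ⟨g, ⟨hq, hm⟩, hne⟩ := hF.1.2.2.2.2
  exact ⟨⟨_, hm⟩, isConj_iff.2 ⟨g, rfl⟩, hne⟩

theorem exists_swap {x : ↥Q} (h1 : ((x : centralizer ({z} : Set G)) : G) ≠ 1)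
    (h2 : ((x : centralizer ({z} : Set G)) : G) ≠ z) :
    ∃ b : ↥Q, ((b : centralizer ({z} : Set G)) : G) * (x : centralizer ({z} : Set G)) *
      ((b : centralizer ({z} : Set G)) : G)⁻¹ = ((x : centralizer ({z} : Set G)) : G) * z := by
  have hne : π x ≠ 0 := fun e => ((m.ker x).1 e).elim h1 h2
  obtain ⟨v, hv⟩ : ∃ v, polar q (π x) v ≠ 0 := by
    by_contra hc
    simp only [not_exists, not_not] at hc
    exact hne (m.core.nondeg _ hc)
  obtain ⟨b, rfl⟩ := m.surj v
  refine ⟨b, ?_⟩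
  have h3 : π (b * x * b⁻¹) = π x := by
    rw [m.pi_mul, m.pi_mul, m.pi_inv, add_comm (π b) (π x), add_assoc, vadd_self, add_zero]
  rcases m.pi_eq h3.symm with e | e
  · exfalso
    exact hv ((m.polar_iff x b).2 (mul_inv_eq_iff_eq_mul.1 e).symm)
  · exact e

theorem exists_conj {x y : ↥Q} (hx0 : π x ≠ 0)
    (h : π y ∈ MulAction.orbit ((centralizer ({z} : Set G)) ⧸ Q) (π x)) :
    ∃ c : centralizer ({z} : Set G), c * (x : centralizer ({z} : Set G)) * c⁻¹ = y := by
  obtain ⟨k, hk⟩ := h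
  obtain ⟨c, rfl⟩ := QuotientGroup.mk_surjective k
  have hk' : π (MulAut.conjNormal c x) = π y := (m.equiv c x).symm.trans hk
  have hy0 : π y ≠ 0 := by
    intro e
    refine hx0 ?_
    rw [← inv_smul_smul (QuotientGroup.mk c : (centralizer ({z} : Set G)) ⧸ Q) (π x), m.equiv, hk', e, smul_zero]
  have hval : ((MulAut.conjNormal c x : ↥Q) : centralizer ({z} : Set G)) = c * x * c⁻¹ := MulAut.conjNormal_apply _ _
  rcases m.pi_eq hk' with e | e <;> rw [hval] at e
  · exact ⟨c, Subtype.ext e.symm⟩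
  · obtain ⟨b, hb⟩ := m.exists_swap hF (x := y) (fun e' => hy0 ((m.ker y).2 (.inl e')))
      (fun e' => hy0 ((m.ker y).2 (.inr e')))
    refine ⟨(b : centralizer ({z} : Set G)) * c, Subtype.ext ?_⟩
    have e' : (c : G) * ((x : centralizer ({z} : Set G)) : G) * (c : G)⁻¹ =
        ((y : centralizer ({z} : Set G)) : G) * z := by
      have hzz : z * z = 1 := by rw [← pow_two, ← hF.1.1, pow_orderOf_eq_one]
      rw [e, mul_assoc _ z z, hzz, mul_one]
      rfl
    have hbz : ((b : centralizer ({z} : Set G)) : G) * z * ((b : centralizer ({z} : Set G)) : G)⁻¹ = z := by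
      rw [mem_centralizer_singleton_iff.1 (b : centralizer ({z} : Set G)).2, mul_inv_cancel_right]
    show ((b : centralizer ({z} : Set G)) : G) * (c : G) * ((x : centralizer ({z} : Set G)) : G) *
      (((b : centralizer ({z} : Set G)) : G) * (c : G))⁻¹ = _
    calc _ = ((b : centralizer ({z} : Set G)) : G) * ((c : G) * ((x : centralizer ({z} : Set G)) : G) * (c : G)⁻¹) *
          ((b : centralizer ({z} : Set G)) : G)⁻¹ := by group
      _ = (((b : centralizer ({z} : Set G)) : G) * ((y : centralizer ({z} : Set G)) : G) *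
          ((b : centralizer ({z} : Set G)) : G)⁻¹) *
          (((b : centralizer ({z} : Set G)) : G) * z * ((b : centralizer ({z} : Set G)) : G)⁻¹) := by rw [e']; group
      _ = ((y : centralizer ({z} : Set G)) : G) := by
        have hzz : z * z = 1 := by rw [← pow_two, ← hF.1.1, pow_orderOf_eq_one]
        rw [hb, hbz, mul_assoc, hzz, mul_one]

/-- A vector off the orbit of the conjugates of the central involution. -/
theorem not_mem_orbit {x y : ↥Q} (hx : IsConj z ((x : centralizer ({z} : Set G)) : G))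
    (hne : ((x : centralizer ({z} : Set G)) : G) ≠ z) (hy : ¬ IsConj z ((y : centralizer ({z} : Set G)) : G)) :
    π y ∉ MulAction.orbit ((centralizer ({z} : Set G)) ⧸ Q) (π x) := by
  intro h
  obtain ⟨c, hc⟩ := m.exists_conj hF (m.central_of_isConj hF hx hne).ne h
  refine hy (hx.trans (isConj_iff.2 ⟨(c : G), ?_⟩))
  exact congrArg Subtype.val hc

end Model

end CfsgLib.LargeFischer
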