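import Cfsg.Agent.Lib.LargeFischer.Lagrangian
import Cfsg.Agent.Lib.LargeFischer.Main

/-!
# Groups of large Fischer type: facts about the second class needed for the elementary groups of order `2^11`
-/

set_option autoImplicit false
set_option linter.unusedSectionVars false

namespace CfsgLib.LargeFischer

open QuadraticMap
open CfsgLib.Schur.Tails.UFour (H4 card_H4)

theorem elem_inf {K : Type*} [Group K] {A B : Subgroup K} (hA : Cfsg.IsElementaryAbelian 2 A) :
    Cfsg.IsElementaryAbelian 2 (A ⊓ B) :=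
  ⟨⟨⟨fun a b => Subtype.ext (congrArg (fun z : ↥A => (z : K))
    (hA.1.is_comm.comm ⟨a, a.2.1⟩ ⟨b, b.2.1⟩))⟩⟩, fun a ha => hA.2 a ha.1⟩

/-- A linear functional on a subgroup is given by the polar form. -/
theorem exists_polar {V : Type*} [AddCommGroup V] [Module (ZMod 2) V] [Finite V] (q : QuadraticForm (ZMod 2) V)
    (hnd : ∀ v, (∀ w, polar q v w = 0) → v = 0) (U : AddSubgroup V) (f : ↥U →+ ZMod 2) :
    ∃ v : V, ∀ u : ↥U, polar q v (u : V) = f u := by
  haveI : Module.Finite (ZMod 2) V := Module.Finite.of_finite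
  let B : LinearMap.BilinForm (ZMod 2) V := q.polarBilin
  have hB : B.Nondegenerate := by
    refine ⟨fun x h => hnd x fun w => h w, fun y h => hnd y fun w => ?_⟩
    rw [QuadraticMap.polar_comm]; exact h w
  let f' : ↥(AddSubgroup.toZModSubmodule 2 U) →+ ZMod 2 := f
  obtain ⟨g, hg⟩ := LinearMap.exists_extend (p := AddSubgroup.toZModSubmodule 2 U) (f'.toZModLinearMap 2)
  refine ⟨(B.toDual hB).symm g, fun u => ?_⟩
  exact (LinearMap.BilinForm.apply_toDual_symm_apply (B := B) (hB := hB) g (u : V)).trans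
    (LinearMap.congr_fun hg ⟨u, u.2⟩)

namespace Core

variable {V : Type*} [AddCommGroup V] [Module (ZMod 2) V] [Finite V]
  {K : Type*} [Group K] [Finite K] [DistribMulAction K V]
  {q : QuadraticForm (ZMod 2) V} {n : K} {M : Subgroup K} {φ : ↥M →* ↥H4} (c : Core q n M φ)

include c

/-- A group of order sixteen in `M` in the class other than that of a given one. -/
theorem exists_other_class {A₀ : Subgroup K} :
    ∃ A : Subgroup K, A ≤ M ∧ Cfsg.IsElementaryAbelian 2 A ∧ Nat.card ↥A = 16 ∧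
      U43.fixCount ((A.subgroupOf M).map φ) ≠ U43.fixCount ((A₀.subgroupOf M).map φ) := by
  obtain ⟨Eb, hEb, h16, hne⟩ := U43.exists_other ((A₀.subgroupOf M).map φ)
  have hcomm : ∀ a b : ↥M, φ a ∈ Eb → φ b ∈ Eb → (a : K) * a = 1 → (b : K) * b = 1 →
      (a : K) * b = b * a := by
    intro a b ha hb ha2 hb2
    have h1 : φ (a⁻¹ * b⁻¹ * a * b) = 1 := by
      rw [map_mul, map_mul, map_mul, map_inv, map_inv]
      have e : φ a * φ b = φ b * φ a := congrArg Subtype.val (hEb.1.is_comm.comm (⟨_, ha⟩ : ↥Eb) ⟨_, hb⟩)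
      rw [mul_assoc, e]
      group
    have h2 := (c.ker _).1 h1
    have hai : (a : K)⁻¹ = a := inv_eq_of_mul_eq_one_left ha2
    have hbi : (b : K)⁻¹ = b := inv_eq_of_mul_eq_one_left hb2
    simp only [Subgroup.coe_mul, Subgroup.coe_inv, hai, hbi] at h2
    set w := (a : K) * b * a * b with hw
    have hwa : w * a = a * w := by
      rcases c.zn_cases h2 with e | e | e <;> rw [e]
      · simp
      · exact (c.commute a.2).symm
      · rw [mul_assoc, ← c.commute a.2, ← mul_assoc, ← c.commute a.2, mul_assoc]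
    have hw2 : w * w = 1 := by
      have e1 : (b : K) * a * b = a * w := by
        rw [hw, ← mul_assoc, ← mul_assoc, ← mul_assoc, ha2, one_mul]
      calc w * w = ((a : K) * a) * (w * w) := by rw [ha2, one_mul]
        _ = (a : K) * ((a : K) * w) * w := by group
        _ = (a : K) * (w * (a : K)) * w := by rw [hwa]
        _ = ((a : K) * w) * ((a : K) * w) := by group
        _ = ((b : K) * a * b) * ((b : K) * a * b) := by rw [e1]
        _ = 1 := by
          rw [show (b : K) * a * b * ((b : K) * a * b) = (b : K) * (a * ((b : K) * b) * a) * b by group, hb2,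
            mul_one, ha2, mul_one, hb2]
    have hw1 : w = 1 := by
      rcases c.zn_cases h2 with e | e | e
      · exact e
      · rw [e] at hw2
        have := orderOf_dvd_of_pow_eq_one (show n ^ 2 = 1 by rw [pow_two]; exact hw2)
        rw [c.ordn] at this
        omega
      · rw [e, ← mul_assoc, c.n_three, one_mul] at hw2
        exact absurd hw2 c.n_ne
    have h4 : ((a : K) * b) * ((a : K) * b) = 1 := by rw [← hw1, hw]; group
    rw [← inv_eq_of_mul_eq_one_left h4, mul_inv_rev, hai, hbi]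
  let A : Subgroup K :=
    { carrier := {k | ∃ hk : k ∈ M, φ ⟨k, hk⟩ ∈ Eb ∧ k * k = 1}
      one_mem' := ⟨M.one_mem, by rw [show (⟨1, M.one_mem⟩ : ↥M) = 1 from rfl, map_one]; exact Eb.one_mem, one_mul 1⟩
      mul_mem' := by
        rintro a b ⟨ha, ha1, ha2⟩ ⟨hb, hb1, hb2⟩
        refine ⟨M.mul_mem ha hb, ?_, ?_⟩
        · rw [show (⟨a * b, M.mul_mem ha hb⟩ : ↥M) = ⟨a, ha⟩ * ⟨b, hb⟩ from rfl, map_mul]
          exact Eb.mul_mem ha1 hb1
        · have e := hcomm ⟨a, ha⟩ ⟨b, hb⟩ ha1 hb1 ha2 hb2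
          calc a * b * (a * b) = a * (b * a) * b := by group
            _ = (a * a) * (b * b) := by rw [show b * a = a * b from e.symm]; group
            _ = 1 := by rw [ha2, hb2, one_mul]
      inv_mem' := by
        rintro a ⟨ha, ha1, ha2⟩
        rw [inv_eq_of_mul_eq_one_left ha2]
        exact ⟨ha, ha1, ha2⟩ }
  have hAM : A ≤ M := fun k hk => hk.1
  have hA : Cfsg.IsElementaryAbelian 2 A := ⟨⟨⟨fun a b => Subtype.ext
    (hcomm ⟨a, a.2.1⟩ ⟨b, b.2.1⟩ a.2.2.1 b.2.2.1 a.2.2.2 b.2.2.2)⟩⟩,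
    fun a ha => by rw [pow_two]; exact ha.2.2⟩
  have hmap : (A.subgroupOf M).map φ = Eb := by
    refine le_antisymm ?_ fun σ hσ => ?_
    · rintro _ ⟨y, ⟨hy, hy1, -⟩, rfl⟩
      exact hy1
    · obtain ⟨y, rfl⟩ := c.surj σ
      have hsq : φ y * φ y = 1 := by rw [← pow_two]; exact hEb.2 _ hσ
      have h6 : ((y : K) ^ 3) * (y : K) ^ 3 = 1 := by
        have h := (c.ker (y * y)).1 (by rw [map_mul, hsq])
        rw [← pow_add, show 3 + 3 = 2 * 3 from rfl, pow_mul, pow_two]
        rcases c.zn_cases h with e | e | e <;> rw [Subgroup.coe_mul] at e <;> rw [e]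
        · exact one_pow 3
        · rw [← c.ordn, pow_orderOf_eq_one]
        · rw [← pow_two, ← pow_mul, mul_comm, pow_mul, ← c.ordn, pow_orderOf_eq_one, one_pow]
      have e3 : φ (y ^ 3) = φ y := by rw [map_pow, pow_succ, pow_two, hsq, one_mul]
      refine ⟨y ^ 3, ⟨(y ^ 3).2, ?_, ?_⟩, e3⟩
      · show φ (y ^ 3) ∈ Eb
        exact e3.symm ▸ hσ
      · simpa using h6
  refine ⟨A, hAM, hA, ?_, by rw [hmap]; exact hne⟩
  rw [← (c.elem_map hAM hA).2, hmap, h16]

/-- The normaliser in `M` of an elementary group of order sixteen, with its quotient. -/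
theorem exists_norm {A : Subgroup K} (hAM : A ≤ M) (hA : Cfsg.IsElementaryAbelian 2 A) (h16 : 16 ≤ Nat.card ↥A) :
    ∃ (Y : Subgroup K) (g : ↥Y →* ↥(alternatingGroup (Fin 6))), Y ≤ M ∧ Nat.card ↥Y = 17280 ∧ A ≤ Y ∧ n ∈ Y ∧
      (∀ y ∈ Y, ∀ a ∈ A, y * a * y⁻¹ ∈ A) ∧ Function.Surjective g ∧
      ∀ y : ↥Y, g y = 1 → ∃ a ∈ A, a⁻¹ * (y : K) ∈ Subgroup.zpowers n := by
  obtain ⟨h1, h2⟩ := c.elem_map hAM hA
  set A' := (A.subgroupOf M).map φ with hA'def
  obtain ⟨-, hN, f0, hf0, hk0⟩ := U43.elementary_facts h1 (h2.symm ▸ h16)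
  let Y : Subgroup K := ((Subgroup.normalizer (A' : Set ↥H4)).comap φ).map M.subtype
  have hYM : Y ≤ M := Subgroup.map_subtype_le _
  have hYmem : ∀ {y : K} (hy : y ∈ M), y ∈ Y ↔ φ ⟨y, hy⟩ ∈ Subgroup.normalizer (A' : Set ↥H4) := by
    intro y hy
    constructor
    · rintro ⟨⟨y', hy'⟩, hn, rfl⟩
      exact hn
    · exact fun h => ⟨⟨y, hy⟩, h, rfl⟩
  let ψ : ↥Y →* ↥(Subgroup.normalizer (A' : Set ↥H4)) := (φ.comp (Subgroup.inclusion hYM)).codRestrict _
    fun y => (hYmem (hYM y.2)).1 y.2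
  refine ⟨Y, f0.comp ψ, hYM, ?_, fun a ha => (hYmem (hAM ha)).2 (Subgroup.le_normalizer ⟨⟨a, hAM ha⟩, ha, rfl⟩),
    (hYmem c.nM).2 (by rw [(c.ker _).2 (Subgroup.mem_zpowers n)]; exact one_mem _), ?_, ?_, ?_⟩
  · rw [Subgroup.card_map_of_injective M.subtype_injective]
    have h := ((Subgroup.normalizer (A' : Set ↥H4)).comap φ).card_mul_index
    rw [Subgroup.index_comap_of_surjective _ c.surj, c.card_M] at h
    have h5 := (Subgroup.normalizer (A' : Set ↥H4)).card_mul_index
    rw [hN, card_H4] at h5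
    have : (Subgroup.normalizer (A' : Set ↥H4)).index = 567 := by omega
    rw [this] at h
    omega
  · intro y hy a ha
    have hn := (hYmem (hYM hy)).1 hy
    obtain ⟨b, hb, hbe⟩ := (Subgroup.mem_normalizer_iff.1 hn (φ ⟨a, hAM ha⟩)).1 ⟨⟨a, hAM ha⟩, ha, rfl⟩
    have := c.eq_of_map b.2 (mul_mem (mul_mem (hYM hy) (hAM ha)) (inv_mem (hYM hy)))
      (by rw [← pow_two]; exact hA.2 _ hb) (by
        rw [show y * a * y⁻¹ * (y * a * y⁻¹) = y * (a * a) * y⁻¹ by group, ← pow_two, hA.2 a ha, mul_one,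
          mul_inv_cancel])
      (by rw [hbe, ← map_inv, ← map_mul, ← map_mul]; rfl)
    rw [← this]
    exact hb
  · refine hf0.comp fun x => ?_
    obtain ⟨y, hy⟩ := c.surj (x : ↥H4)
    refine ⟨⟨(y : K), y, ?_, rfl⟩, Subtype.ext hy⟩
    show φ y ∈ Subgroup.normalizer (A' : Set ↥H4)
    rw [hy]
    exact x.2
  · intro y hy
    have hy' : ψ y ∈ f0.ker := MonoidHom.mem_ker.2 hy
    rw [hk0] at hy'
    obtain ⟨a, ha, hae⟩ := hy'
    refine ⟨(a : K), ha, (c.ker (a⁻¹ * Subgroup.inclusion hYM y)).1 ?_⟩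
    rw [map_mul, map_inv, hae, inv_mul_eq_one]
    rfl

omit c in
/-- A group normalising `A` stabilises its fixed space. -/
theorem smul_fixSub {A Y : Subgroup K} (hY : ∀ y ∈ Y, ∀ a ∈ A, y * a * y⁻¹ ∈ A) {y : K} (hy : y ∈ Y) {v : V}
    (hv : v ∈ (fixSub A : AddSubgroup V)) : y • v ∈ (fixSub A : AddSubgroup V) := fun a ha => by
  have h := hv _ (by simpa using hY y⁻¹ (Y.inv_mem hy) a ha)
  calc a • y • v = y • (y⁻¹ * a * y) • v := by rw [← mul_smul, ← mul_smul]; group
    _ = y • v := by rw [h]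

/-- An invariant set of involutions of `A` is empty or everything. -/
theorem invariant_cases {A Y : Subgroup K} (hAM : A ≤ M) (hA : Cfsg.IsElementaryAbelian 2 A)
    (h16 : Nat.card ↥A = 16) {g : ↥Y →* ↥(alternatingGroup (Fin 6))} (hYM : Y ≤ M)
    (hYcard : Nat.card ↥Y = 17280) (hg : Function.Surjective g)
    (hgker : ∀ y : ↥Y, g y = 1 → ∃ a ∈ A, a⁻¹ * (y : K) ∈ Subgroup.zpowers n)
    (hY : ∀ y ∈ Y, ∀ a ∈ A, y * a * y⁻¹ ∈ A)
    (S : Set K) (hS : ∀ a ∈ S, a ∈ A ∧ a ≠ 1) (hinv : ∀ y ∈ Y, ∀ a ∈ S, y * a * y⁻¹ ∈ S) :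
    S = ∅ ∨ ∀ a ∈ A, a ≠ 1 → a ∈ S := by
  classical
  haveI := Fact.mk Nat.prime_five
  obtain ⟨y, hy⟩ := exists_prime_orderOf_dvd_card' (G := ↥Y) 5 (by rw [hYcard]; norm_num)
  have hy5 : orderOf (y : K) = 5 := by rw [Subgroup.orderOf_coe, hy]
  have hfpf : ∀ a ∈ A, a ≠ 1 → (y : K) * a * (y : K)⁻¹ ≠ a := by
    intro a ha ha1 e
    let ym : ↥M := ⟨y, hYM y.2⟩
    let am : ↥M := ⟨a, hAM ha⟩
    have hc : am * ym = ym * am := Subtype.ext (mul_inv_eq_iff_eq_mul.1 e).symm
    have ht : orderOf (φ am) = 2 := by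
      refine orderOf_eq_prime ?_ fun h => ha1 ?_
      · rw [← map_pow, show am ^ 2 = 1 from Subtype.ext (by simpa using hA.2 a ha), map_one]
      · exact c.eq_of_map (hAM ha) M.one_mem (by rw [← pow_two]; exact hA.2 a ha) (one_mul 1)
          (h.trans φ.map_one.symm)
    have hx : orderOf (φ ym) = 5 := by
      refine orderOf_eq_prime ?_ fun h => ?_
      · rw [← map_pow, show ym ^ 5 = 1 from Subtype.ext (by
          have := pow_orderOf_eq_one (y : K); rw [hy5] at this; simpa [ym] using this), map_one]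
      · have h1 : (y : K) ∈ Subgroup.zpowers n := (c.ker ym).1 h
        have h2 := Subgroup.orderOf_dvd_natCard _ h1
        rw [c.card_zn, hy5] at h2
        omega
    exact U43.no_five ht hx (show φ am * φ ym = φ ym * φ am by rw [← map_mul, ← map_mul, hc])
  have hfive : ∀ S : Set K, (∀ a ∈ S, a ∈ A ∧ a ≠ 1) → (∀ y ∈ Y, ∀ a ∈ S, y * a * y⁻¹ ∈ S) →
      5 ∣ S.ncard ∧ S.ncard ≠ 5 := by
    intro S hS hinv
    letI : MulAction ↥Y ↥S :=
      { smul := fun u a => ⟨(u : K) * (a : K) * (u : K)⁻¹, hinv u u.2 a a.2⟩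
        one_smul := fun a => Subtype.ext (show ((1 : ↥Y) : K) * (a : K) * ((1 : ↥Y) : K)⁻¹ = a by simp)
        mul_smul := fun u w a => Subtype.ext (show ((u * w : ↥Y) : K) * (a : K) * ((u * w : ↥Y) : K)⁻¹ =
          (u : K) * ((w : K) * (a : K) * (w : K)⁻¹) * (u : K)⁻¹ by simp [mul_assoc]) }
    have hnofix : ∀ a : ↥S, y • a ≠ a := fun a e =>
      hfpf a (hS a a.2).1 (hS a a.2).2 (congrArg Subtype.val e)
    refine ⟨?_, fun h5 => ?_⟩
    · have hp : IsPGroup 5 ↥(Subgroup.zpowers y) :=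
        IsPGroup.of_card (n := 1) (by rw [Nat.card_zpowers, hy, pow_one])
      have hmod := hp.card_modEq_card_fixedPoints ↥S
      have heq : MulAction.fixedPoints ↥(Subgroup.zpowers y) ↥S = ∅ := by
        refine Set.eq_empty_of_forall_notMem fun a ha => ?_
        exact hnofix a (ha ⟨y, Subgroup.mem_zpowers y⟩)
      rw [heq, Nat.card_coe_set_eq, Nat.card_coe_set_eq, Set.ncard_empty] at hmod
      exact Nat.modEq_zero_iff_dvd.1 hmod
    · let θ := MulAction.toPermHom ↥Y ↥S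
      have hle : g.ker ≤ θ.ker := by
        intro u hu
        obtain ⟨b, hb, hbu⟩ := hgker u hu
        refine MonoidHom.mem_ker.2 (Equiv.ext fun a => Subtype.ext ?_)
        show (u : K) * (a : K) * (u : K)⁻¹ = a
        have hab : b * (a : K) = a * b := congrArg Subtype.val (hA.1.is_comm.comm (⟨b, hb⟩ : ↥A) ⟨a, (hS a a.2).1⟩)
        have hna : n * (a : K) = a * n := (c.commute (hAM (hS a a.2).1)).symm
        rw [mul_inv_eq_iff_eq_mul]
        have hw : (b⁻¹ * (u : K)) * a = a * (b⁻¹ * (u : K)) := by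
          rcases c.zn_cases hbu with e | e | e <;> rw [e]
          · simp
          · exact hna
          · rw [mul_assoc, hna, ← mul_assoc, hna, mul_assoc]
        calc (u : K) * a = b * ((b⁻¹ * (u : K)) * a) := by group
          _ = (b * (a : K)) * (b⁻¹ * (u : K)) := by rw [hw]; group
          _ = (a : K) * (u : K) := by rw [hab]; group
      haveI : IsSimpleGroup ↥(alternatingGroup (Fin 6)) := alternatingGroup.isSimpleGroup (by simp)
      let θ' : ↥(alternatingGroup (Fin 6)) →* Equiv.Perm ↥S := g.liftOfSurjective hg ⟨θ, hle⟩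
      have hθ' : ∀ u, θ' (g u) = θ u := fun u => g.liftOfRightInverse_comp_apply _ _ ⟨θ, hle⟩ u
      have hk : θ'.ker = ⊤ := by
        refine (MonoidHom.normal_ker θ').eq_bot_or_eq_top.resolve_left fun e => ?_
        have h := Nat.card_le_card_of_injective θ' ((MonoidHom.ker_eq_bot_iff θ').1 e)
        haveI := Fintype.ofFinite ↥S
        rw [Nat.card_eq_fintype_card, Nat.card_eq_fintype_card, Fintype.card_perm,
          show Fintype.card ↥(alternatingGroup (Fin 6)) = 360 by decide +kernel,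
          ← Nat.card_eq_fintype_card, Nat.card_coe_set_eq, h5] at h
        exact absurd h (by decide)
      obtain ⟨a, ha⟩ := Set.nonempty_of_ncard_ne_zero (s := S) (by omega)
      refine hnofix ⟨a, ha⟩ ?_
      have h1 : θ y = 1 := by rw [← hθ', ← MonoidHom.mem_ker, hk]; trivial
      exact Equiv.congr_fun h1 ⟨a, ha⟩
  obtain ⟨h1, h1'⟩ := hfive S hS hinv
  let S' : Set K := {a | a ∈ A ∧ a ≠ 1 ∧ a ∉ S}
  obtain ⟨h2, h2'⟩ := hfive S' (fun a ha => ⟨ha.1, ha.2.1⟩) fun u hu a ha =>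
    ⟨hY u hu a ha.1, fun e => ha.2.1 (by
      calc a = u⁻¹ * (u * a * u⁻¹) * u := by group
        _ = 1 := by rw [e]; group), fun e => ha.2.2 (by
      have := hinv u⁻¹ (Y.inv_mem hu) _ e
      simpa [mul_assoc] using this)⟩
  have hsum : S.ncard + S'.ncard + 1 = 16 := by
    rw [← Set.ncard_union_eq ?_ (Set.toFinite _) (Set.toFinite _)]
    · have e : S ∪ S' = (A : Set K) \ {1} := by
        ext a
        by_cases hm : a ∈ S
        · simp [hm, (hS a hm).1, (hS a hm).2]
        · simp [hm, S']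
      rw [e, Set.ncard_sdiff_singleton_add_one A.one_mem (Set.toFinite _), ← Nat.card_coe_set_eq]
      exact h16
    · exact Set.disjoint_left.2 fun a ha ha' => ha'.2.2 ha
  by_cases h0 : S.ncard = 0
  · exact .inl ((Set.ncard_eq_zero (Set.toFinite _)).1 h0)
  · refine .inr fun a ha ha1 => ?_
    by_contra hm
    have : 0 < S'.ncard := (Set.ncard_pos (Set.toFinite _)).2 ⟨a, ha, ha1, hm⟩
    omega

/-- An elementary group meets `M` in index at most two. -/
theorem card_inf_M {X : Subgroup K} (hX : ¬ X ≤ M) : Nat.card ↥X = 2 * Nat.card ↥(X ⊓ M) := by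
  haveI := c.M_normal
  have h1 : (X ⊓ M).relIndex X = 2 := by
    rw [Subgroup.inf_relIndex_left]
    have := Subgroup.relIndex_dvd_index_of_normal M X
    rw [c.indexM] at this
    rcases (Nat.dvd_prime Nat.prime_two).1 this with e | e
    · exact absurd (Subgroup.relIndex_eq_one.1 e) hX
    · exact e
  have h2 := Subgroup.relIndex_mul_relIndex ⊥ (X ⊓ M) X bot_le inf_le_left
  rw [Subgroup.relIndex_bot_left, Subgroup.relIndex_bot_left, h1] at h2
  omega

/-- The fixed space of an element outside `M` and its translate span everything. -/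
theorem span_fixed {s : V} (hs : Central q K s) {e : K} (he : e ∉ M) {W : AddSubgroup V}
    (hW : ∀ v ∈ W, e • v = v) (h64 : 64 ≤ Nat.card ↥W) (v : V) : ∃ x ∈ W, ∃ y ∈ W, x + n • y = v := by
  let f : ↥W × ↥W → V := fun p => (p.1 : V) + n • (p.2 : V)
  have key : ∀ u : V, e • u = u → e • (n • u) = n • u → u = 0 := fun u h1 h2 => by
    rw [← mul_smul, c.conj_n_outer hs he, mul_smul, mul_smul, h1] at h2
    refine c.fixN_eq_zero hs ?_
    have := congrArg (fun w => n • n • w) h2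
    simpa [c.smul_n_three] using this
  have hf : Function.Injective f := by
    rintro ⟨x, y⟩ ⟨x', y'⟩ h
    have h' : (x : V) + n • (y : V) = (x' : V) + n • (y' : V) := h
    have h2 : n • ((y : V) + y') = (x : V) + x' := by
      refine eq_of_vadd ?_
      rw [smul_add]
      calc n • (y : V) + n • (y' : V) + ((x : V) + x') = ((x : V) + n • (y : V)) + ((x' : V) + n • (y' : V)) := by abel
        _ = 0 := by rw [h', vadd_self]
    have hy : (y : V) + y' = 0 := key _ (by rw [smul_add, hW _ y.2, hW _ y'.2])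
      (by rw [h2, smul_add, hW _ x.2, hW _ x'.2])
    rw [hy, smul_zero] at h2
    exact Prod.ext (Subtype.ext (eq_of_vadd h2.symm)) (Subtype.ext (eq_of_vadd hy))
  have hb := hf.bijective_of_nat_card_le (by rw [Nat.card_prod, c.cardV]; nlinarith)
  obtain ⟨⟨x, y⟩, h⟩ := hb.2 v
  exact ⟨x, x.2, y, y.2, h⟩

end Core

end CfsgLib.LargeFischer
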