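import Mathlib

/-!
# Counting with quadratic forms and linear groups over the field of two elements
-/

set_option autoImplicit false

namespace CfsgLib.LargeFischer

open QuadraticMap

variable {V : Type*} [AddCommGroup V] [Module (ZMod 2) V]

/-- The sign of an element of the field of two elements. -/
def sgn (a : ZMod 2) : ℤ := if a = 0 then 1 else -1

theorem sgn_add : ∀ a b : ZMod 2, sgn (a + b) = sgn a * sgn b := by decide

theorem z2_cases : ∀ a : ZMod 2, a = 0 ∨ a = 1 := by decide

theorem vadd_self (x : V) : x + x = 0 := by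
  calc x + x = (2 : ZMod 2) • x := (two_smul _ x).symm
    _ = 0 := by rw [show (2 : ZMod 2) = 0 from rfl, zero_smul]

theorem eq_of_vadd {x y : V} (h : x + y = 0) : x = y := by
  calc x = x + (y + y) := by rw [vadd_self, add_zero]
    _ = y := by rw [← add_assoc, h, zero_add]

theorem q_add (q : QuadraticForm (ZMod 2) V) (x y : V) : q (x + y) = q x + q y + polar q x y := by
  rw [polar]; ring

theorem q_zero (q : QuadraticForm (ZMod 2) V) : q 0 = 0 := QuadraticMap.map_zero q

theorem polar_self_zero (q : QuadraticForm (ZMod 2) V) (x : V) : polar q x x = 0 := by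
  rw [polar, vadd_self, q_zero]
  generalize q x = a
  revert a; decide

section Sums

variable [Fintype V]

theorem sum_sgn_linear (f : V →+ ZMod 2) {v : V} (hv : f v ≠ 0) : ∑ x, sgn (f x) = 0 := by
  have h1 : f v = 1 := (z2_cases _).resolve_left hv
  have h := Equiv.sum_comp (Equiv.addRight v) fun x => sgn (f x)
  simp only [Equiv.coe_addRight, map_add, sgn_add, h1] at h
  rw [← Finset.sum_mul, show sgn 1 = -1 from rfl] at h
  omega

/-- The Gauss sum of a form. -/
def gauss (q : QuadraticForm (ZMod 2) V) : ℤ := ∑ x, sgn (q x)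

theorem gauss_sq (q : QuadraticForm (ZMod 2) V) (hnd : ∀ v, (∀ w, polar q v w = 0) → v = 0) :
    gauss q * gauss q = Fintype.card V := by
  classical
  have h : gauss q * gauss q = ∑ u, sgn (q u) * ∑ x, sgn (polar q u x) := by
    rw [gauss, Finset.sum_mul_sum]
    calc ∑ x, ∑ y, sgn (q x) * sgn (q y) = ∑ x, ∑ u, sgn (q u) * sgn (polar q u x) := by
          refine Finset.sum_congr rfl fun x _ => ?_
          rw [← Equiv.sum_comp (Equiv.addRight x) fun y => sgn (q x) * sgn (q y)]
          refine Finset.sum_congr rfl fun u _ => ?_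
          simp only [Equiv.coe_addRight]
          rw [← sgn_add, ← sgn_add, q_add]
          congr 1
          generalize q x = a
          generalize q u = b
          generalize polar q u x = c
          revert a b c; decide
      _ = _ := by
          rw [Finset.sum_comm]
          exact Finset.sum_congr rfl fun u _ => (Finset.mul_sum _ _ _).symm
  rw [h, Finset.sum_eq_single 0]
  · simp [q_zero, QuadraticMap.polar_zero_left, sgn]
  · intro u _ hu
    obtain ⟨w, hw⟩ : ∃ w, polar q u w ≠ 0 := by
      by_contra hc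
      simp only [not_exists, not_not] at hc
      exact hu (hnd u hc)
    have h0 : ∑ x, sgn (polar q u x) = 0 :=
      sum_sgn_linear (AddMonoidHom.mk' (fun x => polar q u x) fun a b => QuadraticMap.polar_add_right q u a b) hw
    rw [h0, mul_zero]
  · simp

theorem two_zeros (q : QuadraticForm (ZMod 2) V) :
    2 * (Nat.card {v // q v = 0} : ℤ) = Fintype.card V + gauss q := by
  classical
  rw [Nat.card_eq_fintype_card, Fintype.card_subtype, gauss, Finset.card_filter, Fintype.card_eq_sum_ones]
  push_cast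
  rw [Finset.mul_sum, ← Finset.sum_add_distrib]
  refine Finset.sum_congr rfl fun x _ => ?_
  rcases z2_cases (q x) with e | e <;> simp [e, sgn]

theorem four_zeros_perp (q : QuadraticForm (ZMod 2) V) {v : V} (hv : q v = 0) (hne : ∃ w, polar q v w ≠ 0) :
    4 * (Nat.card {u // q u = 0 ∧ polar q v u = 0} : ℤ) = Fintype.card V + 2 * gauss q := by
  classical
  obtain ⟨w, hw⟩ := hne
  have h0 : ∑ u, sgn (polar q v u) = 0 :=
    sum_sgn_linear (AddMonoidHom.mk' (fun x => polar q v x) fun a b => QuadraticMap.polar_add_right q v a b) hw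
  have h1 : ∑ u, sgn (q u) * sgn (polar q v u) = gauss q := by
    rw [gauss, ← Equiv.sum_comp (Equiv.addRight v) fun x => sgn (q x)]
    refine Finset.sum_congr rfl fun x _ => ?_
    simp only [Equiv.coe_addRight]
    rw [q_add, hv, add_zero, sgn_add, QuadraticMap.polar_comm]
  calc 4 * (Nat.card {u // q u = 0 ∧ polar q v u = 0} : ℤ)
      = ∑ u, (1 + sgn (polar q v u) + sgn (q u) + sgn (q u) * sgn (polar q v u)) := by
        rw [Nat.card_eq_fintype_card, Fintype.card_subtype, Finset.card_filter]
        push_cast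
        rw [Finset.mul_sum]
        refine Finset.sum_congr rfl fun x _ => ?_
        rcases z2_cases (q x) with e | e <;> rcases z2_cases (polar q v x) with e' | e' <;> simp [e, e', sgn]
    _ = Fintype.card V + 2 * gauss q := by
        simp only [Finset.sum_add_distrib, h0, h1]
        simp [gauss]
        ring

end Sums

theorem card_eq_two_pow [Finite V] : Nat.card V = 2 ^ Module.finrank (ZMod 2) V := by
  rw [Module.natCard_eq_pow_finrank (K := ZMod 2), Nat.card_zmod]

/-- The number of singular vectors of a nondegenerate form. -/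
theorem zeros_cases [Finite V] (q : QuadraticForm (ZMod 2) V) (hnd : ∀ v, (∀ w, polar q v w = 0) → v = 0) (k : ℕ)
    (hV : Nat.card V = 4 ^ k) :
    2 * Nat.card {v // q v = 0} = 4 ^ k + 2 ^ k ∨ 2 * Nat.card {v // q v = 0} + 2 ^ k = 4 ^ k := by
  letI := Fintype.ofFinite V
  have h := gauss_sq q hnd
  have hc : (Fintype.card V : ℤ) = (4 : ℤ) ^ k := by
    rw [← Nat.card_eq_fintype_card, hV]; norm_num
  have h' : gauss q * gauss q = (2 ^ k : ℤ) * 2 ^ k := by
    rw [h, hc, ← mul_pow]; norm_num
  have h2 := two_zeros q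
  rw [hc] at h2
  rcases mul_self_eq_mul_self_iff.1 h' with e | e <;> rw [e] at h2
  · left; exact_mod_cast h2
  · right
    have : (2 * (Nat.card {v // q v = 0} : ℤ)) + 2 ^ k = 4 ^ k := by linarith
    exact_mod_cast this

/-- The singular vectors orthogonal to a singular vector. -/
theorem zeros_perp_le [Finite V] (q : QuadraticForm (ZMod 2) V) (hnd : ∀ v, (∀ w, polar q v w = 0) → v = 0) (k : ℕ)
    (hV : Nat.card V = 4 ^ k) {v : V} (hv : q v = 0) (hv0 : v ≠ 0) :
    4 * Nat.card {u // q u = 0 ∧ polar q v u = 0} ≤ 4 ^ k + 2 * 2 ^ k := by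
  letI := Fintype.ofFinite V
  have hne : ∃ w, polar q v w ≠ 0 := by
    by_contra hc
    simp only [not_exists, not_not] at hc
    exact hv0 (hnd v hc)
  have hc : (Fintype.card V : ℤ) = (4 : ℤ) ^ k := by
    rw [← Nat.card_eq_fintype_card, hV]; norm_num
  have h' : gauss q * gauss q = (2 ^ k : ℤ) * 2 ^ k := by
    rw [gauss_sq q hnd, hc, ← mul_pow]; norm_num
  have h2 := four_zeros_perp q hv hne
  rw [hc] at h2
  have hp : (0 : ℤ) ≤ 2 ^ k := pow_nonneg (by norm_num) k
  have : 4 * (Nat.card {u // q u = 0 ∧ polar q v u = 0} : ℤ) ≤ 4 ^ k + 2 * 2 ^ k := by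
    rcases mul_self_eq_mul_self_iff.1 h' with e | e <;> rw [e] at h2 <;> linarith
  exact_mod_cast this

/-- The order of the linear group of a space over the field of two elements. -/
theorem card_linear_group {d : ℕ} [Finite V] (hd : Module.finrank (ZMod 2) V = d) :
    Nat.card (V ≃ₗ[ZMod 2] V) = ∏ i ∈ Finset.range d, (2 ^ d - 2 ^ i) := by
  haveI : Module.Finite (ZMod 2) V := Module.Finite.of_finite
  let b : Module.Basis (Fin d) (ZMod 2) V := Module.finBasisOfFinrankEq _ _ hd
  have e : Nat.card (V ≃ₗ[ZMod 2] V) = Nat.card (Matrix.GeneralLinearGroup (Fin d) (ZMod 2)) :=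
    Nat.card_congr (((LinearMap.GeneralLinearGroup.generalLinearEquiv (ZMod 2) V).symm.trans
      (Units.mapEquiv (LinearMap.toMatrixAlgEquiv b).toMulEquiv)).toEquiv)
  rw [e, Matrix.card_GL_field, ZMod.card, Fin.prod_univ_eq_prod_range (fun i => 2 ^ d - 2 ^ i) d]

theorem prod_not_dvd : ∀ d, d ≤ 9 → ¬ 3 ^ 6 ∣ ∏ i ∈ Finset.range d, (2 ^ d - 2 ^ i) := by
  decide +kernel

theorem prod_not_dvd' : ∀ d, d ≤ 11 → ¬ 3 ^ 7 ∣ ∏ i ∈ Finset.range d, (2 ^ d - 2 ^ i) := by
  decide +kernel

/-- A kernel element of a hom to a linear group of small dimension. -/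
theorem exists_ker_of_dvd {K : Type*} [Group K] [Finite K] [Finite V] (f : K →* (V ≃ₗ[ZMod 2] V)) {m : ℕ}
    (h1 : m ∣ Nat.card K) (h2 : ¬ m ∣ Nat.card (V ≃ₗ[ZMod 2] V)) : ∃ k, f k = 1 ∧ k ≠ 1 := by
  by_contra h
  simp only [not_exists, not_and, not_not] at h
  exact h2 (h1.trans (Subgroup.card_dvd_of_injective f ((injective_iff_map_eq_one f).2 h)))

end CfsgLib.LargeFischer
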