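import Mathlib
import Cfsg.Agent.Lib.Classical.QuadBridge
import Cfsg.Agent.Lib.LargeExtra.OutExtra
import Cfsg.Agent.Lib.LargeExtra.Automizer
import Cfsg.Agent.Lib.Cores.Components
import Cfsg.Agent.Lib.LargeExtra.SubExtra

/-!
# The action on the chart of an extraspecial normal subgroup
-/

set_option autoImplicit false
set_option linter.style.haveILetI false
set_option linter.unusedSectionVars false
set_option linter.unusedSimpArgs false

namespace CfsgLib.LargeFischer

open Subgroup Cfsg CfsgLib.Classical CfsgLib.LargeExtra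

/-- The action of a group normalizing an extraspecial group on its chart. -/
theorem chart_action {ι : Type} [Fintype ι] [DecidableEq ι] (q : QuadraticForm (ZMod 2) (ι → ZMod 2))
    {H : Type*} [Group H] [Finite H] (Q : Subgroup H) [Q.Normal] (hQ : IsExtraspecial 2 Q) {z : Q}
    (hz : z ∈ center Q) (hfix : ∀ c : H, c * (z : H) * c⁻¹ = z)
    (hself : ∀ c : H, (∀ x ∈ Q, c * x = x * c) → c ∈ Q) (C : OutExtra.Chart Q (⇑q) z) :
    ∃ ρ : H →* qAut q, ρ.ker = Q ∧ ∀ (c : H) (x : Q), C.π (MulAut.conjNormal c x) = (ρ c).1 (C.π x) := by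
  classical
  have hcen := C.center_le hQ hz
  have hfz : ∀ c : H, MulAut.conjNormal c z = z := fun c => Subtype.ext (by
    rw [MulAut.conjNormal_apply]; exact hfix c)
  have hwd : ∀ (c : H) x y, C.π x = C.π y → C.π (MulAut.conjNormal c x) = C.π (MulAut.conjNormal c y) := by
    intro c x y e
    rcases C.pi_eq e with e' | e'
    · rw [inv_mul_eq_one.1 e']
    · rw [show y = x * z by rw [← e', mul_inv_cancel_left], map_mul, hfz, C.pi_mul,
        (C.ker_iff z).2 (.inr rfl), add_zero]
  let s := Function.surjInv C.surj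
  have hs : ∀ v, C.π (s v) = v := Function.surjInv_eq C.surj
  let L : H → ((ι → ZMod 2) →ₗ[ZMod 2] (ι → ZMod 2)) := fun c =>
    (AddMonoidHom.mk' (fun v => C.π (MulAut.conjNormal c (s v))) fun u v => by
      rw [← C.pi_mul, ← map_mul]
      exact hwd c _ _ (by rw [C.pi_mul, hs, hs, hs])).toZModLinearMap 2
  have hL : ∀ c x, L c (C.π x) = C.π (MulAut.conjNormal c x) := fun c x => hwd c _ _ (hs _)
  have hmul : ∀ c d v, L (c * d) v = L c (L d v) := fun c d v => by
    obtain ⟨x, rfl⟩ := C.surj v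
    rw [hL, hL, hL, map_mul]
    rfl
  have hone : ∀ v, L 1 v = v := fun v => by
    obtain ⟨x, rfl⟩ := C.surj v
    rw [hL, map_one]
    rfl
  have hinv : ∀ c v, L c (L c⁻¹ v) = v ∧ L c⁻¹ (L c v) = v := fun c v =>
    ⟨by rw [← hmul, mul_inv_cancel, hone], by rw [← hmul, inv_mul_cancel, hone]⟩
  have hpres : ∀ c v, q (L c v) = q v := by
    intro c v
    obtain ⟨x, rfl⟩ := C.surj v
    rw [hL]
    have e := congrArg (MulAut.conjNormal c) (C.sq_eq x)
    rw [map_mul, C.sq_eq, apply_ite (MulAut.conjNormal c), map_one, hfz] at e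
    rcases OutExtra.two_cases (q (C.π (MulAut.conjNormal c x))) with h1 | h1 <;> rcases OutExtra.two_cases (q (C.π x)) with h2 | h2 <;>
      simp [h1, h2] at e ⊢
    · exact C.z_ne e.symm
    · exact C.z_ne e
  let ρ : H →* qAut q := MonoidHom.mk' (fun c => ⟨LinearEquiv.ofLinear (L c) (L c⁻¹)
    (LinearMap.ext fun v => (hinv c v).1) (LinearMap.ext fun v => (hinv c v).2), hpres c⟩)
    fun c d => qAut_ext fun v => hmul c d v
  have hρ : ∀ c v, (ρ c).1 v = L c v := fun c v => rfl
  refine ⟨ρ, ?_, fun c x => by rw [hρ, hL]⟩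
  ext c
  rw [MonoidHom.mem_ker]
  constructor
  · intro h
    obtain ⟨g, hg⟩ := exists_inner_of_trivial_mod_center hQ (MulAut.conjNormal c) fun x => by
      have e : C.π (MulAut.conjNormal c x * x⁻¹) = 0 := by
        rw [C.pi_mul, C.pi_inv, ← hL, ← hρ, h]
        exact funext fun i => CharTwo.add_self_eq_zero _
      rcases (C.ker_iff _).1 e with e | e <;> rw [e]
      exacts [one_mem _, hz]
    have hmem : (g : H)⁻¹ * c ∈ Q := by
      refine hself _ fun x hx => ?_
      have h1 := congrArg Subtype.val (hg ⟨x, hx⟩)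
      rw [MulAut.conjNormal_apply] at h1
      simp only [Subgroup.coe_mul, Subgroup.coe_inv] at h1
      calc (g : H)⁻¹ * c * x = (g : H)⁻¹ * (c * x * c⁻¹) * c := by group
        _ = (g : H)⁻¹ * ((g : H) * x * (g : H)⁻¹) * c := by rw [h1]
        _ = x * ((g : H)⁻¹ * c) := by group
    simpa using mul_mem g.2 hmem
  · intro hc
    refine qAut_ext fun v => ?_
    obtain ⟨x, rfl⟩ := C.surj v
    rw [hρ, hL]
    show C.π (MulAut.conjNormal c x) = C.π x
    have e : MulAut.conjNormal c x = ⟨c, hc⟩ * x * ⟨c, hc⟩⁻¹ := Subtype.ext (MulAut.conjNormal_apply _ _)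
    rw [e, C.pi_mul, C.pi_mul, C.pi_inv]
    funext i
    simp only [Pi.add_apply]
    linear_combination CharTwo.add_self_eq_zero (C.π ⟨c, hc⟩ i)

variable {G : Type*} [Group G] [Finite G]

theorem extra_data {z : G} (hz : orderOf z = 2) {Q : Subgroup G} (hQC : Q ≤ centralizer ({z} : Set G))
    (hF : (generalizedFittingSubgroup ↥(centralizer ({z} : Set G))).map
      (centralizer ({z} : Set G)).subtype = Q)
    (hQ : IsExtraspecial 2 Q) : (center Q).map Q.subtype = zpowers z ∧ centralizer (Q : Set G) = (center Q).map Q.subtype ∧ centralizer ({z} : Set G) ≤ normalizer (Q : Set G) := by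
  have hz1 : z ≠ 1 := fun h => by rw [h, orderOf_one] at hz; omega
  have hself : ∀ x : G, x ∈ centralizer ({z} : Set G) → (∀ y ∈ Q, y * x = x * y) → x ∈ Q := by
    intro x hx hxy
    rw [← hF]
    refine ⟨⟨x, hx⟩, CfsgLib.Cores.centralizer_generalizedFittingSubgroup_le ?_, rfl⟩
    rw [mem_centralizer_iff]
    intro y hy
    exact Subtype.ext (hxy y (by rw [← hF]; exact mem_map_of_mem _ hy))
  have hcz : ∀ y ∈ Q, y * z = z * y := fun y hy => mem_centralizer_singleton_iff.1 (hQC hy)
  have hzQ : z ∈ Q := hself z (mem_centralizer_singleton_iff.2 rfl) hcz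
  have hzc : (⟨z, hzQ⟩ : Q) ∈ center Q := mem_center_iff.2 fun y => Subtype.ext (hcz y y.2)
  have hcentre : (center Q).map Q.subtype = zpowers z := by
    refine (eq_of_le_of_card_ge (K := (center Q).map Q.subtype)
      (zpowers_le.2 (show z ∈ (center Q).map Q.subtype from ⟨⟨z, hzQ⟩, hzc, rfl⟩)) ?_).symm
    rw [card_map_of_injective Q.subtype_injective, hQ.2, Nat.card_zpowers, hz]
  refine ⟨hcentre, ?_, ?_⟩
  · refine le_antisymm (fun x hx => ?_) ?_
    · rw [mem_centralizer_iff] at hx
      have hxQ : x ∈ Q := hself x (mem_centralizer_singleton_iff.2 (hx z hzQ).symm) hx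
      exact ⟨⟨x, hxQ⟩, mem_center_iff.2 fun y => Subtype.ext (hx y y.2), rfl⟩
    · rintro _ ⟨x, hx, rfl⟩
      exact mem_centralizer_iff.2 fun y hy => congrArg Subtype.val (mem_center_iff.1 hx ⟨y, hy⟩)
  · haveI : (Q.subgroupOf (centralizer ({z} : Set G))).Normal := by
      rw [← hF, subgroupOf, comap_map_eq_self_of_injective (Subgroup.subtype_injective _)]
      exact CfsgLib.Cores.generalizedFittingSubgroup_normal
    exact (normal_subgroupOf_iff_le_normalizer hQC).1 inferInstance

end CfsgLib.LargeFischer
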