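import Cfsg.Agent.Lib.LargeFischer.Setting

/-!
# The data of a conjugate of the central involution in `Q`
-/

set_option autoImplicit false
set_option linter.unusedSectionVars false

namespace CfsgLib.LargeFischer.Model

open Subgroup QuadraticMap CfsgLib.LargeExtra
open CfsgLib.Schur.Tails.UFour (H4)

variable {G : Type*} [Group G] [Finite G] {z : G} {Q : Subgroup (centralizer ({z} : Set G))} [Q.Normal]
  {V : Type*} [AddCommGroup V] [Module (ZMod 2) V] [DistribMulAction ((centralizer ({z} : Set G)) ⧸ Q) V] [Finite V]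
  {q : QuadraticForm (ZMod 2) V} {π : ↥Q → V} {n : (centralizer ({z} : Set G)) ⧸ Q}
  {M : Subgroup ((centralizer ({z} : Set G)) ⧸ Q)} {φ : ↥M →* ↥H4} (m : Model z Q q π n M φ)

include m

theorem pi_one : π 1 = 0 := by
  have h := m.pi_mul 1 1
  rw [mul_one] at h
  exact left_eq_add.1 h

theorem pi_inv (x : ↥Q) : π x⁻¹ = π x := by
  have h := m.pi_mul x⁻¹ x
  rw [inv_mul_cancel, m.pi_one] at h
  exact eq_of_vadd h.symm

theorem pi_eq {x y : ↥Q} (h : π x = π y) :
    ((y : centralizer ({z} : Set G)) : G) = (x : centralizer ({z} : Set G)) ∨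
      ((y : centralizer ({z} : Set G)) : G) = ((x : centralizer ({z} : Set G)) : G) * z := by
  have h0 : π (x⁻¹ * y) = 0 := by rw [m.pi_mul, m.pi_inv, h, vadd_self]
  rcases (m.ker _).1 h0 with e | e <;> simp only [Subgroup.coe_mul, Subgroup.coe_inv] at e
  · exact .inl (inv_mul_eq_one.1 e).symm
  · exact .inr ((mul_inv_cancel_left _ _).symm.trans (congrArg (((x : centralizer ({z} : Set G)) : G) * ·) e))

/-- Orthogonality is commutation. -/
theorem polar_iff (a b : ↥Q) : polar q (π a) (π b) = 0 ↔
    ((a : centralizer ({z} : Set G)) : G) * (b : centralizer ({z} : Set G)) =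
      ((b : centralizer ({z} : Set G)) : G) * (a : centralizer ({z} : Set G)) := by
  have key : ((a : centralizer ({z} : Set G)) : G) * (b : centralizer ({z} : Set G)) =
      ((b : centralizer ({z} : Set G)) : G) * (a : centralizer ({z} : Set G)) ↔ a * b = b * a :=
    ⟨fun h => Subtype.ext (Subtype.ext h), fun h => congrArg (fun y : ↥Q => ((y : centralizer ({z} : Set G)) : G)) h⟩
  rw [key]
  have hbit : ∀ x : ↥Q, ((x * x : ↥Q) : centralizer ({z} : Set G)).1 = 1 ∨
      ((x * x : ↥Q) : centralizer ({z} : Set G)).1 = z := fun x =>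
    (m.ker _).1 (by rw [m.pi_mul, vadd_self])
  have hsame : ∀ x y : ↥Q, (q (π x) = q (π y) ↔ x * x = y * y) := by
    intro x y
    constructor
    · intro h
      by_cases hx : x * x = 1
      · rw [hx, (m.sq y).1 (h ▸ (m.sq x).2 hx)]
      · have hy : y * y ≠ 1 := fun e => hx ((m.sq x).1 (h.symm ▸ (m.sq y).2 e))
        have ex := (hbit x).resolve_left fun e => hx (Subtype.ext (Subtype.ext e))
        have ey := (hbit y).resolve_left fun e => hy (Subtype.ext (Subtype.ext e))
        exact Subtype.ext (Subtype.ext (ex.trans ey.symm))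
    · intro h
      rcases z2_cases (q (π x)) with e | e
      · rw [e, (m.sq y).2 (h ▸ (m.sq x).1 e)]
      · rw [e]
        refine ((z2_cases _).resolve_left fun e' => ?_).symm
        rw [(m.sq x).2 (h.symm ▸ (m.sq y).1 e')] at e
        exact zero_ne_one e
  rcases z2_cases (q (π a)) with ea | ea
  · -- `a` is an involution
    have ha := (m.sq a).1 ea
    have e : q (π (a * b)) = q (π b) + polar q (π a) (π b) := by rw [m.pi_mul, q_add, ea, zero_add]
    constructor
    · intro h
      rw [h, add_zero] at e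
      have h1 := (hsame _ _).1 e
      have h2 : a * b * a = b := mul_right_cancel (by rw [mul_assoc _ a b]; exact h1)
      calc a * b = a * b * (a * a) := by rw [ha, mul_one]
        _ = b * a := by rw [← mul_assoc, h2]
    · intro h
      have h1 : a * b * (a * b) = b * b := by
        calc a * b * (a * b) = a * (b * a) * b := by group
          _ = (a * a) * (b * b) := by rw [← h]; group
          _ = b * b := by rw [ha, one_mul]
      have h2 := (hsame _ _).2 h1
      rw [e] at h2
      simpa using h2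
  · -- `a` squares to the central involution
    have ha1 : a * a ≠ 1 := fun e => by rw [(m.sq a).2 e] at ea; exact zero_ne_one ea
    have hz : ((a * a : ↥Q) : centralizer ({z} : Set G)).1 = z := (hbit a).resolve_left fun e =>
      ha1 (Subtype.ext (Subtype.ext e))
    have hcz : ∀ x : ↥Q, a * a * x = x * (a * a) := fun x => Subtype.ext (Subtype.ext (by
      show ((a * a : ↥Q) : centralizer ({z} : Set G)).1 * _ = _ * ((a * a : ↥Q) : centralizer ({z} : Set G)).1
      rw [hz]
      exact (mem_centralizer_singleton_iff.1 (x : centralizer ({z} : Set G)).2).symm))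
    have e : q (π (a * b)) = 1 + q (π b) + polar q (π a) (π b) := by rw [m.pi_mul, q_add, ea]
    constructor
    · intro h
      rw [h, add_zero] at e
      have h1 : a * b * (a * b) = a * a * (b * b) := by
        rcases z2_cases (q (π b)) with eb | eb <;> rw [eb] at e
        · rw [(m.sq b).1 eb, mul_one]
          exact (hsame _ _).1 (e.trans ((add_zero 1).trans ea.symm))
        · rw [← (hsame a b).1 (ea.trans eb.symm)]
          have h4 : a * b * (a * b) = 1 := (m.sq _).1 (e.trans (by decide))
          rw [h4]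
          refine (Subtype.ext (Subtype.ext ?_)).symm
          show ((a * a : ↥Q) : centralizer ({z} : Set G)).1 * ((a * a : ↥Q) : centralizer ({z} : Set G)).1 = 1
          have h5 := hbit (a * a)
          rcases h5 with h5 | h5
          · simpa using h5
          · exfalso
            rw [Subgroup.coe_mul, Subgroup.coe_mul, hz] at h5
            have hz1 : z = 1 := mul_eq_left.1 h5
            exact ha1 (Subtype.ext (Subtype.ext (hz.trans hz1)))
      calc a * b = a⁻¹ * (a * a * (b * b)) * b⁻¹ := by group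
        _ = a⁻¹ * (a * b * (a * b)) * b⁻¹ := by rw [h1]
        _ = b * a := by group
    · intro h
      have h1 : a * b * (a * b) = a * a * (b * b) := by rw [mul_assoc, ← mul_assoc b, ← h]; group
      rcases z2_cases (q (π b)) with eb | eb
      · rw [(m.sq b).1 eb, mul_one] at h1
        have h2 := (hsame _ _).2 h1
        rw [e, ea, eb, add_zero] at h2
        simpa using h2
      · rw [← (hsame a b).1 (ea.trans eb.symm)] at h1
        have hz2 : a * a * (a * a) = 1 := by
          have h5 := hbit (a * a)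
          rcases h5 with h5 | h5
          · exact Subtype.ext (Subtype.ext h5)
          · exfalso
            rw [Subgroup.coe_mul, Subgroup.coe_mul, hz] at h5
            exact ha1 (Subtype.ext (Subtype.ext (hz.trans (mul_eq_left.1 h5))))
        have h2 := (m.sq _).2 (h1.trans hz2)
        rw [e, eb] at h2
        revert h2
        generalize polar q (π a) (π b) = p
        revert p; decide

/-- A commutative subgroup of `Q` of order 128 containing the centre is its own centraliser. -/
theorem self_centralizing {A : Subgroup ↥Q} (hA : ∀ a ∈ A, ∀ b ∈ A, a * b = b * a) (hc : Nat.card ↥A = 128)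
    {zQ : ↥Q} (hzQ : ((zQ : centralizer ({z} : Set G)) : G) = z) (hzA : zQ ∈ A) {x : ↥Q}
    (hx : ∀ a ∈ A, x * a = a * x) : x ∈ A := by
  classical
  let U : AddSubgroup V :=
    { carrier := π '' (A : Set ↥Q)
      zero_mem' := ⟨1, one_mem A, m.pi_one⟩
      add_mem' := by
        rintro _ _ ⟨a, ha, rfl⟩ ⟨b, hb, rfl⟩
        exact ⟨a * b, mul_mem ha hb, m.pi_mul a b⟩
      neg_mem' := by
        rintro _ ⟨a, ha, rfl⟩
        exact ⟨a, ha, (eq_neg_of_add_eq_zero_left (vadd_self _))⟩ }
  choose sec hsec using m.surj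
  have hle : 64 ≤ Nat.card ↥U := by
    let f : ↥A → ↥U × Bool := fun a =>
      (⟨π (a : ↥Q), ⟨_, a.2, rfl⟩⟩, decide ((((a : ↥Q) : centralizer ({z} : Set G)) : G) =
        (sec (π (a : ↥Q)) : centralizer ({z} : Set G))))
    have hf : Function.Injective f := by
      intro a b e
      have e1 : π (a : ↥Q) = π (b : ↥Q) := congrArg (fun p : ↥U × Bool => (p.1 : V)) e
      have e2 := congrArg Prod.snd e
      simp only [f, decide_eq_decide, ← e1] at e2
      have hs := hsec (π (a : ↥Q))
      refine Subtype.ext (Subtype.ext (Subtype.ext ?_))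
      rcases m.pi_eq hs with ha | ha <;> rcases m.pi_eq (hs.trans e1) with hb | hb
      · rw [ha, hb]
      · rw [ha, (e2.1 ha)]
      · rw [hb, (e2.2 hb)]
      · rw [ha, hb]
    have h := Nat.card_le_card_of_injective f hf
    rw [hc, Nat.card_prod, Nat.card_eq_fintype_card (α := Bool), Fintype.card_bool] at h
    omega
  have hiso : U ≤ perpSub q U := by
    rintro _ ⟨a, ha, rfl⟩ _ ⟨b, hb, rfl⟩
    exact (m.polar_iff a b).2 (congrArg (fun y : ↥Q => ((y : centralizer ({z} : Set G)) : G)) (hA a ha b hb))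
  have hmem : π x ∈ perpSub q U := by
    rintro _ ⟨a, ha, rfl⟩
    exact (m.polar_iff x a).2 (congrArg (fun y : ↥Q => ((y : centralizer ({z} : Set G)) : G)) (hx a ha))
  have hcard := perpSub_card q m.core.nondeg U
  rw [m.core.cardV] at hcard
  have heq : U = perpSub q U := by
    refine SetLike.coe_injective (Set.eq_of_subset_of_ncard_le hiso ?_ (Set.toFinite _))
    rw [← Nat.card_coe_set_eq, ← Nat.card_coe_set_eq]
    show Nat.card ↥(perpSub q U) ≤ Nat.card ↥U
    norm_num at hcard
    nlinarith
  rw [← heq] at hmem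
  obtain ⟨a, ha, hax⟩ := hmem
  rcases m.pi_eq hax with e | e
  · rw [show x = a from Subtype.ext (Subtype.ext e)]; exact ha
  · rw [show x = a * zQ from Subtype.ext (Subtype.ext (e.trans (congrArg (((a : centralizer ({z} : Set G)) : G) * ·) hzQ.symm)))]
    exact mul_mem ha hzA

omit m in
/-- A vector orthogonal to everything orthogonal to `w`. -/
theorem double_perp {q : QuadraticForm (ZMod 2) V} (hnd : ∀ v, (∀ x, polar q v x = 0) → v = 0) {w u : V}
    (h : ∀ v, polar q v w = 0 → polar q v u = 0) : u = 0 ∨ u = w := by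
  by_contra hne
  rw [not_or] at hne
  obtain ⟨v, hv⟩ : ∃ v, polar q u v ≠ 0 := by
    by_contra hc
    simp only [not_exists, not_not] at hc
    exact hne.1 (hnd u hc)
  have hv1 : polar q v u = 1 := by rw [QuadraticMap.polar_comm]; exact (z2_cases _).resolve_left hv
  have hvw : polar q v w = 1 := (z2_cases _).resolve_left fun e => zero_ne_one ((h v e).symm.trans hv1)
  refine hne.2 (eq_of_vadd (hnd _ fun x => ?_))
  rw [QuadraticMap.polar_add_left, QuadraticMap.polar_comm _ u x, QuadraticMap.polar_comm _ w x]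
  rcases z2_cases (polar q x w) with e | e
  · rw [h x e, e, add_zero]
  · have h' : polar q (x + v) u = 0 := h _ (by rw [QuadraticMap.polar_add_left, e, hvw]; decide)
    rw [QuadraticMap.polar_add_left, hv1] at h'
    rw [e]
    exact h'

/-- The image in `C ⧸ Q` of the part of the conjugate of `Q` centralising `z`. -/
theorem centData_full {g : G} (h : PairHyp (Q.map (centralizer ({z} : Set G)).subtype) z g)
    (hcardQ : Nat.card ↥Q = 2 ^ 13) {x : ↥Q} (hx : ((x : centralizer ({z} : Set G)) : G) = g * z * g⁻¹) :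
    π x ≠ 0 ∧ ∃ D : AddSubgroup V,
      CentData q (π x) (((((Q.map (centralizer ({z} : Set G)).subtype)).map (MulAut.conj g).toMonoidHom ⊓
        centralizer ({z} : Set G)).subgroupOf (centralizer ({z} : Set G))).map (QuotientGroup.mk' Q)) D ∧
      Nat.card ↥(Q.map (centralizer ({z} : Set G)).subtype ⊓
        (Q.map (centralizer ({z} : Set G)).subtype).map (MulAut.conj g).toMonoidHom) = 2 * Nat.card ↥D ∧
      ∀ v, v ∈ D ↔ ∃ a : ↥Q, ((a : centralizer ({z} : Set G)) : G) ∈
        (Q.map (centralizer ({z} : Set G)).subtype).map (MulAut.conj g).toMonoidHom ∧ π a = v := by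
  classical
  set Qg := Q.map (centralizer ({z} : Set G)).subtype with hQg
  set R := Qg.map (MulAut.conj g).toMonoidHom with hR
  set s := g * z * g⁻¹ with hs
  have hmemQg : ∀ {y : G}, y ∈ Qg → ∃ a : ↥Q, ((a : centralizer ({z} : Set G)) : G) = y := by
    rintro _ ⟨a, ha, rfl⟩
    exact ⟨⟨a, ha⟩, rfl⟩
  have hQmem : ∀ a : ↥Q, ((a : centralizer ({z} : Set G)) : G) ∈ Qg := fun a => ⟨_, a.2, rfl⟩
  have hne : π x ≠ 0 := fun e => by
    rcases (m.ker x).1 e with e' | e' <;> rw [hx] at e'
    · exact h.x_ne_one e'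
    · exact h.ne e'
  refine ⟨hne, ?_⟩
  let D : AddSubgroup V :=
    { carrier := {v | ∃ a : ↥Q, ((a : centralizer ({z} : Set G)) : G) ∈ R ∧ π a = v}
      zero_mem' := ⟨1, one_mem R, m.pi_one⟩
      add_mem' := by
        rintro _ _ ⟨a, ha, rfl⟩ ⟨b, hb, rfl⟩
        exact ⟨a * b, mul_mem ha hb, m.pi_mul a b⟩
      neg_mem' := by
        rintro _ ⟨a, ha, rfl⟩
        exact ⟨a, ha, (eq_neg_of_add_eq_zero_left (vadd_self _))⟩ }
  refine ⟨D, ?_⟩
  have hzR : z ∈ R := h.automizer.2
  -- the order of the intersection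
  let f : ↥(Qg ⊓ R) →* Multiplicative ↥D :=
    MonoidHom.mk' (fun y => Multiplicative.ofAdd (⟨π ⟨⟨(y : G), map_subtype_le Q y.2.1⟩, by
        obtain ⟨a, ha⟩ := hmemQg y.2.1
        convert a.2 using 1
        exact Subtype.ext ha.symm⟩, ⟨_, y.2.2, rfl⟩⟩ : ↥D)) fun y y' =>
      by
        refine Multiplicative.toAdd.injective (Subtype.ext ?_)
        show π _ = π _ + π _
        exact m.pi_mul ⟨⟨(y : G), _⟩, _⟩ ⟨⟨(y' : G), _⟩, _⟩
  have hfsurj : Function.Surjective f := by
    intro v
    obtain ⟨a, ha, hv⟩ := (Multiplicative.toAdd v).2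
    exact ⟨⟨_, hQmem a, ha⟩, congrArg Multiplicative.ofAdd (Subtype.ext hv)⟩
  have hkerf : ∀ y, f y = 1 ↔ (y : G) = 1 ∨ (y : G) = z := fun y => by
    constructor
    · intro e
      exact (m.ker _).1 (congrArg (fun v : Multiplicative ↥D => Subtype.val (Multiplicative.toAdd v)) e)
    · intro e
      exact congrArg Multiplicative.ofAdd (Subtype.ext ((m.ker _).2 e))
  have hcardE : Nat.card ↥(Qg ⊓ R) = 2 * Nat.card ↥D := by
    have h1 := f.ker.card_mul_index
    rw [index_ker, MonoidHom.range_eq_top.2 hfsurj, card_top, Nat.card_congr Multiplicative.toAdd] at h1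
    have h2 : Nat.card ↥f.ker = 2 := by
      have h3 : (f.ker.map (Qg ⊓ R).subtype : Subgroup G) = zpowers z := by
        ext y
        constructor
        · rintro ⟨w, hw, rfl⟩
          rcases (hkerf w).1 hw with e | e <;> simp [e]
        · intro hy
          have hyE : y ∈ Qg ⊓ R := (zpowers_le.2 (show z ∈ Qg ⊓ R from ⟨h.z_mem, hzR⟩)) hy
          exact ⟨⟨y, hyE⟩, (hkerf _).2 (h.zp_cases y hy), rfl⟩
      rw [← card_map_of_injective (f := (Qg ⊓ R).subtype) (subtype_injective _), h3, Nat.card_zpowers, h.ord]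
    rw [← h1, h2]
  refine ⟨?_, hcardE, fun v => Iff.rfl⟩
  let B : Subgroup G := R ⊓ (centralizer ({z} : Set G))
  set Ē := ((R ⊓ (centralizer ({z} : Set G))).subgroupOf (centralizer ({z} : Set G))).map (QuotientGroup.mk' Q) with hĒ
  have hBmem : ∀ {e : (centralizer ({z} : Set G)) ⧸ Q}, e ∈ Ē → ∃ b : (centralizer ({z} : Set G)), (b : G) ∈ R ∧ (QuotientGroup.mk b : (centralizer ({z} : Set G)) ⧸ Q) = e := by
    rintro _ ⟨b, hb, rfl⟩
    exact ⟨b, hb.1, rfl⟩
  have hmkB : ∀ b : (centralizer ({z} : Set G)), (b : G) ∈ R → (QuotientGroup.mk b : (centralizer ({z} : Set G)) ⧸ Q) ∈ Ē := fun b hb => ⟨b, ⟨hb, b.2⟩, rfl⟩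
  have hact : ∀ (b : (centralizer ({z} : Set G))) (a : ↥Q), (QuotientGroup.mk b : (centralizer ({z} : Set G)) ⧸ Q) • π a = π a →
      (b : G) * ((a : (centralizer ({z} : Set G))) : G) * (b : G)⁻¹ = (a : (centralizer ({z} : Set G))) ∨ (b : G) * ((a : (centralizer ({z} : Set G))) : G) * (b : G)⁻¹ = ((a : (centralizer ({z} : Set G))) : G) * z := by
    intro b a e
    rw [m.equiv] at e
    have h2 : ((MulAut.conjNormal b a : ↥Q) : (centralizer ({z} : Set G))) = b * (a : (centralizer ({z} : Set G))) * b⁻¹ := MulAut.conjNormal_apply _ _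
    rcases m.pi_eq e.symm with e' | e' <;> rw [h2] at e'
    · exact .inl e'
    · exact .inr e'
  have hconj : ∀ (b : (centralizer ({z} : Set G))) (a : ↥Q), (QuotientGroup.mk b : (centralizer ({z} : Set G)) ⧸ Q) • π a + π a =
      π (MulAut.conjNormal b a * a⁻¹) := fun b a => by rw [m.equiv, m.pi_mul, m.pi_inv]
  have hconjval : ∀ (b : (centralizer ({z} : Set G))) (a : ↥Q), (((MulAut.conjNormal b a * a⁻¹ : ↥Q) : (centralizer ({z} : Set G))) : G) =
      (b : G) * ((a : (centralizer ({z} : Set G))) : G) * (b : G)⁻¹ * ((a : (centralizer ({z} : Set G))) : G)⁻¹ := fun b a => by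
    simp [MulAut.conjNormal_apply]
  -- the centraliser of `z` in the conjugate has index two
  have hBcard : Nat.card ↥B * 2 = 2 ^ 13 := by
    have hRcard : Nat.card ↥R = 2 ^ 13 := by
      rw [hR, card_map_of_injective (MulEquiv.injective _), hQg, card_map_of_injective (subtype_injective _), hcardQ]
    obtain ⟨r, hr, hrz⟩ : ∃ r ∈ R, r * z ≠ z * r := by
      by_contra hall
      simp only [not_exists, not_and, not_not] at hall
      have hwQ : g⁻¹ * z * g ∈ Qg := PairHyp.mem_map_iff.1 hzR
      have hcen : g⁻¹ * z * g ∈ centralizer (Qg : Set G) := mem_centralizer_iff.2 fun y hy => by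
        have h1 := hall (g * y * g⁻¹) ⟨y, hy, rfl⟩
        calc y * (g⁻¹ * z * g) = g⁻¹ * ((g * y * g⁻¹) * z) * g := by group
          _ = g⁻¹ * z * g * y := by rw [h1]; group
      rw [h.self, h.centre] at hcen
      rcases h.zp_cases _ hcen with e | e
      · exact h.z_ne_one (by calc z = g * (g⁻¹ * z * g) * g⁻¹ := by group
          _ = 1 := by rw [e]; group)
      · exact h.ne (by calc g * z * g⁻¹ = g * (g⁻¹ * z * g) * g⁻¹ := by rw [e]
          _ = z := by group)
    have hidx : (B.subgroupOf R).index = 2 := by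
      refine index_eq_two_iff.2 ⟨⟨r, hr⟩, fun b => ?_⟩
      have hBiff : ∀ y : ↥R, y ∈ B.subgroupOf R ↔ (y : G) * z = z * (y : G) := fun y =>
        ⟨fun hy => mem_centralizer_singleton_iff.1 hy.2, fun hy => ⟨y.2, mem_centralizer_singleton_iff.2 hy⟩⟩
      simp only [hBiff, Subgroup.coe_mul]
      by_cases hb : (b : G) * z = z * (b : G)
      · refine .inr ⟨hb, fun h1 => hrz ?_⟩
        calc r * z = (b : G)⁻¹ * ((b : G) * r * z) := by group
          _ = (b : G)⁻¹ * z * (b : G) * r := by rw [h1]; group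
          _ = z * r := by rw [mul_assoc (b : G)⁻¹, ← hb]; group
      · refine .inl ⟨?_, hb⟩
        have h1 : r * z * r⁻¹ = s * z := by
          rcases h.map_comm_cases hr hzR with e | e
          · exact absurd (by rwa [mul_inv_eq_one, mul_inv_eq_iff_eq_mul] at e) hrz
          · exact eq_mul_of_mul_inv_eq e
        have h2 : (b : G) * z * (b : G)⁻¹ = s * z := by
          rcases h.map_comm_cases b.2 hzR with e | e
          · exact absurd (by rwa [mul_inv_eq_one, mul_inv_eq_iff_eq_mul] at e) hb
          · exact eq_mul_of_mul_inv_eq e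
        have h3 : (b : G) * s = s * (b : G) := h.map_comm b.2
        calc (b : G) * r * z = (b : G) * (r * z * r⁻¹) * r := by group
          _ = ((b : G) * s) * z * r := by rw [h1]; group
          _ = s * ((b : G) * z * (b : G)⁻¹) * ((b : G) * r) := by rw [h3]; group
          _ = z * ((b : G) * r) := by rw [h2, ← mul_assoc s s z, h.xx, one_mul]
    have h1 := (B.subgroupOf R).card_mul_index
    rw [hidx, hRcard, Nat.card_congr (subgroupOfEquivOfLe (inf_le_left : B ≤ R)).toEquiv] at h1
    exact h1
  have hcardĒ : Nat.card ↥Ē * Nat.card ↥D = 2 ^ 11 := by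
    let p : ↥(B.subgroupOf (centralizer ({z} : Set G))) →* (centralizer ({z} : Set G)) ⧸ Q := (QuotientGroup.mk' Q).comp (B.subgroupOf (centralizer ({z} : Set G))).subtype
    have hp : p.range = Ē := by rw [MonoidHom.range_comp, range_subtype]
    have h1 := p.ker.card_mul_index
    rw [index_ker, hp, Nat.card_congr (subgroupOfEquivOfLe (inf_le_right : B ≤ (centralizer ({z} : Set G)))).toEquiv] at h1
    have h2 : Nat.card ↥p.ker = Nat.card ↥(Qg ⊓ R) := by
      refine Nat.card_congr
        { toFun := fun y => ⟨((y : ↥(B.subgroupOf (centralizer ({z} : Set G)))) : (centralizer ({z} : Set G))).1,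
            ⟨⟨_, (QuotientGroup.eq_one_iff _).1 (MonoidHom.mem_ker.1 y.2), rfl⟩, (y : ↥(B.subgroupOf (centralizer ({z} : Set G)))).2.1⟩⟩
          invFun := fun y => ⟨⟨⟨y, map_subtype_le Q y.2.1⟩, ⟨y.2.2, map_subtype_le Q y.2.1⟩⟩,
            MonoidHom.mem_ker.2 ((QuotientGroup.eq_one_iff _).2 (by
              obtain ⟨a, ha⟩ := hmemQg y.2.1
              convert a.2 using 1
              exact Subtype.ext ha.symm))⟩
          left_inv := fun y => rfl
          right_inv := fun y => rfl }
    rw [h2, hcardE] at h1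
    norm_num at hBcard ⊢
    nlinarith
  have helem : Cfsg.IsElementaryAbelian 2 Ē := by
    have hin : ∀ y : (centralizer ({z} : Set G)), ((y : G) = 1 ∨ (y : G) = s) → y ∈ Q := by
      rintro y (e | e)
      · rw [show y = 1 from Subtype.ext e]; exact one_mem Q
      · rw [show y = (x : (centralizer ({z} : Set G))) from Subtype.ext (e.trans hx.symm)]; exact x.2
    refine ⟨⟨⟨?_⟩⟩, ?_⟩
    · rintro ⟨e, he⟩ ⟨e', he'⟩
      obtain ⟨b, hb, rfl⟩ := hBmem he
      obtain ⟨b', hb', rfl⟩ := hBmem he'
      refine Subtype.ext ?_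
      show (QuotientGroup.mk b : (centralizer ({z} : Set G)) ⧸ Q) * QuotientGroup.mk b' = QuotientGroup.mk b' * QuotientGroup.mk b
      rw [← mul_inv_eq_one, ← QuotientGroup.mk_mul, ← QuotientGroup.mk_mul, ← QuotientGroup.mk_inv,
        ← QuotientGroup.mk_mul, QuotientGroup.eq_one_iff]
      refine hin _ ?_
      have := h.map_comm_cases hb hb'
      simpa [hs, mul_inv_rev, mul_assoc] using this
    · intro e he
      obtain ⟨b, hb, rfl⟩ := hBmem he
      rw [← QuotientGroup.mk_pow, QuotientGroup.eq_one_iff]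
      refine hin _ ?_
      rw [pow_two]
      exact h.map_sq_cases hb
  have hxR : ((x : (centralizer ({z} : Set G))) : G) ∈ R := hx ▸ h.x_mem_map
  have hsing : ∀ d ∈ D, q d = 0 := by
    rintro _ ⟨a, ha, rfl⟩
    rw [m.sq]
    exact Subtype.ext (Subtype.ext (h.E_sq _ ⟨hQmem a, ha⟩))
  have hD64 : Nat.card ↥D = 64 := by
    have hle : Nat.card ↥D ≤ 64 := by
      have h1 := perpSub_card q m.core.nondeg D
      have hsub : D ≤ perpSub q D := fun d hd u hu => by
        rw [polar, hsing _ (D.add_mem hd hu), hsing _ hd, hsing _ hu]; ring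
      have h2 := Nat.le_of_dvd Nat.card_pos (AddSubgroup.card_dvd_of_le hsub)
      rw [m.core.cardV] at h1
      norm_num at h1
      nlinarith
    have h32 : Nat.card ↥Ē ≤ 32 := by
      haveI := m.core.M_normal
      have h0 : Nat.card ↥(Ē ⊓ M) ≤ 16 := m.core.elem_le inf_le_right
        ⟨⟨⟨fun a b => Subtype.ext (congrArg (fun y : ↥Ē => (y : (centralizer ({z} : Set G)) ⧸ Q))
          (helem.1.is_comm.comm ⟨a, a.2.1⟩ ⟨b, b.2.1⟩))⟩⟩, fun a ha => helem.2 a ha.1⟩
      have hrel : (Ē ⊓ M).relIndex Ē ≤ 2 := by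
        have := relIndex_dvd_index_of_normal M Ē
        rw [m.core.indexM] at this
        rw [inf_relIndex_left]
        exact Nat.le_of_dvd (by norm_num) this
      have h1 := relIndex_mul_relIndex ⊥ (Ē ⊓ M) Ē bot_le inf_le_left
      simp only [relIndex_bot_left] at h1
      nlinarith
    norm_num at hcardĒ
    nlinarith
  refine ⟨⟨x, hxR, rfl⟩, hsing, hcardĒ, helem, ?_, ?_, ?_, ?_, ?_, ?_⟩
  · intro e he
    obtain ⟨b, hb, rfl⟩ := hBmem he
    rw [m.equiv]
    congr 1
    refine Subtype.ext (Subtype.ext ?_)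
    rw [MulAut.conjNormal_apply]
    show (b : G) * ((x : (centralizer ({z} : Set G))) : G) * (b : G)⁻¹ = _
    rw [hx, h.map_comm hb, mul_inv_cancel_right]
  · intro k hk e he
    obtain ⟨c, rfl⟩ := QuotientGroup.mk_surjective k
    obtain ⟨c', hc', hcs⟩ : ∃ c' : (centralizer ({z} : Set G)), (QuotientGroup.mk c' : (centralizer ({z} : Set G)) ⧸ Q) = QuotientGroup.mk c ∧
        (c' : G) * s = s * (c' : G) := by
      rcases hact c x hk with e1 | e1 <;> rw [hx] at e1
      · exact ⟨c, rfl, mul_inv_eq_iff_eq_mul.1 e1⟩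
      · obtain ⟨q', hq', hqs⟩ := h.automizer.1
        obtain ⟨a, rfl⟩ := hmemQg hq'
        refine ⟨(a : (centralizer ({z} : Set G))) * c, ?_, ?_⟩
        · rw [QuotientGroup.mk_mul, (QuotientGroup.eq_one_iff _).2 a.2, one_mul]
        · rw [Subgroup.coe_mul]
          apply mul_inv_eq_iff_eq_mul.1
          calc ((a : (centralizer ({z} : Set G))) : G) * (c : G) * s * (((a : (centralizer ({z} : Set G))) : G) * (c : G))⁻¹
              = ((a : (centralizer ({z} : Set G))) : G) * ((c : G) * s * (c : G)⁻¹) * ((a : (centralizer ({z} : Set G))) : G)⁻¹ := by group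
            _ = (((a : (centralizer ({z} : Set G))) : G) * s * ((a : (centralizer ({z} : Set G))) : G)⁻¹) * (((a : (centralizer ({z} : Set G))) : G) * z * ((a : (centralizer ({z} : Set G))) : G)⁻¹) := by rw [e1]; group
            _ = s := by
              rw [hqs, h.z_comm (hQmem a), mul_inv_cancel_right, mul_assoc, h.xz, ← mul_assoc, h.zz, one_mul]
    obtain ⟨b, hb, rfl⟩ := hBmem he
    rw [← hc', ← QuotientGroup.mk_inv, ← QuotientGroup.mk_mul, ← QuotientGroup.mk_mul]
    refine hmkB _ ?_
    show (c' : G) * (b : G) * (c' : G)⁻¹ ∈ R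
    exact (mem_normalizer_iff.1 (h.normalizer_map (mem_centralizer_singleton_iff.2 hcs)) _).1 hb
  · rintro e he _ ⟨a, ha, rfl⟩
    obtain ⟨b, hb, rfl⟩ := hBmem he
    rcases h.map_comm_cases hb ha with e1 | e1
    · left
      refine eq_of_vadd ?_
      rw [hconj]
      exact (m.ker _).2 (.inl ((hconjval b a).trans e1))
    · right
      refine eq_of_vadd ?_
      rw [← add_assoc, hconj, ← m.pi_mul]
      refine (m.ker _).2 (.inl ?_)
      rw [Subgroup.coe_mul, Subgroup.coe_mul, hconjval, e1, hx, h.xx]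
  · intro e he v hv
    obtain ⟨b, hb, rfl⟩ := hBmem he
    obtain ⟨a, rfl⟩ := m.surj v
    have hac := (m.polar_iff a x).1 hv
    rw [hx] at hac
    rw [hconj]
    refine ⟨_, ?_, rfl⟩
    rw [hconjval]
    refine (h.R_mod_E _ (mem_sup_left ⟨hb, b.2⟩) _ (mem_sup_right ⟨hQmem a, ?_⟩)).1.2
    exact mem_centralizer_singleton_iff.2 hac
  · intro e he hfix
    obtain ⟨b, hb, rfl⟩ := hBmem he
    have hcomm : ∀ y ∈ Qg ⊓ R, (b : G) * y = y * (b : G) := by
      intro y hy
      obtain ⟨a, rfl⟩ := hmemQg hy.1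
      rcases hact b a (hfix _ ⟨a, hy.2, rfl⟩) with e1 | e1
      · exact mul_inv_eq_iff_eq_mul.1 e1
      · exfalso
        rcases h.map_comm_cases hb hy.2 with e2 | e2 <;> rw [e1] at e2
        · rw [mul_inv_eq_one] at e2
          exact h.z_ne_one (mul_eq_left.1 e2)
        · refine h.ne (e2.symm.trans ?_)
          rw [h.z_comm (hQmem a), mul_inv_cancel_right]
    -- pull back to `Q`
    obtain ⟨b₀, hb₀⟩ := hmemQg (PairHyp.mem_map_iff.1 hb)
    let toG : ↥Q →* G := (centralizer ({z} : Set G)).subtype.comp Q.subtype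
    let A : Subgroup ↥Q := (Qg ⊓ R).comap ((MulAut.conj g).toMonoidHom.comp toG)
    have hAiff : ∀ a : ↥Q, a ∈ A ↔ g * ((a : (centralizer ({z} : Set G))) : G) * g⁻¹ ∈ Qg ⊓ R := fun a => Iff.rfl
    have hAc : ∀ a ∈ A, ∀ a' ∈ A, a * a' = a' * a := fun a ha a' ha' => by
      have h1 := h.E_comm _ ((hAiff a).1 ha) _ ((hAiff a').1 ha')
      refine Subtype.ext (Subtype.ext ?_)
      show ((a : (centralizer ({z} : Set G))) : G) * ((a' : (centralizer ({z} : Set G))) : G) = ((a' : (centralizer ({z} : Set G))) : G) * ((a : (centralizer ({z} : Set G))) : G)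
      calc ((a : (centralizer ({z} : Set G))) : G) * ((a' : (centralizer ({z} : Set G))) : G)
          = g⁻¹ * ((g * ((a : (centralizer ({z} : Set G))) : G) * g⁻¹) * (g * ((a' : (centralizer ({z} : Set G))) : G) * g⁻¹)) * g := by group
        _ = _ := by rw [h1]; group
    have hAcard : Nat.card ↥A = 128 := by
      have hinj : Function.Injective ((MulAut.conj g).toMonoidHom.comp toG) :=
        fun a b e => Subtype.ext (Subtype.ext ((MulAut.conj g).injective e))
      have hrg : Qg ⊓ R ≤ ((MulAut.conj g).toMonoidHom.comp toG).range := by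
        rintro y ⟨-, hy⟩
        obtain ⟨w, hw, rfl⟩ := hy
        obtain ⟨a, rfl⟩ := hmemQg hw
        exact ⟨a, rfl⟩
      rw [← card_map_of_injective (f := (MulAut.conj g).toMonoidHom.comp toG) hinj, map_comap_eq_self hrg, hcardE, hD64]
    obtain ⟨zQ, hzQ⟩ := hmemQg h.z_mem
    have hzA : zQ ∈ A := by
      rw [hAiff, hzQ]
      exact ⟨h.mem, h.x_mem_map⟩
    have hb₀A : b₀ ∈ A := m.self_centralizing hAc hAcard hzQ hzA fun a ha => by
      have h1 := hcomm _ ((hAiff a).1 ha)
      refine Subtype.ext (Subtype.ext ?_)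
      show ((b₀ : (centralizer ({z} : Set G))) : G) * ((a : (centralizer ({z} : Set G))) : G) = ((a : (centralizer ({z} : Set G))) : G) * ((b₀ : (centralizer ({z} : Set G))) : G)
      rw [hb₀]
      calc g⁻¹ * (b : G) * g * ((a : (centralizer ({z} : Set G))) : G) = g⁻¹ * ((b : G) * (g * ((a : (centralizer ({z} : Set G))) : G) * g⁻¹)) * g := by group
        _ = _ := by rw [h1]; group
    have hbQ : (b : G) ∈ Qg := by
      have h1 := ((hAiff b₀).1 hb₀A).1
      rw [hb₀] at h1
      simpa [mul_assoc] using h1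
    obtain ⟨a, ha⟩ := hmemQg hbQ
    rw [QuotientGroup.eq_one_iff, show b = (a : (centralizer ({z} : Set G))) from Subtype.ext ha.symm]
    exact a.2
  · rintro _ ⟨a, ha, rfl⟩ hfix
    have hcomm : ∀ b ∈ B, b * ((a : (centralizer ({z} : Set G))) : G) = ((a : (centralizer ({z} : Set G))) : G) * b := by
      intro b hb
      rcases hact ⟨b, hb.2⟩ a (hfix _ (hmkB ⟨b, hb.2⟩ hb.1)) with e1 | e1
      · exact mul_inv_eq_iff_eq_mul.1 e1
      · exfalso
        have e1' : b * ((a : (centralizer ({z} : Set G))) : G) * b⁻¹ = ((a : (centralizer ({z} : Set G))) : G) * z := e1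
        rcases h.map_comm_cases hb.1 ha with e2 | e2 <;> rw [e1'] at e2
        · rw [mul_inv_eq_one] at e2
          exact h.z_ne_one (mul_eq_left.1 e2)
        · refine h.ne (e2.symm.trans ?_)
          rw [h.z_comm (hQmem a), mul_inv_cancel_right]
    obtain ⟨w, hw⟩ := hmemQg (PairHyp.mem_map_iff.1 hzR)
    obtain ⟨a₀, ha₀⟩ := hmemQg (PairHyp.mem_map_iff.1 ha)
    have hperp : ∀ v, polar q v (π w) = 0 → polar q v (π a₀) = 0 := by
      intro v hv
      obtain ⟨y, rfl⟩ := m.surj v
      rw [m.polar_iff] at hv ⊢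
      rw [hw] at hv
      rw [ha₀]
      have hyB : g * ((y : (centralizer ({z} : Set G))) : G) * g⁻¹ ∈ B := by
        refine ⟨⟨_, hQmem y, rfl⟩, mem_centralizer_singleton_iff.2 ?_⟩
        calc g * ((y : (centralizer ({z} : Set G))) : G) * g⁻¹ * z = g * (((y : (centralizer ({z} : Set G))) : G) * (g⁻¹ * z * g)) * g⁻¹ := by group
          _ = _ := by rw [hv]; group
      have h1 := hcomm _ hyB
      calc ((y : (centralizer ({z} : Set G))) : G) * (g⁻¹ * ((a : (centralizer ({z} : Set G))) : G) * g)
          = g⁻¹ * ((g * ((y : (centralizer ({z} : Set G))) : G) * g⁻¹) * ((a : (centralizer ({z} : Set G))) : G)) * g := by group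
        _ = _ := by rw [h1]; group
    have hgoal : π a = 0 ∨ π a = π x := by
      have key : ((a : (centralizer ({z} : Set G))) : G) = g * ((a₀ : (centralizer ({z} : Set G))) : G) * g⁻¹ := by rw [ha₀]; group
      rcases double_perp m.core.nondeg hperp with e | e
      · rcases (m.ker _).1 e with e' | e' <;> rw [e'] at key
        · left; exact (m.ker _).2 (.inl (key.trans (by group)))
        · right
          exact congrArg π (Subtype.ext (Subtype.ext (key.trans hx.symm)))
      · rcases m.pi_eq e with e' | e'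
        · left
          rw [← e', hw] at key
          refine (m.ker _).2 (.inr (key.trans ?_))
          group
        · right
          have hzQ' : ((a₀ : (centralizer ({z} : Set G))) : G) = (g⁻¹ * z * g) * z := by
            have hzz := h.zz
            rw [← hw, e', mul_assoc, hzz, mul_one]
          rw [hzQ'] at key
          have h1 : ((a : (centralizer ({z} : Set G))) : G) = z * ((x : (centralizer ({z} : Set G))) : G) := by rw [key, hx]; simp only [hs]; group
          have h2 : π (a * x⁻¹) = 0 := (m.ker _).2 (.inr (by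
            rw [Subgroup.coe_mul, Subgroup.coe_mul, h1, Subgroup.coe_inv, Subgroup.coe_inv]; group))
          rw [m.pi_mul, m.pi_inv] at h2
          exact eq_of_vadd h2
    exact hgoal

/-- The image in `C ⧸ Q` of the part of the conjugate of `Q` centralising `z`. -/
theorem centData {g : G} (h : PairHyp (Q.map (centralizer ({z} : Set G)).subtype) z g)
    (hcardQ : Nat.card ↥Q = 2 ^ 13) {x : ↥Q} (hx : ((x : centralizer ({z} : Set G)) : G) = g * z * g⁻¹) :
    π x ≠ 0 ∧ ∃ D : AddSubgroup V,
      CentData q (π x) (((((Q.map (centralizer ({z} : Set G)).subtype)).map (MulAut.conj g).toMonoidHom ⊓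
        centralizer ({z} : Set G)).subgroupOf (centralizer ({z} : Set G))).map (QuotientGroup.mk' Q)) D ∧
      Nat.card ↥(Q.map (centralizer ({z} : Set G)).subtype ⊓
        (Q.map (centralizer ({z} : Set G)).subtype).map (MulAut.conj g).toMonoidHom) = 2 * Nat.card ↥D := by
  obtain ⟨h1, D, h2, h3, -⟩ := m.centData_full h hcardQ hx
  exact ⟨h1, D, h2, h3⟩

end CfsgLib.LargeFischer.Model
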