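import Cfsg.Agent.Lib.LargeFischer.Stab
import Cfsg.Agent.Lib.Classical.HermOrder

/-!
# Hermitian coordinates on the section attached to the other vector
-/

set_option autoImplicit false
set_option linter.unusedSectionVars false
set_option linter.unusedSimpArgs false

namespace CfsgLib.LargeFischer

open QuadraticMap
open CfsgLib.Schur.Tails.UFour (H4)

/-- The field with four elements. -/
abbrev F4 : Type := GaloisField 2 2

noncomputable instance : Fintype F4 := Fintype.ofFinite F4

theorem card_F4 : Fintype.card F4 = 4 := by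
  rw [← Nat.card_eq_fintype_card, GaloisField.card 2 2 (by norm_num)]; norm_num

theorem card_F4' : Fintype.card F4 = 2 ^ 2 := by rw [card_F4]; norm_num

/-- The inclusion of the field of two elements. -/
noncomputable def em : ZMod 2 →+* F4 := algebraMap (ZMod 2) F4

theorem exists_omega : ∃ w : F4, w * w = w + 1 := by
  classical
  obtain ⟨x, hx⟩ : ∃ x : F4, x ∉ ({0, 1} : Finset F4) := by
    by_contra h
    simp only [not_exists, not_not] at h
    have h1 := Finset.card_le_card (s := (Finset.univ : Finset F4)) (t := ({0, 1} : Finset F4)) fun y _ => h y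
    rw [Finset.card_univ, card_F4] at h1
    have h2 := Finset.card_le_two (a := (0 : F4)) (b := 1)
    omega
  simp only [Finset.mem_insert, Finset.mem_singleton, not_or] at hx
  refine ⟨x, ?_⟩
  have h3 := FiniteField.pow_card_sub_one_eq_one x hx.1
  rw [card_F4] at h3
  have h4 : (x - 1) * (x * x + x + 1) = 0 := by linear_combination h3
  have h5 := (mul_eq_zero.1 h4).resolve_left (sub_ne_zero.2 hx.2)
  have h2 : (2 : F4) = 0 := CharTwo.two_eq_zero
  linear_combination h5 - (x + 1) * h2

theorem surj_F4 {w : F4} (hw : w * w = w + 1) : ∀ x : F4, ∃ a b : ZMod 2, em a + em b * w = x := by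
  have hinj : Function.Injective fun p : ZMod 2 × ZMod 2 => em p.1 + em p.2 * w := by
    rintro ⟨a, b⟩ ⟨a', b'⟩ h
    have h' : em (a - a') + em (b - b') * w = 0 := by
      simp only [map_sub]; linear_combination h
    rcases z2_cases (b - b') with e | e
    · rw [e, map_zero, zero_mul, add_zero] at h'
      have ha : a - a' = 0 := em.injective (h'.trans (map_zero em).symm)
      rw [sub_eq_zero.1 ha, sub_eq_zero.1 e]
    · exfalso
      rw [e, map_one, one_mul] at h'
      rcases z2_cases (a - a') with e' | e'
      · rw [e', map_zero, zero_add] at h'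
        rw [h', mul_zero, zero_add] at hw
        exact zero_ne_one hw
      · rw [e', map_one] at h'
        have : w = 1 := by
          have h2 : (2 : F4) = 0 := CharTwo.two_eq_zero
          linear_combination h' - h2
        have h2 : (2 : F4) = 0 := CharTwo.two_eq_zero
        rw [this] at hw
        exact one_ne_zero (α := F4) (by linear_combination -hw)
  have hbij := (Nat.bijective_iff_injective_and_card _).2 ⟨hinj, by
    rw [Nat.card_prod, Nat.card_zmod, Nat.card_eq_fintype_card, card_F4]⟩
  intro x
  obtain ⟨⟨a, b⟩, h⟩ := hbij.2 x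
  exact ⟨a, b, h⟩

/-- The square of a coordinate is its conjugate. -/
theorem conj_coord {w : F4} (hw : w * w = w + 1) (a b : ZMod 2) :
    (em a + em b * w) ^ 2 = em (a + b) + em b * w := by
  have h2 : (2 : F4) = 0 := CharTwo.two_eq_zero
  rcases z2_cases a with rfl | rfl <;> rcases z2_cases b with rfl | rfl <;>
    simp only [map_zero, map_one, map_add, zero_mul, one_mul, add_zero, zero_add]
  · ring
  · linear_combination hw
  · ring
  · linear_combination hw + w * h2

/-- The product of a coordinate with the conjugate of another. -/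
theorem mul_conj_coord {w : F4} (hw : w * w = w + 1) (a b a' b' : ZMod 2) :
    (em a + em b * w) * (em a' + em b' * w) ^ 2 =
      em (a * a' + a * b' + b * b') + em (a' * b + b' * a) * w := by
  have h2 : (2 : F4) = 0 := CharTwo.two_eq_zero
  rw [conj_coord hw]
  simp only [map_add, map_mul]
  linear_combination em b * em b' * hw + em b * em b' * w * h2

variable {V : Type*} [AddCommGroup V] [Module (ZMod 2) V] [Finite V]
  {K : Type*} [Group K] [Finite K] [DistribMulAction K V]

/-- A family of orthogonal planes invariant under `n` in the orthogonal space of a vector and its image. -/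
structure Fam (q : QuadraticForm (ZMod 2) V) (n : K) (t : V) (k : ℕ) (w : Fin k → V) : Prop where
  left : ∀ i, polar q (w i) t = 0
  right : ∀ i, polar q (w i) (n • t) = 0
  same : ∀ i j, polar q (w i) (w j) = 0
  cross : ∀ i j, polar q (w i) (n • w j) = if i = j then 1 else 0

namespace Core

variable {q : QuadraticForm (ZMod 2) V} {n : K} {M : Subgroup K} {φ : ↥M →* ↥H4} (c : Core q n M φ) {s : V}
  (hs : Central q K s)

include c hs

theorem n_quad (v : V) : n • n • v = v + n • v := by
  refine eq_of_vadd (c.fixN_eq_zero hs ?_)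
  simp only [smul_add, c.smul_n_three]
  abel

theorem polar_n_left (x y : V) : polar q (n • x) y = polar q x y + polar q x (n • y) := by
  calc polar q (n • x) y = polar q (n • x) (n • n • n • y) := by rw [c.smul_n_three]
    _ = polar q x (n • n • y) := c.polar_smul n _ _
    _ = _ := by rw [c.n_quad hs, QuadraticMap.polar_add_right]

theorem polar_n_symm (x y : V) : polar q y (n • x) = polar q x y + polar q x (n • y) := by
  rw [QuadraticMap.polar_comm]; exact c.polar_n_left hs x y

theorem polar_t_nt {t : V} (ht : q t = 0) : polar q t (n • t) = 0 := by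
  have h1 : q (n • n • t) = 0 := by rw [c.isom, c.isom, ht]
  rw [c.n_quad hs, q_add, ht, c.isom, ht] at h1
  simpa using h1

/-- The orthogonal space of a singular vector and its image. -/
def Wsp (q : QuadraticForm (ZMod 2) V) (n : K) (t : V) : AddSubgroup V where
  carrier := {x | polar q x t = 0 ∧ polar q x (n • t) = 0}
  zero_mem' := ⟨QuadraticMap.polar_zero_left q _, QuadraticMap.polar_zero_left q _⟩
  add_mem' := fun {a b} ha hb => by
    constructor <;> rw [QuadraticMap.polar_add_left]
    · rw [ha.1, hb.1, add_zero]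
    · rw [ha.2, hb.2, add_zero]
  neg_mem' := fun {a} ha => by
    constructor <;> rw [QuadraticMap.polar_neg_left]
    · rw [ha.1, neg_zero]
    · rw [ha.2, neg_zero]

variable {t : V} (ht : q t = 0) (ht0 : t ≠ 0)
include ht ht0

/-- The vector `t` and its images. -/
theorem line_perp : Nat.card ↥(Wsp q n t) * 4 = 4096 ∧
    ∀ x, (∀ y ∈ Wsp q n t, polar q x y = 0) → x = 0 ∨ x = t ∨ x = n • t ∨ x = t + n • t := by
  have hnt : n • t ≠ t := c.smul_n_ne hs ht0
  have hnt0 : n • t ≠ 0 := fun e => ht0 (by rw [← inv_smul_smul n t, e, smul_zero])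
  have hadd : t + n • t ≠ 0 := fun e => hnt (eq_of_vadd e).symm
  let T : AddSubgroup V :=
    { carrier := {0, t, n • t, t + n • t}
      zero_mem' := .inl rfl
      add_mem' := by
        have e1 : t + (t + n • t) = n • t := by rw [← add_assoc, vadd_self, zero_add]
        have e2 : n • t + (t + n • t) = t := by rw [add_comm t, ← add_assoc, vadd_self, zero_add]
        intro a b ha hb
        simp only [Set.mem_insert_iff, Set.mem_singleton_iff] at ha hb ⊢
        rcases ha with e | e | e | e <;> rcases hb with e' | e' | e' | e' <;> rw [e, e'] <;>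
          simp [vadd_self, e1, e2, add_comm (n • t) t, add_comm (t + n • t)]
      neg_mem' := by
        intro a ha
        rwa [← eq_neg_of_add_eq_zero_left (vadd_self a)] }
  have hT : Nat.card ↥T = 4 := by
    show Nat.card ↥({0, t, n • t, t + n • t} : Set V) = 4
    rw [Nat.card_coe_set_eq, Set.ncard_insert_of_notMem (by
        simp only [Set.mem_insert_iff, Set.mem_singleton_iff, not_or]
        exact ⟨Ne.symm ht0, Ne.symm hnt0, Ne.symm hadd⟩),
      Set.ncard_insert_of_notMem (by
        simp only [Set.mem_insert_iff, Set.mem_singleton_iff, not_or]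
        exact ⟨Ne.symm hnt, fun e => hnt0 (add_left_cancel (e.symm.trans (add_zero t).symm))⟩),
      Set.ncard_pair (fun e => ht0 (add_right_cancel ((zero_add (n • t)).trans e)).symm)]
  have hWT : Wsp q n t = perpSub q T := by
    ext x
    constructor
    · rintro ⟨h1, h2⟩ u (rfl | rfl | rfl | rfl)
      · exact QuadraticMap.polar_zero_right q x
      · exact h1
      · exact h2
      · rw [QuadraticMap.polar_add_right, h1, h2, add_zero]
    · exact fun h => ⟨h t (.inr (.inl rfl)), h _ (.inr (.inr (.inl rfl)))⟩
  have h4096 : Nat.card V = 4096 := by rw [c.cardV]; norm_num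
  have hW : Nat.card ↥(Wsp q n t) * 4 = 4096 := by
    rw [hWT, ← hT, perpSub_card q c.nondeg, h4096]
  refine ⟨hW, fun x hx => ?_⟩
  have h2 := perpSub_card q c.nondeg (Wsp q n t)
  rw [h4096] at h2
  have hle : T ≤ perpSub q (Wsp q n t) := fun u hu y hy => by
    rw [hWT] at hy
    rw [QuadraticMap.polar_comm]
    exact hy u hu
  have heq : T = perpSub q (Wsp q n t) := by
    refine SetLike.coe_injective (Set.eq_of_subset_of_ncard_le hle ?_ (Set.toFinite _))
    rw [← Nat.card_coe_set_eq, ← Nat.card_coe_set_eq]
    show Nat.card ↥(perpSub q (Wsp q n t)) ≤ Nat.card ↥T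
    have : 0 < Nat.card ↥(Wsp q n t) := Nat.card_pos
    nlinarith
  have : x ∈ T := heq ▸ (fun y hy => hx y hy)
  rcases this with e | e | e | e
  · exact .inl e
  · exact .inr (.inl e)
  · exact .inr (.inr (.inl e))
  · exact .inr (.inr (.inr e))

theorem exists_fam : ∀ k, k ≤ 4 → ∃ w : Fin k → V, Fam q n t k w := by
  classical
  obtain ⟨hW, hWperp⟩ := c.line_perp hs ht ht0
  intro k
  induction k with
  | zero => exact fun _ => ⟨Fin.elim0, fun i => i.elim0, fun i => i.elim0, fun i => i.elim0, fun i => i.elim0⟩
  | succ k ih =>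
    intro hk
    obtain ⟨w, hw⟩ := ih (by omega)
    -- the orthogonal space of the family
    let f : ↥(Wsp q n t) →+ (Fin k → ZMod 2 × ZMod 2) :=
      AddMonoidHom.mk' (fun x i => (polar q (w i) (x : V), polar q (n • w i) (x : V))) fun x y => funext fun i =>
        Prod.ext (QuadraticMap.polar_add_right q _ _ _) (QuadraticMap.polar_add_right q _ _ _)
    have hker : ∀ x : ↥(Wsp q n t), x ∈ f.ker ↔
        ∀ i, polar q (w i) (x : V) = 0 ∧ polar q (n • w i) (x : V) = 0 := fun x =>
      ⟨fun h i => by
          have := congrFun (AddMonoidHom.mem_ker.1 h) i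
          exact ⟨congrArg Prod.fst this, congrArg Prod.snd this⟩,
        fun h => AddMonoidHom.mem_ker.2 (funext fun i => Prod.ext (h i).1 (h i).2)⟩
    have hbig : 4 < Nat.card ↥f.ker := by
      have h := f.ker.card_mul_index
      rw [AddSubgroup.index_ker] at h
      have h1 : Nat.card f.range ≤ 64 := by
        refine (Nat.card_le_card_of_injective (fun x : f.range => x.1) Subtype.val_injective).trans ?_
        rw [Nat.card_fun, Nat.card_prod, Nat.card_zmod, Nat.card_fin]
        exact (Nat.pow_le_pow_right (by norm_num) (by omega : k ≤ 3)).trans (by norm_num)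
      nlinarith
    obtain ⟨w', hw'W, hw'f, hw'1⟩ : ∃ w' ∈ Wsp q n t,
        (∀ i, polar q (w i) w' = 0 ∧ polar q (n • w i) w' = 0) ∧ polar q w' (n • w') = 1 := by
      by_contra h
      simp only [not_exists, not_and] at h
      have hz : ∀ x ∈ f.ker, polar q (x : V) (n • (x : V)) = 0 := fun x hx =>
        (z2_cases _).resolve_right fun e => h _ x.2 ((hker x).1 hx) e
      have hiso : ∀ x ∈ f.ker, ∀ y ∈ f.ker, polar q (x : V) (y : V) = 0 := by
        intro x hx y hy
        have h1 := hz _ (add_mem hx hy)
        rw [AddSubgroup.coe_add, smul_add, QuadraticMap.polar_add_left, QuadraticMap.polar_add_right,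
          QuadraticMap.polar_add_right, hz x hx, hz y hy, c.polar_n_symm hs x.1 y.1] at h1
        revert h1
        generalize polar q (x : V) (n • (y : V)) = a
        generalize polar q (x : V) (y : V) = b
        revert a b; decide
      have hsub : ∀ x ∈ f.ker, ((x : V) = 0 ∨ (x : V) = t ∨ (x : V) = n • t ∨ (x : V) = t + n • t) := by
        intro x hx
        refine hWperp _ fun y hy => ?_
        set p := y + ∑ i, (polar q (n • w i) y • w i + polar q (w i) y • (n • w i)) with hp
        have hx' := (hker x).1 hx
        have h0 : ∀ i, polar q (x : V) (w i) = 0 ∧ polar q (x : V) (n • w i) = 0 := fun i =>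
          ⟨by rw [QuadraticMap.polar_comm]; exact (hx' i).1, by rw [QuadraticMap.polar_comm]; exact (hx' i).2⟩
        have hsum : ∀ z : V, polar q z (∑ i, (polar q (n • w i) y • w i + polar q (w i) y • (n • w i))) =
            ∑ i, (polar q (n • w i) y * polar q z (w i) + polar q (w i) y * polar q z (n • w i)) := fun z => by
          rw [← QuadraticMap.polarBilin_apply_apply, map_sum]
          refine Finset.sum_congr rfl fun i _ => ?_
          simp only [QuadraticMap.polarBilin_apply_apply, QuadraticMap.polar_add_right,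
            QuadraticMap.polar_smul_right, smul_eq_mul]
        have hpW : p ∈ Wsp q n t := by
          refine add_mem hy (sum_mem fun i _ => ⟨?_, ?_⟩) <;>
            rw [QuadraticMap.polar_add_left, QuadraticMap.polar_smul_left, QuadraticMap.polar_smul_left]
          · rw [c.polar_n_left hs (w i) t, hw.left, hw.right]; simp
          · have : polar q (w i) (n • n • t) = 0 := by
              rw [c.n_quad hs, QuadraticMap.polar_add_right, hw.left, hw.right, add_zero]
            rw [c.polar_n_left hs (w i) (n • t), hw.right, this]; simp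
        have hpf : (⟨p, hpW⟩ : ↥(Wsp q n t)) ∈ f.ker := by
          refine (hker _).2 fun j => ⟨?_, ?_⟩
          · show polar q (w j) (y + _) = 0
            rw [QuadraticMap.polar_add_right, hsum]
            simp only [hw.same, hw.cross, mul_zero, zero_add, mul_ite, mul_one, Finset.sum_ite_eq, Finset.mem_univ,
              if_true]
            exact CharTwo.add_self_eq_zero _
          · show polar q (n • w j) (y + _) = 0
            rw [QuadraticMap.polar_add_right, hsum]
            simp only [c.polar_smul, c.polar_n_left hs, hw.same, hw.cross, mul_zero, zero_add, add_zero, mul_ite,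
              mul_one, Finset.sum_ite_eq, Finset.mem_univ, if_true]
            exact CharTwo.add_self_eq_zero _
        have h1 := hiso x hx _ hpf
        change polar q (x : V) (y + _) = 0 at h1
        rw [QuadraticMap.polar_add_right, hsum] at h1
        simpa [(h0 _).1, (h0 _).2] using h1
      have hle : Nat.card ↥f.ker ≤ 4 := by
        refine (Nat.card_le_card_of_injective
          (fun x : ↥f.ker => (⟨((x : ↥(Wsp q n t)) : V), hsub x.1 x.2⟩ :
            {u : V // u = 0 ∨ u = t ∨ u = n • t ∨ u = t + n • t}))
          (fun a b e => Subtype.ext (Subtype.ext (Subtype.mk.inj e)))).trans ?_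
        show Nat.card ↥({0, t, n • t, t + n • t} : Set V) ≤ 4
        rw [Nat.card_coe_set_eq]
        refine (Set.ncard_insert_le _ _).trans (Nat.succ_le_succ ((Set.ncard_insert_le _ _).trans
          (Nat.succ_le_succ ((Set.ncard_insert_le _ _).trans ?_))))
        rw [Set.ncard_singleton]
      omega
    refine ⟨Fin.cons w' w, fun i => ?_, fun i => ?_, fun i j => ?_, fun i j => ?_⟩
    · refine Fin.cases ?_ (fun i => ?_) i <;> simp only [Fin.cons_zero, Fin.cons_succ]
      exacts [hw'W.1, hw.left i]
    · refine Fin.cases ?_ (fun i => ?_) i <;> simp only [Fin.cons_zero, Fin.cons_succ]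
      exacts [hw'W.2, hw.right i]
    · refine Fin.cases ?_ (fun i => ?_) i <;> refine Fin.cases ?_ (fun j => ?_) j <;>
        simp only [Fin.cons_zero, Fin.cons_succ]
      · exact polar_self_zero q w'
      · rw [QuadraticMap.polar_comm]; exact (hw'f j).1
      · exact (hw'f i).1
      · exact hw.same i j
    · refine Fin.cases ?_ (fun i => ?_) i <;> refine Fin.cases ?_ (fun j => ?_) j <;>
        simp only [Fin.cons_zero, Fin.cons_succ]
      · simp [hw'1]
      · rw [if_neg (Fin.succ_ne_zero j).symm, QuadraticMap.polar_comm]; exact (hw'f j).2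
      · rw [if_neg (Fin.succ_ne_zero i), c.polar_n_symm hs w' (w i), QuadraticMap.polar_comm _ w' (w i),
          (hw'f i).1, QuadraticMap.polar_comm _ w' (n • w i), (hw'f i).2, add_zero]
      · rw [hw.cross]; simp [Fin.succ_inj]

/-- Hermitian coordinates on the orthogonal space of `t` and its image. -/
theorem exists_coord : ∃ (w : F4) (cr : ↥(Wsp q n t) →+ (Fin 4 → F4)), w * w = w + 1 ∧ Function.Surjective cr ∧
    (∀ x, cr x = 0 ↔ (x : V) = 0 ∨ (x : V) = t ∨ (x : V) = n • t ∨ (x : V) = t + n • t) ∧
    (∀ x y : ↥(Wsp q n t), (y : V) = n • (x : V) → cr y = w • cr x) ∧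
    ∀ x y : ↥(Wsp q n t), Cfsg.hermForm 4 F4 2 (cr x) (cr y) =
      em (polar q (x : V) (n • (y : V))) + em (polar q (x : V) (y : V)) * w := by
  classical
  obtain ⟨hW, hWperp⟩ := c.line_perp hs ht ht0
  obtain ⟨w0, hw0⟩ := exists_omega
  obtain ⟨w, hw⟩ := c.exists_fam hs ht ht0 4 le_rfl
  let cr : ↥(Wsp q n t) →+ (Fin 4 → F4) :=
    AddMonoidHom.mk' (fun x i => em (polar q (n • w i) (x : V)) + em (polar q (w i) (x : V)) * w0) fun x y => by
      funext i
      simp only [AddSubgroup.coe_add, QuadraticMap.polar_add_right, map_add, Pi.add_apply]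
      ring
  have hcr : ∀ x i, cr x i = em (polar q (n • w i) (x : V)) + em (polar q (w i) (x : V)) * w0 := fun x i => rfl
  have hmemW : ∀ a : Fin 4 → ZMod 2 × ZMod 2, (∑ i, ((a i).1 • w i + (a i).2 • (n • w i))) ∈ Wsp q n t := by
    intro a
    refine sum_mem fun i _ => ⟨?_, ?_⟩ <;>
      rw [QuadraticMap.polar_add_left, QuadraticMap.polar_smul_left, QuadraticMap.polar_smul_left, c.polar_n_left hs]
    · rw [hw.left, hw.right]; simp
    · have : polar q (w i) (n • n • t) = 0 := by
        rw [c.n_quad hs, QuadraticMap.polar_add_right, hw.left, hw.right, add_zero]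
      rw [hw.right, this]; simp
  have hsum : ∀ (z : V) (a : Fin 4 → ZMod 2 × ZMod 2), polar q z (∑ i, ((a i).1 • w i + (a i).2 • (n • w i))) =
      ∑ i, ((a i).1 * polar q z (w i) + (a i).2 * polar q z (n • w i)) := fun z a => by
    rw [← QuadraticMap.polarBilin_apply_apply, map_sum]
    refine Finset.sum_congr rfl fun i _ => ?_
    simp only [QuadraticMap.polarBilin_apply_apply, QuadraticMap.polar_add_right, QuadraticMap.polar_smul_right,
      smul_eq_mul]
  have hco : ∀ (a : Fin 4 → ZMod 2 × ZMod 2) j,
      polar q (n • w j) (∑ i, ((a i).1 • w i + (a i).2 • (n • w i))) = (a j).1 ∧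
      polar q (w j) (∑ i, ((a i).1 • w i + (a i).2 • (n • w i))) = (a j).2 := by
    intro a j
    constructor <;> rw [hsum] <;>
      simp [c.polar_smul, c.polar_n_left hs, hw.same, hw.cross]
  have hsurj : Function.Surjective cr := by
    intro v
    choose a b hab using fun i => surj_F4 hw0 (v i)
    refine ⟨⟨_, hmemW fun i => (a i, b i)⟩, funext fun j => ?_⟩
    rw [hcr]
    show em (polar q (n • w j) _) + em (polar q (w j) _) * w0 = _
    rw [(hco _ j).1, (hco _ j).2, hab]
  have htW : t ∈ Wsp q n t := ⟨polar_self_zero q t, c.polar_t_nt hs ht⟩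
  have hntW : n • t ∈ Wsp q n t := ⟨by rw [QuadraticMap.polar_comm]; exact c.polar_t_nt hs ht, polar_self_zero q _⟩
  have hT0 : ∀ x : ↥(Wsp q n t), (x : V) = 0 ∨ (x : V) = t ∨ (x : V) = n • t ∨ (x : V) = t + n • t → cr x = 0 := by
    have hz : ∀ i, polar q (w i) t = 0 ∧ polar q (n • w i) t = 0 ∧ polar q (w i) (n • t) = 0 ∧
        polar q (n • w i) (n • t) = 0 := fun i =>
      ⟨hw.left i, by rw [c.polar_n_left hs, hw.left, hw.right, add_zero], hw.right i,
        by rw [c.polar_smul, hw.left]⟩
    intro x hx
    funext i
    obtain ⟨h1, h2, h3, h4⟩ := hz i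
    rw [hcr, Pi.zero_apply]
    rcases hx with e | e | e | e <;> rw [e] <;>
      simp [QuadraticMap.polar_zero_right, QuadraticMap.polar_add_right, h1, h2, h3, h4]
  have hker : ∀ x, cr x = 0 ↔ (x : V) = 0 ∨ (x : V) = t ∨ (x : V) = n • t ∨ (x : V) = t + n • t := by
    have h := cr.ker.card_mul_index
    rw [AddSubgroup.index_ker, AddMonoidHom.range_eq_top.2 hsurj, AddSubgroup.card_top, Nat.card_fun,
      Nat.card_eq_fintype_card (α := F4), card_F4, Nat.card_fin] at h
    let S : Set ↥(Wsp q n t) :=
      {⟨0, zero_mem _⟩, ⟨t, htW⟩, ⟨n • t, hntW⟩, ⟨t + n • t, add_mem htW hntW⟩}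
    have hS : S ⊆ (cr.ker : Set ↥(Wsp q n t)) := by
      rintro x (rfl | rfl | rfl | rfl)
      · exact AddMonoidHom.mem_ker.2 (hT0 _ (.inl rfl))
      · exact AddMonoidHom.mem_ker.2 (hT0 _ (.inr (.inl rfl)))
      · exact AddMonoidHom.mem_ker.2 (hT0 _ (.inr (.inr (.inl rfl))))
      · exact AddMonoidHom.mem_ker.2 (hT0 _ (.inr (.inr (.inr rfl))))
    have hnt : n • t ≠ t := c.smul_n_ne hs ht0
    have hnt0 : n • t ≠ 0 := fun e => ht0 (by rw [← inv_smul_smul n t, e, smul_zero])
    have hS4 : S.ncard = 4 := by
      rw [Set.ncard_insert_of_notMem (by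
          simp only [Set.mem_insert_iff, Set.mem_singleton_iff, not_or, Subtype.mk.injEq]
          exact ⟨Ne.symm ht0, Ne.symm hnt0, fun e => hnt (eq_of_vadd e.symm).symm⟩),
        Set.ncard_insert_of_notMem (by
          simp only [Set.mem_insert_iff, Set.mem_singleton_iff, not_or, Subtype.mk.injEq]
          exact ⟨Ne.symm hnt, fun e => hnt0 (add_left_cancel (e.symm.trans (add_zero t).symm))⟩),
        Set.ncard_pair (fun e => ht0 (add_right_cancel ((zero_add (n • t)).trans (congrArg Subtype.val e))).symm)]
    have hk4 : (cr.ker : Set ↥(Wsp q n t)).ncard = 4 := by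
      rw [← Nat.card_coe_set_eq]
      show Nat.card ↥cr.ker = 4
      norm_num at h
      have : Nat.card {x // cr x = 0} = Nat.card ↥cr.ker := rfl
      omega
    have heq := Set.eq_of_subset_of_ncard_le hS (by rw [hk4, hS4]) (Set.toFinite _)
    intro x
    refine ⟨fun hx => ?_, hT0 x⟩
    have hxS : x ∈ S := heq ▸ AddMonoidHom.mem_ker.2 hx
    rcases hxS with rfl | rfl | rfl | rfl
    exacts [.inl rfl, .inr (.inl rfl), .inr (.inr (.inl rfl)), .inr (.inr (.inr rfl))]
  refine ⟨w0, cr, hw0, hsurj, hker, fun x y hy => funext fun i => ?_, fun x y => ?_⟩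
  · rw [Pi.smul_apply, smul_eq_mul, hcr, hcr, hy, c.polar_smul]
    rw [c.polar_n_left hs (w i) (x : V)]
    have h2 : polar q (w i) (n • (x : V)) = polar q (w i) (x : V) + polar q (n • w i) (x : V) := by
      rw [c.polar_n_left hs]
      generalize polar q (w i) (x : V) = a
      generalize polar q (w i) (n • (x : V)) = b
      revert a b; decide
    simp only [h2, map_add]
    have h0 : (2 : F4) = 0 := CharTwo.two_eq_zero
    linear_combination -(em (polar q (w i) (x : V))) * hw0 - (em (polar q (w i) (x : V)) * w0) * h0
  · have hexp : ∀ y : ↥(Wsp q n t), polar q (x : V) (y : V) = ∑ i,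
        (polar q (n • w i) (y : V) * polar q (w i) (x : V) + polar q (w i) (y : V) * polar q (n • w i) (x : V)) := by
      intro y
      set S := ∑ i, (polar q (n • w i) (y : V) • w i + polar q (w i) (y : V) • (n • w i)) with hS
      have hdiff : cr (y + ⟨S, hmemW fun i => (polar q (n • w i) (y : V), polar q (w i) (y : V))⟩) = 0 := by
        rw [map_add]
        funext j
        rw [Pi.add_apply, hcr, hcr, Pi.zero_apply,
          (hco (fun i => (polar q (n • w i) (y : V), polar q (w i) (y : V))) j).1,
          (hco (fun i => (polar q (n • w i) (y : V), polar q (w i) (y : V))) j).2]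
        exact CharTwo.add_self_eq_zero _
      have h0 : polar q (x : V) ((y : V) + S) = 0 := by
        have hm := (hker _).1 hdiff
        rw [AddSubgroup.coe_add] at hm
        rcases hm with e | e | e | e <;> rw [e]
        · exact QuadraticMap.polar_zero_right q _
        · exact x.2.1
        · exact x.2.2
        · rw [QuadraticMap.polar_add_right, x.2.1, x.2.2, add_zero]
      rw [QuadraticMap.polar_add_right] at h0
      rw [eq_of_vadd h0, hS, hsum _ fun i => (polar q (n • w i) (y : V), polar q (w i) (y : V))]
      exact Finset.sum_congr rfl fun i _ => by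
        rw [QuadraticMap.polar_comm q (x : V) (w i), QuadraticMap.polar_comm q (x : V) (n • w i)]
    have hnyW : n • (y : V) ∈ Wsp q n t :=
      ⟨by rw [c.polar_n_left hs, y.2.1, y.2.2, add_zero], by rw [c.polar_smul]; exact y.2.1⟩
    rw [hexp y, hexp ⟨_, hnyW⟩]
    simp only [Cfsg.hermForm, hcr, mul_conj_coord hw0, Finset.sum_add_distrib, ← Finset.sum_mul, ← map_sum]
    refine congrArg₂ (fun A B => em A + B) ?_ rfl
    simp only [c.polar_smul, c.polar_n_left hs (w _) (y : V), ← Finset.sum_add_distrib]
    refine Finset.sum_congr rfl fun i _ => ?_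
    generalize polar q (w i) (y : V) = b'
    generalize polar q (w i) (n • (y : V)) = e'
    generalize polar q (w i) (x : V) = b
    generalize polar q (n • w i) (x : V) = a
    revert b' e' b a; decide

end Core

end CfsgLib.LargeFischer
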