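import Cfsg.Agent.Lib.LargeFischer.U43Check

/-!
# Normalisers of the elementary groups of order sixteen, centralisers of involutions
-/

set_option autoImplicit false
set_option maxRecDepth 100000

namespace CfsgLib.LargeFischer.U43

open CfsgLib.LeechPSU CfsgLib.Schur.Tails.UFour CfsgLib.TailsData
open scoped Pointwise

/-- The set of points of a number. -/
def setP (m : ℕ) : Set (Fin 126) := {a | m.testBit a.val = true}

theorem smul_set (g : ↥H4) (s : Set (Fin 126)) : g • s = (g : Equiv.Perm (Fin 126)) '' s := rfl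

theorem maps_spec {p m m' : ℕ} (h : mapsB p m m' = true) (hp : p < els.length) : E_ p • setP m = setP m' := by
  simp only [mapsB, rng, List.all_eq_true, List.mem_range, beq_iff_eq] at h
  rw [smul_set]
  ext y
  obtain ⟨a, rfl⟩ := (E_ p : Equiv.Perm (Fin 126)).surjective y
  rw [(E_ p : Equiv.Perm (Fin 126)).injective.mem_set_image]
  show _ ↔ m'.testBit _ = true
  rw [code_E hp, h a.val a.isLt]
  rfl

theorem setP_inj {m m' : ℕ} (h : m < 2 ^ 126) (h' : m' < 2 ^ 126) (e : setP m = setP m') : m = m' :=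
  Nat.eq_of_testBit_eq fun j => by
    by_cases hj : j < 126
    · exact Bool.eq_iff_iff.2 (Set.ext_iff.1 e ⟨j, hj⟩)
    · rw [Nat.testBit_lt_two_pow (lt_of_lt_of_le h (Nat.pow_le_pow_right (by norm_num) (by omega))),
        Nat.testBit_lt_two_pow (lt_of_lt_of_le h' (Nat.pow_le_pow_right (by norm_num) (by omega)))]

/-- The bound on a stabiliser from a tree. -/
theorem stab_le {n : ℕ} {sets srt : List (List ℕ)} {par : List (List (ℕ × ℕ))} (h : ∀ i < n, orbStep n sets par srt i = true) :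
    Nat.card (MulAction.stabilizer ↥H4 (setP (get2 sets 0 0))) * n ≤ 3265920 := by
  simp only [orbStep, Bool.and_eq_true, Bool.or_eq_true, Nat.beq_eq, Nat.blt_eq, Nat.ble_eq] at h
  have hall := fun i hi => (h i hi).1
  have hsort : ∀ i < n - 1, get2 sets 0 (get2 srt 0 i) < get2 sets 0 (get2 srt 0 (i + 1)) := fun i hi => by
    rcases (h i (by omega)).2 with e | e
    · omega
    · exact e
  have hlen : 2 ≤ els.length := by
    have hr := range_ok
    simp only [rangeB, Bool.and_eq_true, Nat.ble_eq] at hr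
    obtain ⟨⟨⟨⟨⟨⟨⟨⟨⟨⟨⟨⟨⟨⟨⟨h0, -⟩, -⟩, -⟩, -⟩, -⟩, -⟩, -⟩, -⟩, -⟩, -⟩, -⟩, -⟩, -⟩, -⟩, -⟩ := hr
    exact h0
  have horb : ∀ i < n, setP (get2 sets 0 i) ∈ MulAction.orbit ↥H4 (setP (get2 sets 0 0)) := by
    intro i
    induction i using Nat.strong_induction_on with
    | _ i ih =>
      intro hi
      rcases (hall i hi).2 with e | ⟨⟨hp, hk⟩, hm⟩
      · subst e; exact MulAction.mem_orbit_self _
      · obtain ⟨g, hg⟩ := ih _ hp (by omega)
        refine ⟨E_ (get2 par (0, 0) (i - 1)).2 * g, ?_⟩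
        show (_ * g) • _ = _
        rw [mul_smul, show g • setP (get2 sets 0 0) = _ from hg]
        exact maps_spec (mapsF_spec hm) (lt_of_lt_of_le hk hlen)
  have hstep : ∀ i j, i < j → j < n → get2 sets 0 (get2 srt 0 i) < get2 sets 0 (get2 srt 0 j) := by
    intro i j hij hjn
    induction j with
    | zero => omega
    | succ j ih =>
      have h1 := hsort j (by omega)
      rcases Nat.lt_succ_iff_lt_or_eq.1 hij with hl | rfl
      · exact (ih hl (by omega)).trans h1
      · exact h1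
  have hn : n ≤ Nat.card (MulAction.orbit ↥H4 (setP (get2 sets 0 0))) := by
    let f : Fin n → MulAction.orbit ↥H4 (setP (get2 sets 0 0)) := fun i =>
      ⟨setP (get2 sets 0 (get2 srt 0 i.val)), horb _ (hall i.val i.isLt).1.2⟩
    have hf : Function.Injective f := by
      intro i j e
      have e' := setP_inj (hall _ (hall i.val i.isLt).1.2).1.1 (hall _ (hall j.val j.isLt).1.2).1.1
        (congrArg Subtype.val e)
      rcases lt_trichotomy i.val j.val with l | l | l
      · exact absurd e' (Nat.ne_of_lt (hstep _ _ l j.isLt))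
      · exact Fin.ext l
      · exact absurd e'.symm (Nat.ne_of_lt (hstep _ _ l i.isLt))
    simpa using Nat.card_le_card_of_injective f hf
  have h1 := (MulAction.stabilizer ↥H4 (setP (get2 sets 0 0))).index_mul_card
  rw [MulAction.index_stabilizer, ← Nat.card_coe_set_eq, card_H4] at h1
  rw [← h1, Nat.mul_comm]
  exact Nat.mul_le_mul_right _ hn

/-- The three-cycles on six letters through the first two. -/
def tri (k : Fin 4) : Equiv.Perm (Fin 6) := Equiv.swap 0 1 * Equiv.swap 1 ⟨k.val + 2, by omega⟩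

/-- The data of a class: the normaliser acts on six sets as the alternating group. -/
theorem normalizer_of_class {m : ℕ} {fx : Bool} {objs : List ℕ} {lifts : List (ℕ × List ℕ)} {sets srt : List (List ℕ)}
    {par : List (List (ℕ × ℕ))} (hcls : clsB m fx objs lifts (get2 sets 0 0) = true)
    (horb : ∀ i < 567, orbStep 567 sets par srt i = true) (hl : ∀ l ∈ lifts, l.1 < els.length) {E : Subgroup ↥H4}
    (hE : IsMask m E) (hcard : Nat.card E = 16) :
    Nat.card (Subgroup.normalizer (E : Set ↥H4)) = 5760 ∧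
      ∃ f : ↥(Subgroup.normalizer (E : Set ↥H4)) →* ↥(alternatingGroup (Fin 6)),
        Function.Surjective f ∧ f.ker = E.subgroupOf (Subgroup.normalizer (E : Set ↥H4)) := by
  classical
  simp only [clsB, Bool.and_eq_true, List.all_eq_true, List.mem_range, List.any_eq_true, Nat.beq_eq, rng,
    decide_eq_true_eq] at hcls
  obtain ⟨⟨⟨⟨⟨hlo, hll⟩, hroot⟩, hdiff⟩, hfix⟩, hlift⟩ := hcls
  obtain ⟨-, -, -, hIe, -⟩ := ranges
  have hmem : ∀ e ∈ members m, e < 35 ∧ iP e ∈ E := fun e he => by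
    simp only [members, List.mem_filter, List.mem_range] at he
    exact ⟨he.1, (hE _).2 (.inr ⟨e, he.1, he.2, rfl⟩)⟩
  have hEcase : ∀ σ ∈ E, σ = 1 ∨ ∃ e ∈ members m, iP e = σ := fun σ h => by
    rcases (hE σ).1 h with e | ⟨a, ha, hb, e⟩
    · exact .inl e
    · exact .inr ⟨a, by simp [members, ha, hb], e⟩
  set U := setP (get2 sets 0 0) with hU
  -- the normaliser fixes the union
  have hUE : ∀ a : Fin 126, a ∈ U ↔ ∀ σ ∈ E, σ ≠ 1 → ((σ : Equiv.Perm (Fin 126)) a = a ↔ fx = true) := by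
    intro a
    have h1 := (hroot a.val a.isLt).2
    rw [beq_iff_eq] at h1
    show (get2 sets 0 0).testBit a.val = true ↔ _
    rw [h1]
    simp only [List.all_eq_true, beq_iff_eq]
    have hb : ∀ e ∈ members m, (Nat.beq (fieldAt (el (iI e)) a.val) a.val = fx ↔
        ((iP e : Equiv.Perm (Fin 126)) a = a ↔ fx = true)) := fun e he => by
      rw [Bool.eq_iff_iff, Nat.beq_eq, ← code_E (hIe e (hmem e he).1), ← Fin.ext_iff]
      rfl
    constructor
    · intro h σ hσ h1
      rcases hEcase σ hσ with e | ⟨e, he, rfl⟩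
      · exact absurd e h1
      · exact (hb e he).1 (h e he)
    · intro h e he
      exact (hb e he).2 (h _ (hmem e he).2 (iP_facts (hmem e he).1).2.1)
  have hNle : Subgroup.normalizer (E : Set ↥H4) ≤ MulAction.stabilizer ↥H4 U := by
    intro g hg
    have key : ∀ k : ↥H4, k ∈ Subgroup.normalizer (E : Set ↥H4) → ∀ a ∈ U, (k : Equiv.Perm (Fin 126)) a ∈ U := by
      intro k hk a ha
      rw [hUE] at ha ⊢
      intro σ hσ h1
      have hσ' : k⁻¹ * σ * k ∈ E := by
        have := (Subgroup.mem_normalizer_iff.1 (inv_mem hk) σ).1 hσ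
        rwa [inv_inv] at this
      have h1' : k⁻¹ * σ * k ≠ 1 := fun e => h1 (by
        rwa [show k⁻¹ * σ * k = k⁻¹ * σ * k⁻¹⁻¹ by rw [inv_inv], conj_eq_one_iff] at e)
      have := ha _ hσ' h1'
      simp only [Subgroup.coe_mul, Subgroup.coe_inv, Equiv.Perm.mul_apply, Equiv.Perm.inv_def,
        Equiv.symm_apply_eq] at this
      exact this
    rw [MulAction.mem_stabilizer_iff, smul_set]
    refine Set.Subset.antisymm (Set.image_subset_iff.2 fun a ha => key g hg a ha) fun a ha => ?_
    refine ⟨((g⁻¹ : ↥H4) : Equiv.Perm (Fin 126)) a, key _ (inv_mem hg) a ha, ?_⟩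
    rw [Subgroup.coe_inv, Equiv.Perm.inv_def, Equiv.apply_symm_apply]
  -- the six sets
  let O : Fin 6 → Set (Fin 126) := fun i => setP (objs.getD i.val 0)
  have hOinj : Function.Injective O := by
    intro i j e
    have hne : ∀ x y : Fin 6, y.val < x.val → O x ≠ O y := fun x y hyx e' => by
      obtain ⟨a, ha, hd⟩ := hdiff x.val x.isLt y.val hyx
      rw [bne_iff_ne] at hd
      exact hd (Bool.eq_iff_iff.2 (Set.ext_iff.1 e' ⟨a, ha⟩))
    rcases lt_trichotomy i j with l | l | l
    · exact absurd e.symm (hne j i l)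
    · exact l
    · exact absurd e (hne i j l)
  set Os : Set (Set (Fin 126)) := Set.range O with hOs
  have hUun : U = ⋃₀ Os := by
    ext a
    have h1 := (hroot a.val a.isLt).1
    rw [beq_iff_eq] at h1
    show (get2 sets 0 0).testBit a.val = true ↔ _
    rw [h1]
    simp only [List.any_eq_true, Set.mem_sUnion, hOs, Set.mem_range, exists_exists_eq_and]
    constructor
    · rintro ⟨o, ho, hb⟩
      obtain ⟨i, hi, rfl⟩ := List.getElem_of_mem ho
      exact ⟨⟨i, hlo ▸ hi⟩, show (objs.getD i 0).testBit a.val = true by rw [List.getD_eq_getElem _ _ hi]; exact hb⟩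
    · rintro ⟨i, hi⟩
      refine ⟨objs.getD i.val 0, ?_, hi⟩
      rw [List.getD_eq_getElem _ _ (hlo.symm ▸ i.isLt)]
      exact List.getElem_mem _
  set S : Subgroup ↥H4 := MulAction.stabilizer ↥H4 Os with hS
  have hSU : S ≤ MulAction.stabilizer ↥H4 U := by
    intro g hg
    rw [MulAction.mem_stabilizer_iff] at hg ⊢
    rw [hUun, smul_set, Set.sUnion_eq_biUnion, Set.image_iUnion₂]
    ext a
    simp only [Set.mem_iUnion, exists_prop]
    constructor
    · rintro ⟨X, hX, ha⟩
      refine ⟨g • X, ?_, ha⟩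
      rw [← hg]; exact Set.smul_mem_smul_set hX
    · rintro ⟨X, hX, ha⟩
      rw [← hg] at hX
      obtain ⟨Y, hY, rfl⟩ := hX
      exact ⟨Y, hY, ha⟩
  have hperm : ∀ g : ↥S, ∀ i, ∃ j, (g : ↥H4) • O i = O j := fun g i => by
    have : (g : ↥H4) • O i ∈ (g : ↥H4) • Os := Set.smul_mem_smul_set ⟨i, rfl⟩
    rw [MulAction.mem_stabilizer_iff.1 g.2] at this
    obtain ⟨j, hj⟩ := this
    exact ⟨j, hj.symm⟩
  choose idx hidx using hperm
  have hinj : ∀ g, Function.Injective (idx g) := fun g i j e => hOinj (by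
    have h1 := hidx g i
    rw [e, ← hidx g j] at h1
    exact MulAction.injective _ h1)
  let ψ : ↥S →* Equiv.Perm (Fin 6) := MonoidHom.mk'
    (fun g => Equiv.ofBijective (idx g) (Finite.injective_iff_bijective.1 (hinj g))) fun g h => by
      refine Equiv.ext fun i => hOinj ?_
      show O (idx (g * h) i) = O (idx g (idx h i))
      rw [← hidx, ← hidx, ← hidx, Subgroup.coe_mul, mul_smul]
  have hψ : ∀ (g : ↥S) i, (g : ↥H4) • O i = O (ψ g i) := hidx
  have memS : ∀ {g : ↥H4} (π : Equiv.Perm (Fin 6)), (∀ i, g • O i = O (π i)) →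
      ∃ hg : g ∈ S, ψ ⟨g, hg⟩ = π := by
    intro g π hπ
    have hg : g ∈ S := by
      rw [hS, MulAction.mem_stabilizer_iff]
      ext X
      constructor
      · rintro ⟨Y, ⟨i, rfl⟩, rfl⟩
        exact ⟨π i, (hπ i).symm⟩
      · rintro ⟨j, rfl⟩
        exact ⟨O (π.symm j), ⟨_, rfl⟩, by show g • O (π.symm j) = O j; rw [hπ, Equiv.apply_symm_apply]⟩
    exact ⟨hg, Equiv.ext fun i => hOinj ((hψ ⟨g, hg⟩ i).symm.trans (hπ i))⟩
  -- the kernel contains the group
  have hEker : ∀ σ ∈ E, ∃ hg : σ ∈ S, ψ ⟨σ, hg⟩ = 1 := by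
    intro σ hσ
    refine memS (g := σ) 1 fun i => ?_
    rcases hEcase σ hσ with rfl | ⟨e, he, rfl⟩
    · rw [one_smul]; rfl
    · exact maps_spec (hfix e he i.val i.isLt) (hIe e (hmem e he).1)
  have hEker' : E.subgroupOf S ≤ ψ.ker := fun x hx => by
    obtain ⟨hg, e⟩ := hEker _ hx
    exact e
  -- the image contains the three-cycles
  have hc3 : ∀ (k : Fin 4) (i : Fin 6), (tri k i).val = (cyc (k.val + 2)).getD i.val 0 := by decide +kernel
  have himg : ∀ k : Fin 4, tri k ∈ ψ.range := by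
    intro k
    obtain ⟨hπ, hmaps⟩ := hlift k.val k.isLt
    have hle : (lifts.getD k.val (0, [])).1 < els.length := hl _ (by
      rw [List.getD_eq_getElem _ _ (hll.symm ▸ k.isLt)]; exact List.getElem_mem _)
    obtain ⟨hg, e⟩ := memS (g := E_ (lifts.getD k.val (0, [])).1) (tri k) fun i => by
      have := maps_spec (hmaps i.val i.isLt) hle
      rwa [← hc3 k i] at this
    exact ⟨_, e⟩
  -- three-cycles on six letters give three hundred and sixty
  let codes : List ℕ := (List.range 4).map fun k =>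
    ((cyc (k + 2)).zipIdx.map fun p => p.1 * 2 ^ (10 * p.2)).sum
  have hcode : ∀ k : Fin 4, IsCode (codes.getD k.val 0) (tri k) := by
    unfold IsCode
    decide +kernel
  have hA : alternatingGroup (Fin 6) ≤ ψ.range ∧ permGroup 6 codes ≤ alternatingGroup (Fin 6) ∧
      360 ≤ Nat.card (permGroup 6 codes) ∧ permGroup 6 codes ≤ ψ.range := by
    have hgen : ∀ σ : Equiv.Perm (Fin 6), (∃ P ∈ codes, IsCode P σ) → ∃ k, tri k = σ := by
      rintro σ ⟨P, hP, hσ⟩
      obtain ⟨k, hk, rfl⟩ := List.getElem_of_mem hP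
      have hk4 : k < 4 := by simpa [codes] using hk
      have e := hcode ⟨k, hk4⟩
      rw [List.getD_eq_getElem _ _ hk] at e
      exact ⟨_, isCode_unique e hσ⟩
    have h1 : permGroup 6 codes ≤ ψ.range := (Subgroup.closure_le _).2 fun σ hσ => by
      obtain ⟨k, rfl⟩ := hgen σ hσ; exact himg k
    have h2 : permGroup 6 codes ≤ alternatingGroup (Fin 6) := (Subgroup.closure_le _).2 fun σ hσ => by
      obtain ⟨k, rfl⟩ := hgen σ hσ
      exact Equiv.Perm.mem_alternatingGroup.2
        ((show ∀ k : Fin 4, Equiv.Perm.sign (tri k) = 1 by decide +kernel) k)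
    have h3 : 360 ≤ Nat.card (permGroup 6 codes) := by
      refine le_card_permGroup (m := 6)
        ⟨[], [⟨5, [0, 1, 2, 3], [(5, 3), (0, 0), (1, 1), (1, 2), (1, 0)]⟩,
          ⟨4, [0, 1, 2], [(4, 2), (0, 0), (1, 1), (1, 0)]⟩, ⟨3, [0, 1], [(3, 1), (0, 0), (1, 0)]⟩,
          ⟨2, [0], [(2, 0), (0, 0)]⟩]⟩ (by decide +kernel) fun P hP => ?_
      obtain ⟨k, hk, rfl⟩ := List.getElem_of_mem hP
      have hk4 : k < 4 := by simpa [codes] using hk
      have e := hcode ⟨k, hk4⟩
      rw [List.getD_eq_getElem _ _ hk] at e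
      exact ⟨_, e⟩
    have h4 : permGroup 6 codes = alternatingGroup (Fin 6) := by
      refine Subgroup.eq_of_le_of_card_ge h2 ?_
      rw [Nat.card_eq_fintype_card (α := ↥(alternatingGroup (Fin 6))),
        show Fintype.card ↥(alternatingGroup (Fin 6)) = 360 by decide +kernel]
      exact h3
    exact ⟨h4.symm.le.trans h1, h2, h3, h1⟩
  have hbound : Nat.card (MulAction.stabilizer ↥H4 U) * 567 ≤ 3265920 := stab_le horb
  have hSle : Nat.card ↥S ≤ 5760 := by
    have := Subgroup.card_le_of_le hSU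
    omega
  have hEle : E ≤ S := fun σ hσ => (hEker σ hσ).1
  have hEcard : Nat.card ↥(E.subgroupOf S) = 16 := by
    rw [Nat.card_congr (Subgroup.subgroupOfEquivOfLe hEle).toEquiv, hcard]
  have hA6 : Nat.card ↥(alternatingGroup (Fin 6)) = 360 := by
    rw [Nat.card_eq_fintype_card]; decide +kernel
  have hprod : Nat.card ψ.range * Nat.card ψ.ker = Nat.card ↥S := by
    rw [← Subgroup.index_ker ψ, Subgroup.index_mul_card]
  have hr : 360 ≤ Nat.card ψ.range := hA6 ▸ Subgroup.card_le_of_le hA.1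
  have hk : 16 ≤ Nat.card ψ.ker := hEcard ▸ Subgroup.card_le_of_le hEker'
  have hmul : 360 * 16 ≤ Nat.card ↥S := hprod ▸ Nat.mul_le_mul hr hk
  have hr' : Nat.card ψ.range = 360 := by nlinarith
  have hk' : Nat.card ψ.ker = 16 := by nlinarith
  have hker : ψ.ker = E.subgroupOf S := (Subgroup.eq_of_le_of_card_ge hEker' (by rw [hk', hEcard])).symm
  have hrange : ψ.range = alternatingGroup (Fin 6) :=
    (Subgroup.eq_of_le_of_card_ge hA.1 (by rw [hr', hA6])).symm
  have hSN : S ≤ Subgroup.normalizer (E : Set ↥H4) := by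
    intro g hg
    have fwd : ∀ k, k ∈ S → ∀ σ ∈ E, k * σ * k⁻¹ ∈ E := fun k hk σ hσ => by
      have hn : (⟨k, hk⟩ * ⟨σ, hEle hσ⟩ * ⟨k, hk⟩⁻¹ : ↥S) ∈ ψ.ker :=
        (MonoidHom.normal_ker ψ).conj_mem _ (hEker' hσ) _
      rw [hker] at hn
      exact hn
    refine Subgroup.mem_normalizer_iff.2 fun σ => ⟨fwd g hg σ, fun h => ?_⟩
    have := fwd g⁻¹ (inv_mem hg) _ h
    rwa [show g⁻¹ * (g * σ * g⁻¹) * g⁻¹⁻¹ = σ by group] at this
  have hN : Subgroup.normalizer (E : Set ↥H4) = S := by
    refine (Subgroup.eq_of_le_of_card_ge hSN ?_).symm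
    have := Subgroup.card_le_of_le hNle
    omega
  rw [hN]
  refine ⟨by omega, ψ.codRestrict _ fun x => hrange.le ⟨x, rfl⟩, fun y => ?_, ?_⟩
  · obtain ⟨x, hx⟩ : (y : Equiv.Perm (Fin 6)) ∈ ψ.range := hrange.ge y.2
    exact ⟨x, Subtype.ext hx⟩
  · rw [MonoidHom.ker_codRestrict, hker]

/-- Elementary abelian two-subgroups have order at most sixteen, and those of that order have normalisers of
order 5760 inducing the alternating group of degree six. -/
theorem elementary_facts {E : Subgroup ↥H4} (he : Cfsg.IsElementaryAbelian 2 E) (h16 : 16 ≤ Nat.card E) :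
    Nat.card E = 16 ∧ Nat.card (Subgroup.normalizer (E : Set ↥H4)) = 5760 ∧
      ∃ f : ↥(Subgroup.normalizer (E : Set ↥H4)) →* ↥(alternatingGroup (Fin 6)),
        Function.Surjective f ∧ f.ker = E.subgroupOf (Subgroup.normalizer (E : Set ↥H4)) := by
  classical
  have hp : IsPGroup 2 ↥E := fun x => ⟨1, Subtype.ext (by simpa using he.2 x x.2)⟩
  obtain ⟨g, hg⟩ := exists_conj_le hp
  set c := (MulAut.conj g).toMonoidHom with hc
  have hcinj : Function.Injective c := (MulAut.conj g).injective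
  set E' := E.map c with hE'
  have hcardE : Nat.card ↥E' = Nat.card ↥E := Subgroup.card_map_of_injective hcinj
  have he' : Cfsg.IsElementaryAbelian 2 E' := by
    refine ⟨⟨⟨?_⟩⟩, ?_⟩
    · rintro ⟨_, x, hx, rfl⟩ ⟨_, y, hy, rfl⟩
      refine Subtype.ext ?_
      show c x * c y = c y * c x
      rw [← map_mul, ← map_mul, show x * y = y * x from congrArg Subtype.val (he.1.is_comm.comm (⟨x, hx⟩ : ↥E) ⟨y, hy⟩)]
    · rintro _ ⟨x, hx, rfl⟩
      rw [← map_pow, he.2 x hx, map_one]
  obtain ⟨m, hm, hM⟩ := elementary_sylow hg he' (hcardE ▸ h16)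
  have hle : Nat.card ↥E' ≤ 16 := by
    have hlen : (members m).length = 15 := by
      have := max_ok
      rcases hm with rfl | rfl
      · simp only [maxB, Bool.and_eq_true, Nat.beq_eq] at this; exact this.1.1
      · simp only [maxB, Bool.and_eq_true, Nat.beq_eq] at this; exact this.2.1
    have hsub : (E' : Set ↥H4) ⊆ ↑(insert (1 : ↥H4) ((members m).toFinset.image iP)) := fun σ h => by
      simp only [Finset.coe_insert, Finset.coe_image, Set.mem_insert_iff, Set.mem_image, Finset.mem_coe,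
        List.mem_toFinset]
      rcases (hM σ).1 h with e | ⟨a, ha, hb, e⟩
      · exact .inl e
      · exact .inr ⟨a, by simp [members, ha, hb], e⟩
    have h1 := Set.ncard_le_ncard hsub (Finset.finite_toSet _)
    rw [Set.ncard_coe_finset] at h1
    have h2 := (Finset.card_insert_le (1 : ↥H4) ((members m).toFinset.image iP)).trans
      (Nat.add_le_add_right (Finset.card_image_le.trans (List.toFinset_card_le _)) 1)
    have h3 : (E' : Set ↥H4).ncard = Nat.card ↥E' := (Nat.card_coe_set_eq _).symm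
    omega
  have hE16 : Nat.card ↥E' = 16 := by omega
  obtain ⟨-, -, -, -, -, -, -, -, -, hla, hlb⟩ := ranges
  obtain ⟨hN, f, hf, hk⟩ : Nat.card (Subgroup.normalizer (E' : Set ↥H4)) = 5760 ∧
      ∃ f : ↥(Subgroup.normalizer (E' : Set ↥H4)) →* ↥(alternatingGroup (Fin 6)),
        Function.Surjective f ∧ f.ker = E'.subgroupOf (Subgroup.normalizer (E' : Set ↥H4)) := by
    rcases hm with rfl | rfl
    · exact normalizer_of_class aCls_ok aOrb_ok hla hM hE16
    · exact normalizer_of_class bCls_ok bOrb_ok hlb hM hE16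
  have hmap : (Subgroup.normalizer (E : Set ↥H4)).map c = Subgroup.normalizer (E' : Set ↥H4) :=
    Subgroup.map_equiv_normalizer_eq E (MulAut.conj g)
  let e : ↥(Subgroup.normalizer (E : Set ↥H4)) ≃* ↥(Subgroup.normalizer (E' : Set ↥H4)) :=
    ((Subgroup.normalizer (E : Set ↥H4)).equivMapOfInjective c hcinj).trans (MulEquiv.subgroupCongr hmap)
  refine ⟨by omega, by rw [Nat.card_congr e.toEquiv, hN], f.comp e.toMonoidHom, hf.comp e.surjective, ?_⟩
  ext x
  rw [MonoidHom.mem_ker, MonoidHom.comp_apply, ← MonoidHom.mem_ker, hk, Subgroup.mem_subgroupOf,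
    Subgroup.mem_subgroupOf]
  show c (x : ↥H4) ∈ E' ↔ _
  exact Subgroup.mem_map_iff_mem hcinj

/-- No involution commutes with an element of order five. -/
theorem no_five {t x : ↥H4} (ht : orderOf t = 2) (hx : orderOf x = 5) : ¬ Commute t x := by
  intro hcomm
  obtain ⟨hT, hG, -, hIe, ho, h0, hC, hcen, hnine, -⟩ := ranges
  have hce := cent_ok
  simp only [centB, rng, Bool.and_eq_true, List.all_eq_true, List.mem_range, List.any_eq_true, Nat.beq_eq,
    beq_iff_eq, Bool.not_eq_true', ← Bool.not_eq_true] at hce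
  obtain ⟨⟨⟨⟨⟨⟨hroot, hgens⟩, hn⟩, hn01⟩, hnne⟩, hnsq⟩, hconj⟩ := hce
  set z := iP central with hz
  set U := setP (get2 tOrbSets 0 0) with hU
  have hUz : ∀ a : Fin 126, a ∈ U ↔ (z : Equiv.Perm (Fin 126)) a = a := fun a => by
    show (get2 tOrbSets 0 0).testBit a.val = true ↔ _
    rw [hroot a.val a.isLt, Nat.beq_eq, ← code_E (hIe central hcen), ← Fin.ext_iff]
    rfl
  set C := Subgroup.centralizer ({z} : Set ↥H4) with hCdef
  have hCle : C ≤ MulAction.stabilizer ↥H4 U := by
    intro g hg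
    rw [hCdef, Subgroup.mem_centralizer_singleton_iff] at hg
    rw [MulAction.mem_stabilizer_iff, smul_set]
    ext a
    obtain ⟨b, rfl⟩ := (g : Equiv.Perm (Fin 126)).surjective a
    rw [(g : Equiv.Perm (Fin 126)).injective.mem_set_image, hUz, hUz, ← Equiv.Perm.mul_apply,
      ← Subgroup.coe_mul, ← hg, Subgroup.coe_mul, Equiv.Perm.mul_apply,
      (g : Equiv.Perm (Fin 126)).injective.eq_iff]
  have hC1152 : Nat.card ↥C ≤ 1152 := by
    have h1 := Subgroup.card_le_of_le hCle
    have h2 : Nat.card (MulAction.stabilizer ↥H4 U) * 2835 ≤ 3265920 := stab_le tOrb_ok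
    omega
  have hTC : TG ≤ C := by
    refine (Subgroup.closure_le _).2 ?_
    rintro _ ⟨k, hk, rfl⟩
    exact Subgroup.mem_centralizer_singleton_iff.2 ((comm_spec (hG k hk) (hIe central hcen)).1 (hgens k hk)).eq
  set a := E_ (nine.getD 0 0) with ha
  set b := E_ (nine.getD 1 0) with hb
  have hab : Commute a b := (comm_spec (hnine 0 (by norm_num)) (hnine 1 (by norm_num))).1 hn01
  have hone : E_ oneI = 1 := by
    have h := step_ok
    simp only [stepB, Bool.and_eq_true] at h
    exact one_spec h.1 ho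
  have hnk : ∀ k < 2, E_ (nine.getD k 0) ≠ 1 ∧ E_ (nine.getD k 0) ^ 3 = 1 ∧ E_ (nine.getD k 0) ∈ C := by
    intro k hk
    obtain ⟨⟨h1, h2⟩, h3⟩ := hn k hk
    refine ⟨hone ▸ ne_spec h2 (hnine k hk) ho, Subtype.ext (Equiv.ext fun y => Fin.ext ?_),
      Subgroup.mem_centralizer_singleton_iff.2 ((comm_spec (hnine k hk) (hIe central hcen)).1 h1).eq⟩
    rw [pow_succ, pow_two, Subgroup.coe_mul, Subgroup.coe_mul, Equiv.Perm.mul_apply, Equiv.Perm.mul_apply,
      code_E (hnine k hk), code_E (hnine k hk), code_E (hnine k hk), h3 y.val y.isLt]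
    rfl
  obtain ⟨ha1, ha3, haC⟩ := hnk 0 (by norm_num)
  obtain ⟨hb1, hb3, hbC⟩ := hnk 1 (by norm_num)
  set W := Subgroup.closure ({a, b} : Set ↥H4) with hW
  have hWC : W ≤ C := (Subgroup.closure_le _).2 (by
    rintro y (rfl | rfl)
    exacts [haC, hbC])
  have hWcomm : IsMulCommutative ↥W := Subgroup.isMulCommutative_closure (by
    rintro y (rfl | rfl) y' (rfl | rfl)
    exacts [rfl, hab.eq, hab.eq.symm, rfl])
  have hW3 : IsPGroup 3 ↥W := fun y => ⟨1, by
    refine Subtype.ext ?_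
    rw [Subgroup.coe_pow, pow_one, Subgroup.coe_one]
    have hy := y.2
    revert hy
    generalize (y : ↥H4) = w
    intro hy
    induction hy using Subgroup.closure_induction with
    | mem w hw => rcases hw with rfl | rfl; exacts [ha3, hb3]
    | one => exact one_pow _
    | mul w w' hw hw' e e' =>
      have hc : Commute w w' := congrArg Subtype.val (hWcomm.is_comm.comm (⟨w, hw⟩ : ↥W) ⟨w', hw'⟩)
      rw [hc.mul_pow, e, e', one_mul]
    | inv w _ e => rw [inv_pow, e, inv_one]⟩
  have h9 : 9 ∣ Nat.card ↥W := by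
    haveI := Fact.mk Nat.prime_three
    obtain ⟨n, hn'⟩ := IsPGroup.iff_card.1 hW3
    have hne : b ≠ a := fun e => (ne_spec hnne (hnine 0 (by norm_num)) (hnine 1 (by norm_num))) e.symm
    have hne2 : b ≠ a * a := fun e => by
      obtain ⟨y, hy, hyne⟩ := hnsq
      exact hyne (by rw [← code_E (hnine 1 (by norm_num)) ⟨y, hy⟩, ← code_E (hnine 0 (by norm_num)) ⟨y, hy⟩,
        ← code_E (hnine 0 (by norm_num)), ← Equiv.Perm.mul_apply, ← Subgroup.coe_mul, ← ha, ← hb, e])
    have haW : a ∈ W := Subgroup.subset_closure (by simp)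
    have hbW : b ∈ W := Subgroup.subset_closure (by simp)
    have hge : 4 ≤ Nat.card ↥W := by
      have hs : ({1, a, a * a, b} : Set ↥H4) ⊆ (W : Set ↥H4) := by
        rintro y (rfl | rfl | rfl | rfl)
        exacts [one_mem _, haW, mul_mem haW haW, hbW]
      have h1 := Set.ncard_le_ncard hs (Set.toFinite _)
      have haa : a * a ≠ 1 := fun e => ha1 (by rw [← ha3, pow_succ, pow_two, e, one_mul])
      have haaa : a * a ≠ a := fun e => ha1 (mul_eq_right.1 e)
      rw [Set.ncard_insert_of_notMem (by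
          simp only [Set.mem_insert_iff, Set.mem_singleton_iff, not_or]
          exact ⟨Ne.symm ha1, Ne.symm haa, Ne.symm hb1⟩),
        Set.ncard_insert_of_notMem (by simp [Ne.symm haaa, Ne.symm hne]),
        Set.ncard_insert_of_notMem (by simp [Ne.symm hne2]), Set.ncard_singleton] at h1
      exact h1.trans (Nat.card_coe_set_eq _).le
    rw [hn']
    rcases n with _ | _ | n
    · rw [hn'] at hge; norm_num at hge
    · rw [hn'] at hge; norm_num at hge
    · exact ⟨3 ^ n, by ring⟩
  have hdvd : 1152 ∣ Nat.card ↥C := by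
    have h1 := Subgroup.card_dvd_of_le hTC
    have h2 := h9.trans (Subgroup.card_dvd_of_le hWC)
    rw [card_TG] at h1
    exact (show Nat.Coprime 128 9 by norm_num).mul_dvd_of_dvd_of_dvd h1 h2
  have hCcard : Nat.card ↥C = 1152 := by
    obtain ⟨k, hk⟩ := hdvd
    have hpos : 0 < Nat.card ↥C := Nat.card_pos
    rcases k with _ | _ | k <;> omega
  -- move the involution to the central one
  have hp : IsPGroup 2 ↥(Subgroup.zpowers t) := IsPGroup.of_card (n := 1) (by rw [Nat.card_zpowers, ht, pow_one])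
  obtain ⟨g, hg⟩ := exists_conj_le hp
  have hmem : g * t * g⁻¹ ∈ TG := hg ⟨t, Subgroup.mem_zpowers t, rfl⟩
  obtain ⟨i, hi, hie⟩ := exists_inv hmem (fun e => by
    rw [conj_eq_one_iff] at e
    rw [e, orderOf_one] at ht; omega) (by
    rw [show g * t * g⁻¹ * (g * t * g⁻¹) = g * (t * t) * g⁻¹ by group, ← pow_two, ← ht, pow_orderOf_eq_one]; group)
  set c := E_ (conjs.getD i 0) with hc
  have hcz : c * z = iP i * c := Subtype.ext (Equiv.ext fun y => Fin.ext (by
    rw [Subgroup.coe_mul, Subgroup.coe_mul, Equiv.Perm.mul_apply, Equiv.Perm.mul_apply, hc, hz, iP, iP,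
      code_E (hC i hi), code_E (hIe central hcen), code_E (hIe i hi), code_E (hC i hi)]
    exact hconj i hi y.val y.isLt))
  have hx' : (c⁻¹ * g) * x * (c⁻¹ * g)⁻¹ ∈ C := by
    rw [hCdef, Subgroup.mem_centralizer_singleton_iff]
    have hzt : z = (c⁻¹ * g) * t * (c⁻¹ * g)⁻¹ := by
      rw [show (c⁻¹ * g) * t * (c⁻¹ * g)⁻¹ = c⁻¹ * (g * t * g⁻¹) * c by group, ← hie, mul_assoc, ← hcz,
        inv_mul_cancel_left]
    rw [hzt]
    exact ((Commute.conj_iff _).2 hcomm.symm).eq
  have h5 := Subgroup.orderOf_dvd_natCard C hx'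
  rw [hCcard, ← MulAut.conj_apply, MulEquiv.orderOf_eq, hx] at h5
  norm_num at h5

end CfsgLib.LargeFischer.U43
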