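import Cfsg.Agent.Lib.LargeFischer.Count
import Cfsg.Agent.Lib.LargeFischer.U43Norm
import Cfsg.Agent.Lib.UnMinIndex.FourMain
import Cfsg.Agent.Lib.Classical.UnitaryPSU

/-!
# The action of a group of shape 3.U4(3).2 on an orthogonal space of dimension twelve

The abstract part of the argument for groups of large Fischer type: `V` is a nondegenerate orthogonal space of
dimension twelve over two elements, `K` acts faithfully by isometries, `n` generates a normal subgroup of order
three, `M` has index two and maps onto the unitary group with kernel generated by `n`.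
-/

set_option autoImplicit false
set_option linter.unusedSectionVars false

namespace CfsgLib.LargeFischer

open QuadraticMap
open CfsgLib.Schur.Tails.UFour (H4 card_H4 psu_equiv_H4)

theorem h4_simple : IsSimpleGroup ↥H4 := by
  obtain ⟨e⟩ := psu_equiv_H4 CfsgLib.Schur.Tails.UFour.F9 CfsgLib.Schur.Tails.UFour.card_F9
  haveI := CfsgLib.Classical.Unitary.isSimpleGroup_PSU (F := CfsgLib.Schur.Tails.UFour.F9) (n := 4) (q := 3)
    (by rw [CfsgLib.Schur.Tails.UFour.card_F9]; norm_num) (by norm_num) (by norm_num)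
  exact e.isSimpleGroup

theorem h4_index {H : Subgroup ↥H4} (h : H.index < 112) : H = ⊤ := by
  obtain ⟨e⟩ := psu_equiv_H4 CfsgLib.Schur.Tails.UFour.F9 CfsgLib.Schur.Tails.UFour.card_F9
  by_contra hne
  have hne' : H.comap e.symm.toMonoidHom ≠ ⊤ := fun he => hne (by
    rw [← Subgroup.map_comap_eq_self_of_surjective (f := e.symm.toMonoidHom) e.symm.surjective H, he,
      Subgroup.map_top_of_surjective _ e.symm.surjective])
  have hb := (CfsgLib.UnMinIndex.psu_four_min_index (F := CfsgLib.Schur.Tails.UFour.F9) (q := 3)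
    (by rw [CfsgLib.Schur.Tails.UFour.card_F9]; norm_num)).1 _ hne'
  rw [Subgroup.index_comap_of_surjective H (f := e.symm.toMonoidHom) e.symm.surjective] at hb
  omega

variable {V : Type*} [AddCommGroup V] [Module (ZMod 2) V] [Finite V]
  {K : Type*} [Group K] [Finite K] [DistribMulAction K V]

/-- The abstract setting. -/
structure Core (q : QuadraticForm (ZMod 2) V) (n : K) (M : Subgroup K) (φ : ↥M →* ↥H4) : Prop where
  isom : ∀ (k : K) (v : V), q (k • v) = q v
  faithful : ∀ k : K, (∀ v : V, k • v = v) → k = 1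
  nondeg : ∀ v, (∀ w, polar q v w = 0) → v = 0
  cardV : Nat.card V = 4 ^ 6
  ordn : orderOf n = 3
  normal : ∀ k : K, k * n * k⁻¹ ∈ Subgroup.zpowers n
  indexM : M.index = 2
  nM : n ∈ M
  surj : Function.Surjective φ
  ker : ∀ m : ↥M, φ m = 1 ↔ (m : K) ∈ Subgroup.zpowers n

/-- The data attached to a vector coming from a conjugate of the central involution. -/
structure CentData (q : QuadraticForm (ZMod 2) V) (s : V) (E : Subgroup K) (D : AddSubgroup V) : Prop where
  mem : s ∈ D
  sing : ∀ d ∈ D, q d = 0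
  card : Nat.card E * Nat.card D = 2 ^ 11
  elem : Cfsg.IsElementaryAbelian 2 E
  fix : ∀ e ∈ E, e • s = s
  normal : ∀ k : K, k • s = s → ∀ e ∈ E, k * e * k⁻¹ ∈ E
  move : ∀ e ∈ E, ∀ d ∈ D, e • d = d ∨ e • d = d + s
  perp : ∀ e ∈ E, ∀ v, polar q v s = 0 → e • v + v ∈ D
  faith : ∀ e ∈ E, (∀ d ∈ D, e • d = d) → e = 1
  fixD : ∀ d ∈ D, (∀ e ∈ E, e • d = d) → d = 0 ∨ d = s

/-- Vectors coming from conjugates of the central involution. -/
structure Central (q : QuadraticForm (ZMod 2) V) (K : Type*) [Group K] [DistribMulAction K V] (s : V) : Prop where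
  ne : s ≠ 0
  data : ∃ (E : Subgroup K) (D : AddSubgroup V), CentData q s E D

/-- The orthogonal space of an additive subgroup. -/
def perpSub (q : QuadraticForm (ZMod 2) V) (U : AddSubgroup V) : AddSubgroup V where
  carrier := {v | ∀ u ∈ U, polar q v u = 0}
  zero_mem' := fun u _ => QuadraticMap.polar_zero_left q u
  add_mem' := fun {a b} ha hb u hu => by rw [QuadraticMap.polar_add_left, ha u hu, hb u hu, add_zero]
  neg_mem' := fun {a} ha u hu => by rw [QuadraticMap.polar_neg_left, ha u hu, neg_zero]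

theorem perpSub_card (q : QuadraticForm (ZMod 2) V) (hnd : ∀ v, (∀ w, polar q v w = 0) → v = 0) (U : AddSubgroup V) :
    Nat.card ↥(perpSub q U) * Nat.card ↥U = Nat.card V := by
  haveI : Module.Finite (ZMod 2) V := Module.Finite.of_finite
  let B : LinearMap.BilinForm (ZMod 2) V := q.polarBilin
  have hB : B.Nondegenerate := by
    refine ⟨fun x h => hnd x fun w => h w, fun y h => hnd y fun w => ?_⟩
    rw [QuadraticMap.polar_comm]; exact h w
  let W := AddSubgroup.toZModSubmodule 2 U
  have h1 : Nat.card ↥(B.orthogonal W) = Nat.card ↥(perpSub q U) := by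
    refine Nat.card_congr (Equiv.subtypeEquivRight fun v => ?_)
    show (∀ u ∈ W, B u v = 0) ↔ ∀ u ∈ U, polar q v u = 0
    exact forall₂_congr fun u _ => by rw [QuadraticMap.polar_comm]; rfl
  have hW : Nat.card ↥W = Nat.card ↥U := rfl
  rw [← h1, ← hW, card_eq_two_pow, card_eq_two_pow, card_eq_two_pow, ← pow_add,
    LinearMap.BilinForm.finrank_orthogonal hB W, Nat.sub_add_cancel (Submodule.finrank_le W)]

/-- The action of a subgroup on an invariant subspace. -/
def restr (A : Subgroup K) (S : Submodule (ZMod 2) V) (h : ∀ a ∈ A, ∀ v ∈ S, a • v ∈ S) :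
    ↥A →* (↥S ≃ₗ[ZMod 2] ↥S) where
  toFun a :=
    { toFun := fun v => ⟨(a : K) • (v : V), h a a.2 v v.2⟩
      invFun := fun v => ⟨(a : K)⁻¹ • (v : V), h _ (inv_mem a.2) v v.2⟩
      map_add' := fun u v => Subtype.ext (smul_add _ _ _)
      map_smul' := fun r v => by
        rcases z2_cases r with rfl | rfl
        · refine Subtype.ext ?_
          simp [smul_zero]
        · refine Subtype.ext ?_
          simp
      left_inv := fun v => Subtype.ext (inv_smul_smul _ _)
      right_inv := fun v => Subtype.ext (smul_inv_smul _ _) }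
  map_one' := LinearEquiv.ext fun v => Subtype.ext (one_smul K (v : V))
  map_mul' a b := LinearEquiv.ext fun v => Subtype.ext (mul_smul (a : K) (b : K) (v : V))

theorem restr_eq_one {A : Subgroup K} {S : Submodule (ZMod 2) V} {h : ∀ a ∈ A, ∀ v ∈ S, a • v ∈ S} {a : ↥A} :
    restr A S h a = 1 ↔ ∀ v ∈ S, (a : K) • v = v := by
  constructor
  · intro e v hv
    exact congrArg Subtype.val (LinearEquiv.congr_fun e ⟨v, hv⟩)
  · exact fun e => LinearEquiv.ext fun v => Subtype.ext (e v v.2)

namespace Core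

variable {q : QuadraticForm (ZMod 2) V} {n : K} {M : Subgroup K} {φ : ↥M →* ↥H4} (c : Core q n M φ)

include c

theorem n_three : n * n * n = 1 := by
  rw [← pow_two, ← pow_succ, show 2 + 1 = orderOf n from c.ordn.symm, pow_orderOf_eq_one]

theorem n_ne : n ≠ 1 := fun e => by have := c.ordn; rw [e, orderOf_one] at this; omega

theorem zn_cases {x : K} (hx : x ∈ Subgroup.zpowers n) : x = 1 ∨ x = n ∨ x = n * n := by
  classical
  rw [mem_zpowers_iff_mem_range_orderOf, c.ordn] at hx
  simp only [Finset.mem_image, Finset.mem_range] at hx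
  obtain ⟨i, hi, rfl⟩ := hx
  interval_cases i <;> simp [pow_succ]

theorem card_zn : Nat.card (Subgroup.zpowers n) = 3 := by rw [Nat.card_zpowers, c.ordn]

theorem ker_eq : φ.ker = (Subgroup.zpowers n).subgroupOf M := by
  ext m
  rw [MonoidHom.mem_ker, c.ker, Subgroup.mem_subgroupOf]

theorem zn_le : Subgroup.zpowers n ≤ M := Subgroup.zpowers_le.2 c.nM

theorem card_M : Nat.card ↥M = 9797760 := by
  have h := φ.ker.card_mul_index
  rw [Subgroup.index_ker, MonoidHom.range_eq_top.2 c.surj, Subgroup.card_top, card_H4, c.ker_eq,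
    Nat.card_congr (Subgroup.subgroupOfEquivOfLe c.zn_le).toEquiv, c.card_zn] at h
  exact h.symm.trans (by norm_num)

theorem card_K : Nat.card K = 19595520 := by
  have h := M.card_mul_index
  rw [c.card_M, c.indexM] at h
  omega

theorem M_normal : M.Normal := Subgroup.normal_of_index_eq_two c.indexM

/-- A subgroup of `M` containing `n` of index less than 112 is everything. -/
theorem le_of_relIndex {A : Subgroup K} (hn : n ∈ A) (hA : A.relIndex M < 112) : M ≤ A := by
  have hk : φ.ker ≤ A.subgroupOf M := by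
    rw [c.ker_eq]
    exact fun m hm => (Subgroup.zpowers_le.2 hn) hm
  have h1 : ((A.subgroupOf M).map φ).index = (A.subgroupOf M).index := Subgroup.index_map_eq _ c.surj hk
  have h2 : (A.subgroupOf M).map φ = ⊤ := h4_index (by rw [h1]; exact hA)
  rw [h2, Subgroup.index_top] at h1
  have h3 : A.subgroupOf M = ⊤ := Subgroup.index_eq_one.1 h1.symm
  exact Subgroup.subgroupOf_eq_top.1 h3

theorem conj_n (k : K) : k * n * k⁻¹ = n ∨ k * n * k⁻¹ = n * n := by
  rcases c.zn_cases (c.normal k) with e | e | e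
  · exact absurd (conj_eq_one_iff.1 e) c.n_ne
  · exact .inl e
  · exact .inr e

theorem commute {m : K} (hm : m ∈ M) : m * n = n * m := by
  have hle : M ≤ Subgroup.centralizer ({n} : Set K) := by
    refine c.le_of_relIndex (Subgroup.mem_centralizer_singleton_iff.2 rfl) ?_
    by_cases h : M ≤ Subgroup.centralizer ({n} : Set K)
    · rw [Subgroup.relIndex_eq_one.2 h]; norm_num
    obtain ⟨a, ha, hac⟩ := SetLike.not_le_iff_exists.1 h
    have hinv : ∀ {x : K}, x ∉ Subgroup.centralizer ({n} : Set K) → x * n * x⁻¹ = n * n := fun {x} hx =>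
      (c.conj_n x).resolve_left fun e => hx (Subgroup.mem_centralizer_singleton_iff.2 (mul_inv_eq_iff_eq_mul.1 e))
    have hn4 : n * n * (n * n) = n := by rw [← mul_assoc, c.n_three, one_mul]
    have h2 : ((Subgroup.centralizer ({n} : Set K)).subgroupOf M).index = 2 := by
      refine Subgroup.index_eq_two_iff.2 ⟨⟨a, ha⟩, fun b => ?_⟩
      simp only [Subgroup.mem_subgroupOf, Subgroup.coe_mul]
      by_cases hb : (b : K) ∈ Subgroup.centralizer ({n} : Set K)
      · exact Or.inr ⟨hb, fun h => hac ((mul_mem_cancel_left hb).1 h)⟩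
      · refine Or.inl ⟨Subgroup.mem_centralizer_singleton_iff.2 (mul_inv_eq_iff_eq_mul.1 ?_), hb⟩
        calc (b : K) * a * n * ((b : K) * a)⁻¹ = (b : K) * (a * n * a⁻¹) * (b : K)⁻¹ := by group
          _ = ((b : K) * n * (b : K)⁻¹) * ((b : K) * n * (b : K)⁻¹) := by rw [hinv hac]; group
          _ = n := by rw [hinv hb, hn4]
    show ((Subgroup.centralizer ({n} : Set K)).subgroupOf M).index < 112
    omega
  exact Subgroup.mem_centralizer_singleton_iff.1 (hle hm)

theorem polar_smul (k : K) (x y : V) : polar q (k • x) (k • y) = polar q x y := by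
  simp only [polar, ← smul_add, c.isom]

theorem smul_n_three (v : V) : n • n • n • v = v := by rw [← mul_smul, ← mul_smul, c.n_three, one_smul]

/-- The vectors fixed by the normal subgroup of order three. -/
theorem fixN_invariant (k : K) {v : V} (hv : n • v = v) : n • k • v = k • v := by
  have h : ∀ j : K, j ∈ Subgroup.zpowers n → j • v = v := fun j hj => by
    rcases c.zn_cases hj with rfl | rfl | rfl
    · exact one_smul K v
    · exact hv
    · rw [mul_smul, hv, hv]
  have h1 : k⁻¹ * n * k ∈ Subgroup.zpowers n := by simpa using c.normal k⁻¹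
  calc n • k • v = k • (k⁻¹ * n * k) • v := by rw [← mul_smul, ← mul_smul]; group
    _ = k • v := by rw [h _ h1]

theorem smul_zn_eq {s : V} {x : K} (hx : x ∈ Subgroup.zpowers n) (hx1 : x ≠ 1) (h : x • s = s) : n • s = s := by
  rcases c.zn_cases hx with rfl | rfl | rfl
  · exact absurd rfl hx1
  · exact h
  · conv_lhs => rw [← h]
    rw [mul_smul]
    exact c.smul_n_three s

/-- Elementary abelian subgroups of `M` map injectively. -/
theorem elem_map {A : Subgroup K} (hAM : A ≤ M) (hA : Cfsg.IsElementaryAbelian 2 A) :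
    Cfsg.IsElementaryAbelian 2 ((A.subgroupOf M).map φ) ∧ Nat.card ↥((A.subgroupOf M).map φ) = Nat.card ↥A := by
  refine ⟨⟨⟨⟨?_⟩⟩, ?_⟩, ?_⟩
  · rintro ⟨_, x, hx, rfl⟩ ⟨_, y, hy, rfl⟩
    refine Subtype.ext ?_
    show φ x * φ y = φ y * φ x
    rw [← map_mul, ← map_mul]
    exact congrArg φ (Subtype.ext (congrArg (fun z : ↥A => (z : K)) (hA.1.is_comm.comm ⟨_, hx⟩ ⟨_, hy⟩)))
  · rintro _ ⟨x, hx, rfl⟩
    rw [← map_pow, show x ^ 2 = 1 from Subtype.ext (by simpa using hA.2 _ hx), map_one]
  · let f : ↥(A.subgroupOf M) →* ↥H4 := φ.comp (A.subgroupOf M).subtype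
    have hf : Function.Injective f := by
      rw [injective_iff_map_eq_one]
      intro x hx
      have h1 := (c.ker (x : ↥M)).1 hx
      have h2 : ((x : ↥M) : K) ^ 2 = 1 := hA.2 _ x.2
      refine Subtype.ext (Subtype.ext ?_)
      rcases c.zn_cases h1 with e | e | e
      · exact e
      · rw [e] at h2
        have := orderOf_dvd_of_pow_eq_one h2
        rw [c.ordn] at this; omega
      · rw [e, pow_two, ← mul_assoc, c.n_three, one_mul] at h2
        exact absurd h2 c.n_ne
    have : (A.subgroupOf M).map φ = f.range := by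
      rw [MonoidHom.range_comp, Subgroup.range_subtype]
    rw [this, ← Nat.card_congr (MonoidHom.ofInjective hf).toEquiv,
      Nat.card_congr (Subgroup.subgroupOfEquivOfLe hAM).toEquiv]

theorem elem_le {A : Subgroup K} (hAM : A ≤ M) (hA : Cfsg.IsElementaryAbelian 2 A) : Nat.card ↥A ≤ 16 := by
  obtain ⟨h1, h2⟩ := c.elem_map hAM hA
  by_contra h
  have := (U43.elementary_facts h1 (by omega)).1
  omega

/-- The bound on subgroups of `M` normalising an elementary abelian subgroup of order sixteen. -/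
theorem norm_bound {A Y : Subgroup K} (hAM : A ≤ M) (hA : Cfsg.IsElementaryAbelian 2 A) (h16 : 16 ≤ Nat.card ↥A)
    (hYM : Y ≤ M) (hY : ∀ y ∈ Y, ∀ a ∈ A, y * a * y⁻¹ ∈ A) :
    Nat.card ↥Y ≤ 5760 * Nat.card ↥(Subgroup.zpowers n ⊓ Y) ∧
      (Subgroup.zpowers n ⊓ Y = ⊥ → Nat.card ↥Y ∣ 5760) := by
  obtain ⟨h1, h2⟩ := c.elem_map hAM hA
  obtain ⟨-, hN, -⟩ := U43.elementary_facts h1 (h2.symm ▸ h16)
  let ψ : ↥Y →* ↥H4 := φ.comp (Subgroup.inclusion hYM)
  have hψ : ψ.range ≤ Subgroup.normalizer (((A.subgroupOf M).map φ : Subgroup ↥H4) : Set ↥H4) := by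
    rintro _ ⟨y, rfl⟩
    rw [Subgroup.mem_normalizer_iff]
    have fwd : ∀ (y : ↥Y), ∀ t ∈ (A.subgroupOf M).map φ, ψ y * t * (ψ y)⁻¹ ∈ (A.subgroupOf M).map φ := by
      rintro y _ ⟨a, ha, rfl⟩
      exact ⟨Subgroup.inclusion hYM y * a * (Subgroup.inclusion hYM y)⁻¹, hY y y.2 _ ha,
        by simp [ψ]⟩
    intro t
    refine ⟨fwd y t, fun ht => ?_⟩
    have := fwd y⁻¹ _ ht
    rwa [map_inv, inv_inv, show (ψ y)⁻¹ * (ψ y * t * (ψ y)⁻¹) * ψ y = t by group] at this
  have hker : Nat.card ↥ψ.ker = Nat.card ↥(Subgroup.zpowers n ⊓ Y) := by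
    have e : ψ.ker = (Subgroup.zpowers n ⊓ Y).subgroupOf Y := by
      ext y
      rw [MonoidHom.mem_ker, Subgroup.mem_subgroupOf]
      exact ⟨fun h => ⟨(c.ker _).1 h, y.2⟩, fun h => (c.ker _).2 h.1⟩
    rw [e, Nat.card_congr (Subgroup.subgroupOfEquivOfLe inf_le_right).toEquiv]
  have hprod : Nat.card ↥ψ.range * Nat.card ↥ψ.ker = Nat.card ↥Y := by
    rw [← Subgroup.index_ker ψ, Subgroup.index_mul_card]
  have hd := Subgroup.card_dvd_of_le hψ
  rw [hN] at hd
  constructor
  · rw [← hprod, hker]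
    exact Nat.mul_le_mul_right _ (Nat.le_of_dvd (by norm_num) hd)
  · intro h
    rw [← hprod, hker, h, Subgroup.card_bot, mul_one]
    exact hd

section Data

variable {s : V} {E : Subgroup K} {D : AddSubgroup V} (hd : CentData q s E D)
include hd

theorem sing_s : q s = 0 := hd.sing s hd.mem

theorem polar_D {d d' : V} (h : d ∈ D) (h' : d' ∈ D) : polar q d d' = 0 := by
  rw [polar, hd.sing _ (D.add_mem h h'), hd.sing _ h, hd.sing _ h']; ring

theorem data_cards : Nat.card ↥E = 32 ∧ Nat.card ↥D = 64 ∧ Nat.card ↥(E ⊓ M) = 16 ∧ ¬ E ≤ M := by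
  have hDle : Nat.card ↥D ≤ 64 := by
    have h := perpSub_card q c.nondeg D
    have hle : Nat.card ↥D ≤ Nat.card ↥(perpSub q D) :=
      Nat.le_of_dvd Nat.card_pos (AddSubgroup.card_dvd_of_le fun d hd' u hu => c.polar_D hd hd' hu)
    rw [c.cardV] at h
    norm_num at h
    nlinarith
  have hE := hd.card
  norm_num at hE
  have hEge : 32 ≤ Nat.card ↥E := by nlinarith
  have h0 : Nat.card ↥(E ⊓ M) ≤ 16 := c.elem_le inf_le_right
    ⟨⟨⟨fun a b => Subtype.ext (congrArg (fun z : ↥E => (z : K)) (hd.elem.1.is_comm.comm ⟨a, a.2.1⟩ ⟨b, b.2.1⟩))⟩⟩,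
      fun a ha => hd.elem.2 a ha.1⟩
  have hrel : (E ⊓ M).relIndex E ≤ 2 := by
    haveI := c.M_normal
    have := Subgroup.relIndex_dvd_index_of_normal M E
    rw [c.indexM] at this
    rw [Subgroup.inf_relIndex_left]
    exact Nat.le_of_dvd (by norm_num) this
  have hmul : (E ⊓ M).relIndex E * Nat.card ↥(E ⊓ M) = Nat.card ↥E := by
    have h := Subgroup.relIndex_mul_relIndex ⊥ (E ⊓ M) E bot_le inf_le_left
    simp only [Subgroup.relIndex_bot_left] at h
    rw [mul_comm]; exact h
  have hE32 : Nat.card ↥E = 32 := le_antisymm (by nlinarith) hEge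
  refine ⟨hE32, by rw [hE32] at hE; omega, ?_, fun hle => ?_⟩
  · nlinarith
  · have := c.elem_le hle hd.elem
    omega

/-- A vector fixed by the part in `M` is orthogonal. -/
theorem perp_of_fixed {v : V} (hv : ∀ e ∈ E ⊓ M, e • v = v) : polar q v s = 0 := by
  obtain ⟨-, -, h16, -⟩ := c.data_cards hd
  by_contra hne
  obtain ⟨e, he, he1⟩ : ∃ e ∈ E ⊓ M, e ≠ 1 := by
    by_contra h
    simp only [not_exists, not_and, not_not] at h
    rw [(Subgroup.eq_bot_iff_forall _).2 h, Subgroup.card_bot] at h16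
    omega
  refine he1 (hd.faith e he.1 fun d hdD => (hd.move e he.1 d hdD).resolve_right fun h => hne ?_)
  have h1 := c.polar_smul e v d
  rw [hv e he, h, QuadraticMap.polar_add_right] at h1
  simpa using h1

theorem stab_le : Subgroup.zpowers n ⊓ (MulAction.stabilizer K s ⊓ M) = ⊥ ∨ n • s = s := by
  by_cases h : n • s = s
  · exact .inr h
  · refine .inl ((Subgroup.eq_bot_iff_forall _).2 fun x hx => ?_)
    by_contra hx1
    exact h (c.smul_zn_eq hx.1 hx1 hx.2.1)

theorem E_le_stab : E ≤ MulAction.stabilizer K s := fun e he => hd.fix e he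

theorem norm_E0 {y : K} (hy : y • s = s) {a : K} (ha : a ∈ E ⊓ M) : y * a * y⁻¹ ∈ E ⊓ M :=
  ⟨hd.normal y hy a ha.1, c.M_normal.conj_mem a ha.2 y⟩

/-- The part of the stabiliser in `M` and its bound. -/
theorem stab_bound : (n • s = s → Nat.card ↥(MulAction.stabilizer K s) ≤ 34560) ∧
    (n • s ≠ s → Nat.card ↥(MulAction.stabilizer K s) ≤ 11520 ∧
      Nat.card ↥(MulAction.stabilizer K s ⊓ M) ∣ 5760) ∧
    Nat.card ↥(MulAction.stabilizer K s) = 2 * Nat.card ↥(MulAction.stabilizer K s ⊓ M) := by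
  obtain ⟨-, -, h16, hnM⟩ := c.data_cards hd
  obtain ⟨hb, hb'⟩ := c.norm_bound (A := E ⊓ M) (Y := MulAction.stabilizer K s ⊓ M) inf_le_right
    ⟨⟨⟨fun a b => Subtype.ext (congrArg (fun z : ↥E => (z : K)) (hd.elem.1.is_comm.comm ⟨a, a.2.1⟩ ⟨b, b.2.1⟩))⟩⟩,
      fun a ha => hd.elem.2 a ha.1⟩
    (by omega) inf_le_right (fun y hy a ha => c.norm_E0 hd hy.1 ha)
  have hrel : (MulAction.stabilizer K s ⊓ M).relIndex (MulAction.stabilizer K s) = 2 := by
    haveI := c.M_normal
    have h := Subgroup.relIndex_dvd_index_of_normal M (MulAction.stabilizer K s)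
    rw [c.indexM, Nat.dvd_prime Nat.prime_two] at h
    rw [Subgroup.inf_relIndex_left]
    exact h.resolve_left fun e => hnM ((c.E_le_stab hd).trans (Subgroup.relIndex_eq_one.1 e))
  have hmul : Nat.card ↥(MulAction.stabilizer K s) = 2 * Nat.card ↥(MulAction.stabilizer K s ⊓ M) := by
    have h := Subgroup.relIndex_mul_relIndex ⊥ (MulAction.stabilizer K s ⊓ M) (MulAction.stabilizer K s) bot_le inf_le_left
    simp only [Subgroup.relIndex_bot_left, hrel] at h
    omega
  refine ⟨fun _ => ?_, fun hne => ?_, hmul⟩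
  · have h3 : Nat.card ↥(Subgroup.zpowers n ⊓ (MulAction.stabilizer K s ⊓ M)) ≤ 3 :=
      c.card_zn ▸ Subgroup.card_le_of_le inf_le_left
    nlinarith
  · have hbot := (c.stab_le hd).resolve_right hne
    have := hb' hbot
    exact ⟨by have := Nat.le_of_dvd (by norm_num) this; omega, this⟩

end Data

theorem orbit_card (v : V) :
    (MulAction.orbit K v).ncard * Nat.card ↥(MulAction.stabilizer K v) = 19595520 := by
  rw [← MulAction.index_stabilizer, Subgroup.index_mul_card, c.card_K]

theorem zeros_six : Nat.card {v : V // q v = 0} = 2080 ∨ Nat.card {v : V // q v = 0} = 2016 := by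
  rcases zeros_cases q c.nondeg 6 c.cardV with h | h <;> norm_num at h <;> omega

theorem orbit_singular {v : V} (hv : q v = 0) : MulAction.orbit K v ⊆ {u | q u = 0} := by
  rintro _ ⟨k, rfl⟩
  show q (k • v) = 0
  rw [c.isom, hv]

theorem orbit_ne_zero {v : V} (hv : v ≠ 0) : MulAction.orbit K v ⊆ {u | u ≠ 0} := by
  rintro _ ⟨k, rfl⟩ e
  exact hv (by rw [← inv_smul_smul k v, show k • v = 0 from e, smul_zero])

/-- The normal subgroup of order three has no fixed vector. -/
theorem fixN_eq_zero {s : V} (hs : Central q K s) {v : V} (hv : n • v = v) : v = 0 := by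
  classical
  by_contra hv0
  let C : AddSubgroup V :=
    { carrier := {x | n • x = x}
      zero_mem' := smul_zero n
      add_mem' := fun {a b} (ha : n • a = a) (hb : n • b = b) => by show n • (a + b) = a + b; rw [smul_add, ha, hb]
      neg_mem' := fun {a} (ha : n • a = a) => by show n • -a = -a; rw [smul_neg, ha] }
  have memC : ∀ {x}, x ∈ C ↔ n • x = x := Iff.rfl
  let W := perpSub q C
  have hfix2 : ∀ {x}, x ∈ C → ∀ u, polar q (n • u) x = polar q u x := fun {x} hx u => by
    conv_lhs => rw [← memC.1 hx]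
    exact c.polar_smul n u x
  have hsum : ∀ u : V, u + n • u + n • n • u ∈ C := fun u => by
    rw [memC, smul_add, smul_add, c.smul_n_three]; abel
  have hW : ∀ u : V, n • u + n • n • u ∈ W := fun u x hx => by
    rw [QuadraticMap.polar_add_left, hfix2 hx, hfix2 hx, hfix2 hx]
    exact CharTwo.add_self_eq_zero _
  have hdec : ∀ u : V, u = (u + n • u + n • n • u) + (n • u + n • n • u) := fun u => by
    rw [add_assoc u (n • u) (n • n • u), add_assoc u, vadd_self, add_zero]
  have hdisj : ∀ {x}, x ∈ C → x ∈ W → x = 0 := fun {x} hxC hxW => c.nondeg x fun u => by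
    rw [hdec u, QuadraticMap.polar_add_right, hxW _ (hsum u), zero_add, QuadraticMap.polar_comm]
    exact hW u x hxC
  let C' := AddSubgroup.toZModSubmodule 2 C
  let W' := AddSubgroup.toZModSubmodule 2 W
  have hcard : Nat.card ↥C * Nat.card ↥W = 4 ^ 6 := by
    rw [mul_comm, perpSub_card q c.nondeg C, c.cardV]
  have hdim : Module.finrank (ZMod 2) ↥C' + Module.finrank (ZMod 2) ↥W' = 12 := by
    have h1 : Nat.card ↥C = 2 ^ Module.finrank (ZMod 2) ↥C' := card_eq_two_pow (V := ↥C')
    have h2 : Nat.card ↥W = 2 ^ Module.finrank (ZMod 2) ↥W' := card_eq_two_pow (V := ↥W')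
    rw [h1, h2, ← pow_add, show (4 : ℕ) ^ 6 = 2 ^ 12 by norm_num] at hcard
    exact Nat.pow_right_injective le_rfl hcard
  have hc1 : 1 ≤ Module.finrank (ZMod 2) ↥C' := by
    by_contra h
    have h1 : Nat.card ↥C = 2 ^ Module.finrank (ZMod 2) ↥C' := card_eq_two_pow (V := ↥C')
    rw [Nat.lt_one_iff.1 (not_le.1 h), pow_zero, AddSubgroup.card_eq_one] at h1
    have := memC.2 hv
    rw [h1, AddSubgroup.mem_bot] at this
    exact hv0 this
  have hCinv : ∀ a ∈ (⊤ : Subgroup K), ∀ x ∈ C', a • x ∈ C' := fun a _ x hx => c.fixN_invariant a hx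
  have hWinv : ∀ (a : K), ∀ x ∈ W', a • x ∈ W' := fun a x hx u hu => by
    have h := hx (a⁻¹ • u) (hCinv a⁻¹ trivial u hu)
    rw [← c.polar_smul a, smul_inv_smul] at h
    exact h
  have hboth : ∀ k : K, (∀ x ∈ C', k • x = x) → (∀ x ∈ W', k • x = x) → k = 1 := fun k h1 h2 =>
    c.faithful k fun u => by rw [hdec u, smul_add, h1 _ (hsum u), h2 _ (hW u)]
  have hnW : ∃ w ∈ W, w ≠ 0 ∧ n • w ≠ w := by
    by_contra h
    simp only [not_exists, not_and, not_not] at h
    refine c.n_ne (hboth n (fun x hx => hx) fun x hx => ?_)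
    by_cases hx0 : x = 0
    · rw [hx0, smul_zero]
    · exact h x hx hx0
  obtain ⟨w, hwW, hw0, hnw⟩ := hnW
  have hw2 : 2 ≤ Module.finrank (ZMod 2) ↥W' := by
    have h2 : Nat.card ↥W = 2 ^ Module.finrank (ZMod 2) ↥W' := card_eq_two_pow (V := ↥W')
    have h3 : 3 ≤ Nat.card ↥W := by
      have hsub : ({0, w, n • w} : Set V) ⊆ (W : Set V) := by
        rintro x (rfl | rfl | rfl)
        exacts [W.zero_mem, hwW, hWinv n w hwW]
      have h := Set.ncard_le_ncard hsub (Set.toFinite _)
      rw [Set.ncard_insert_of_notMem (by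
          simp only [Set.mem_insert_iff, Set.mem_singleton_iff, not_or]
          exact ⟨Ne.symm hw0, fun e => hw0 (by rw [← inv_smul_smul n w, ← e, smul_zero])⟩),
        Set.ncard_pair (Ne.symm hnw)] at h
      exact h.trans (Nat.card_coe_set_eq _).le
    by_contra h
    have : 2 ^ Module.finrank (ZMod 2) ↥W' ≤ 2 ^ 1 := Nat.pow_le_pow_right (by norm_num) (by omega)
    omega
  -- `M` is not faithful on the moved part
  let fW := restr M W' fun a _ x hx => hWinv a x hx
  obtain ⟨k, hk, hk1⟩ := exists_ker_of_dvd fW (m := 3 ^ 7) (by rw [c.card_M]; norm_num) (by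
    rw [card_linear_group rfl]
    exact prod_not_dvd' _ (by omega))
  have hnker : ∀ {m : ↥M}, m ∈ fW.ker → (m : K) ∈ Subgroup.zpowers n → m = 1 := fun {m} hm hmz => by
    by_contra hm1
    have hm1' : (m : K) ≠ 1 := fun e => hm1 (Subtype.ext e)
    exact hnw (c.smul_zn_eq hmz hm1' ((restr_eq_one.1 hm) w hwW))
  have himg : fW.ker.map φ = ⊤ := by
    haveI := h4_simple
    refine ((MonoidHom.normal_ker fW).map φ c.surj).eq_bot_or_eq_top.resolve_left fun e => hk1 ?_
    refine hnker hk ((c.ker k).1 ?_)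
    rw [← Subgroup.mem_bot, ← e]
    exact Subgroup.mem_map_of_mem φ hk
  let g : ↥fW.ker →* (↥C' ≃ₗ[ZMod 2] ↥C') :=
    ((restr ⊤ C' hCinv).comp (Subgroup.inclusion le_top)).comp fW.ker.subtype
  have hC10 : 10 ≤ Module.finrank (ZMod 2) ↥C' := by
    by_contra h
    have h36 : 3 ^ 6 ∣ Nat.card ↥fW.ker := by
      have := Subgroup.card_map_dvd fW.ker φ
      rw [himg, Subgroup.card_top, card_H4] at this
      exact (by norm_num : (3 : ℕ) ^ 6 ∣ 3265920).trans this
    obtain ⟨x, hx, hx1⟩ := exists_ker_of_dvd g h36 (by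
      rw [card_linear_group rfl]
      exact prod_not_dvd _ (by omega))
    exact hx1 (Subtype.ext (Subtype.ext (hboth _ ((restr_eq_one (h := hCinv) (a := ⟨_, trivial⟩)).1 hx)
      (restr_eq_one.1 x.2))))
  have hc10 : Module.finrank (ZMod 2) ↥C' = 10 := by omega
  -- counting singular vectors
  let qC : QuadraticForm (ZMod 2) ↥C' := q.comp C'.subtype
  have hndC : ∀ x, (∀ y, polar qC x y = 0) → x = 0 := fun x h => Subtype.ext (hdisj x.2 fun y hy => by
    have h' := h ⟨y, hy⟩
    simpa [qC, polar] using h')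
  have hzC := zeros_cases qC hndC 5 (by rw [card_eq_two_pow, hc10]; norm_num)
  let Z : Set V := {x | q x = 0 ∧ n • x = x ∧ x ≠ 0}
  have hZ : Z.ncard + 1 = Nat.card {x : ↥C' // qC x = 0} := by
    have e : Nat.card {x : ↥C' // qC x = 0} = ({x : V | q x = 0 ∧ n • x = x}).ncard := by
      rw [← Nat.card_coe_set_eq]
      exact Nat.card_congr
        { toFun := fun x => ⟨(x.1 : V), x.2, x.1.2⟩
          invFun := fun x => ⟨⟨x.1, x.2.2⟩, x.2.1⟩
          left_inv := fun x => rfl
          right_inv := fun x => rfl }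
    have h0 : ({x : V | q x = 0 ∧ n • x = x}) = insert (0 : V) Z := by
      ext x
      constructor
      · intro hx
        by_cases h : x = 0
        · exact .inl h
        · exact .inr ⟨hx.1, hx.2, h⟩
      · rintro (rfl | h)
        · exact ⟨q_zero q, smul_zero n⟩
        · exact ⟨h.1, h.2.1⟩
    rw [e, h0, Set.ncard_insert_of_notMem (fun h => h.2.2 rfl) (Set.toFinite _)]
  have hZb : Z.ncard = 527 ∨ Z.ncard = 495 := by
    rcases hzC with h | h <;> norm_num at h <;> omega
  obtain ⟨hs0, E, D, hd⟩ := hs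
  obtain ⟨hb1, hb2, -⟩ := c.stab_bound hd
  have horb := c.orbit_card s
  have hsing := c.sing_s hd
  by_cases hns : n • s = s
  · have hsub : MulAction.orbit K s ⊆ Z := fun u hu => by
      refine ⟨c.orbit_singular hsing hu, ?_, c.orbit_ne_zero hs0 hu⟩
      obtain ⟨k, rfl⟩ := hu
      exact c.fixN_invariant k hns
    have h1 := Set.ncard_le_ncard hsub (Set.toFinite _)
    have h2 := hb1 hns
    have h4 := Nat.mul_le_mul (show (MulAction.orbit K s).ncard ≤ 527 by omega) h2
    omega
  · let T : Set V := {x | q x = 0}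
    have hsub : MulAction.orbit K s ⊆ T \ insert 0 Z := fun u hu => by
      refine ⟨c.orbit_singular hsing hu, ?_⟩
      rintro (e | e)
      · exact c.orbit_ne_zero hs0 hu e
      · obtain ⟨k, rfl⟩ := hu
        exact hns (by simpa using c.fixN_invariant k⁻¹ e.2.1)
    have h1 := Set.ncard_le_ncard hsub (Set.toFinite _)
    rw [Set.ncard_sdiff (fun x hx => by rcases hx with rfl | hx; exacts [q_zero q, hx.1]),
      Set.ncard_insert_of_notMem (fun h => h.2.2 rfl) (Set.toFinite _),
      ← Nat.card_coe_set_eq T, show Nat.card ↥T = Nat.card {v : V // q v = 0} from rfl] at h1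
    have h2 := (hb2 hns).1
    have h3 := c.zeros_six
    have h4 := Nat.mul_le_mul (show (MulAction.orbit K s).ncard ≤ 1584 by omega) h2
    omega

end Core

end CfsgLib.LargeFischer
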