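import Mathlib

/-!
# An elementary group of order nine inverted by a square acts trivially on a space of order at most sixty-four
-/

set_option autoImplicit false

namespace CfsgLib.LargeFischer.Eigen

variable {W : Type*} [AddCommGroup W] (N : W → W)

/-- Powers of the scalar of order three. -/
def npow (i : ZMod 3) : W → W := N^[i.val]

variable {N} (h2 : ∀ v : W, v + v = 0) (hadd : ∀ u v : W, N (u + v) = N u + N v)
  (hq : ∀ v : W, N (N v) = v + N v)

include h2 hadd hq

theorem three (v : W) : N (N (N v)) = v := by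
  rw [hq v, hadd, hq v, add_comm v, ← add_assoc, h2, zero_add]

theorem npow_add (i j : ZMod 3) (v : W) : npow N i (npow N j v) = npow N (i + j) v := by
  fin_cases i <;> fin_cases j <;> simp [npow, Function.iterate_succ_apply', three h2 hadd hq] <;>
    simp [ZMod.val, Function.iterate_succ_apply', three h2 hadd hq] <;>
    rfl

theorem npow_hom (i : ZMod 3) (u v : W) : npow N i (u + v) = npow N i u + npow N i v := by
  unfold npow
  generalize i.val = k
  induction k with
  | zero => rfl
  | succ k ih => rw [Function.iterate_succ_apply', Function.iterate_succ_apply', Function.iterate_succ_apply', ih, hadd]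

theorem npow_zero_vec (i : ZMod 3) : npow N i (0 : W) = 0 := by
  have h := npow_hom h2 hadd hq i (0 : W) 0
  rw [add_zero] at h
  exact left_eq_add.1 h

theorem npow_sum (k : ZMod 3) (v : W) :
    v + npow N k v + npow N (k + k) v = if k = 0 then v else 0 := by
  have hk : ∀ k : ZMod 3, k = 0 ∨ k = 1 ∨ k = 2 := by decide
  rcases hk k with rfl | rfl | rfl
  · rw [add_zero, if_pos rfl]
    show v + v + v = v
    rw [h2, zero_add]
  · rw [if_neg (by decide)]
    show v + N v + N (N v) = 0
    rw [hq, h2]
  · rw [if_neg (by decide)]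
    show v + N (N v) + N v = 0
    rw [hq, add_assoc v (v + N v), add_assoc v (N v), h2 (N v), add_zero, h2]

variable {A B T : W → W} (hA : ∀ u v, A (u + v) = A u + A v) (hB : ∀ u v, B (u + v) = B u + B v)
  (hT : ∀ u v, T (u + v) = T u + T v) (hTi : Function.Injective T)
  (hAN : ∀ v, A (N v) = N (A v)) (hBN : ∀ v, B (N v) = N (B v)) (hTN : ∀ v, T (N v) = N (T v))
  (hAB : ∀ v, A (B v) = B (A v)) (hA3 : ∀ v, A (A (A v)) = v) (hB3 : ∀ v, B (B (B v)) = v)
  (hAT : ∀ v, A (T v) = T (B v)) (hBT : ∀ v, B (T v) = T (A (A v)))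

omit h2 hadd hq in
theorem comm_npow {F : W → W} (hFN : ∀ v, F (N v) = N (F v)) (i : ZMod 3) (v : W) :
    F (npow N i v) = npow N i (F v) := by
  unfold npow
  generalize i.val = k
  induction k with
  | zero => rfl
  | succ k ih => rw [Function.iterate_succ_apply', Function.iterate_succ_apply', hFN, ih]

/-- The projection on an eigenspace. -/
def proj (N F : W → W) (i : ZMod 3) (v : W) : W := v + npow N (-i) (F v) + npow N (-i + -i) (F (F v))

omit h2 hadd hq in
theorem proj_def (F : W → W) (i : ZMod 3) (v : W) :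
    proj N F i v = v + npow N (-i) (F v) + npow N (-i + -i) (F (F v)) := rfl

theorem proj_add {F : W → W} (hF : ∀ u v, F (u + v) = F u + F v) (i : ZMod 3) (u v : W) :
    proj N F i (u + v) = proj N F i u + proj N F i v := by
  simp only [proj_def, hF, npow_hom h2 hadd hq]
  abel

theorem proj_eigen {F : W → W} (hFN : ∀ v, F (N v) = N (F v)) {i k : ZMod 3} {v : W} (hv : F v = npow N k v) :
    proj N F i v = if k = i then v else 0 := by
  rw [proj_def, hv, comm_npow hFN, hv, npow_add h2 hadd hq, npow_add h2 hadd hq, npow_add h2 hadd hq,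
    show -i + -i + k + k = (-i + k) + (-i + k) by ring, npow_sum h2 hadd hq]
  by_cases h : k = i
  · rw [if_pos h, if_pos (by rw [h, neg_add_cancel])]
  · rw [if_neg h, if_neg (fun e => h (by linear_combination e))]

theorem eigen_proj {F : W → W} (hF : ∀ u v, F (u + v) = F u + F v) (hFN : ∀ v, F (N v) = N (F v))
    (hF3 : ∀ v, F (F (F v)) = v) (i : ZMod 3) (v : W) : F (proj N F i v) = npow N i (proj N F i v) := by
  simp only [proj_def, hF, comm_npow hFN, hF3, npow_hom h2 hadd hq, npow_add h2 hadd hq]
  rw [add_neg_cancel, show i + (-i + -i) = -i by ring, show -i + -i = i from by revert i; decide]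
  simp [npow]
  abel

theorem proj_total (F : W → W) (v : W) : proj N F 0 v + proj N F 1 v + proj N F 2 v = v := by
  have hz : ∀ w : W, npow N 0 w + npow N 1 w + npow N 2 w = 0 := fun w => by
    show w + N w + N (N w) = 0
    rw [hq, h2]
  simp only [proj_def]
  rw [show (-0 : ZMod 3) = 0 by decide, show (-1 : ZMod 3) = 2 by decide, show (-2 : ZMod 3) = 1 by decide,
    show (0 + 0 : ZMod 3) = 0 by decide, show (2 + 2 : ZMod 3) = 1 by decide, show (1 + 1 : ZMod 3) = 2 by decide]
  calc _ = (v + v + v) + (npow N 0 (F v) + npow N 1 (F v) + npow N 2 (F v)) +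
        (npow N 0 (F (F v)) + npow N 1 (F (F v)) + npow N 2 (F (F v))) := by abel
    _ = v := by rw [hz, hz, add_zero, add_zero, h2, zero_add]

include hA hB hT hTi hAN hBN hTN hAB hA3 hB3 hAT hBT

theorem eq_self [Finite W] (hcard : Nat.card W ≤ 64) (v : W) : A v = v := by
  classical
  by_contra hv
  obtain ⟨i, hi, hi0⟩ : ∃ i : ZMod 3, proj N A i v ≠ 0 ∧ i ≠ 0 := by
    by_contra h
    simp only [not_exists, not_and, not_not] at h
    have h1 : proj N A 1 v = 0 := by_contra fun e => absurd (h 1 e) (by decide)
    have h3 : proj N A 2 v = 0 := by_contra fun e => absurd (h 2 e) (by decide)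
    have ht := proj_total h2 hadd hq A v
    rw [h1, h3, add_zero, add_zero] at ht
    have he := eigen_proj h2 hadd hq hA hAN hA3 0 v
    rw [ht] at he
    exact hv (he.trans (by simp [npow]))
  set w := proj N A i v
  have hwA : A w = npow N i w := eigen_proj h2 hadd hq hA hAN hA3 i v
  obtain ⟨j, hj⟩ : ∃ j : ZMod 3, proj N B j w ≠ 0 := by
    by_contra h
    simp only [not_exists, not_not] at h
    have ht := proj_total h2 hadd hq B w
    rw [h, h, h, add_zero, add_zero] at ht
    exact hi ht.symm
  set u := proj N B j w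
  have huB : B u = npow N j u := eigen_proj h2 hadd hq hB hBN hB3 j w
  have huA : A u = npow N i u := by
    show A (proj N B j w) = npow N i (proj N B j w)
    simp only [proj_def, hA, comm_npow hAN, hAB, hwA, comm_npow hBN, npow_hom h2 hadd hq,
      npow_add h2 hadd hq, add_comm i]
  let pt : Fin 4 → W := ![u, T u, T (T u), T (T (T u))]
  let ch : Fin 4 → ZMod 3 × ZMod 3 := ![(i, j), (j, -i), (-i, -j), (-j, i)]
  have step : ∀ (y : W) (a b : ZMod 3), A y = npow N a y → B y = npow N b y →
      A (T y) = npow N b (T y) ∧ B (T y) = npow N (-a) (T y) := by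
    intro y a b ha hb
    refine ⟨by rw [hAT, hb, comm_npow hTN], ?_⟩
    rw [hBT, ha, comm_npow hAN, ha, npow_add h2 hadd hq, comm_npow hTN,
      (by decide : ∀ a : ZMod 3, a + a = -a) a]
  have hch : ∀ k, A (pt k) = npow N (ch k).1 (pt k) ∧ B (pt k) = npow N (ch k).2 (pt k) := by
    have s1 := step u i j huA huB
    have s2 := step _ _ _ s1.1 s1.2
    have s3 := step _ _ _ s2.1 s2.2
    intro k
    fin_cases k
    · exact ⟨huA, huB⟩
    · exact s1
    · exact s2
    · simpa [pt, ch] using s3
  have hT0 : T 0 = 0 := by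
    have h := hT 0 0
    rw [add_zero] at h
    exact left_eq_add.1 h
  have hne : ∀ y : W, y ≠ 0 → T y ≠ 0 := fun y hy e => hy (hTi (e.trans hT0.symm))
  have hpt : ∀ k, pt k ≠ 0 := by
    intro k
    fin_cases k
    exacts [hj, hne _ hj, hne _ (hne _ hj), hne _ (hne _ (hne _ hj))]
  have hdist : Function.Injective ch := by
    have hd : ∀ i j : ZMod 3, i ≠ 0 → Function.Injective ![(i, j), (j, -i), (-i, -j), (-j, i)] := by decide
    exact hd i j hi0
  let val : Bool × Bool → W → W := fun c y => (cond c.1 y 0) + (cond c.2 (N y) 0)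
  let f : (Fin 4 → Bool × Bool) → W := fun c => ∑ k, val (c k) (pt k)
  let P : Fin 4 → W → W := fun l y => proj N B (ch l).2 (proj N A (ch l).1 y)
  have hP0 : ∀ l y y', P l (y + y') = P l y + P l y' := fun l y y' => by
    simp only [P, proj_add h2 hadd hq hA, proj_add h2 hadd hq hB]
  have hval : ∀ (F : W → W), (∀ a b, F (a + b) = F a + F b) → (∀ a, F (N a) = N (F a)) → ∀ (k : ZMod 3) y,
      F y = npow N k y → ∀ c, F (val c y) = npow N k (val c y) := by
    intro F hF hFN k y hy c
    have hF0 : F 0 = 0 := by
      have h := hF 0 0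
      rw [add_zero] at h
      exact left_eq_add.1 h
    obtain ⟨c1, c2⟩ := c
    cases c1 <;> cases c2 <;>
      simp [val, hF, hF0, hFN, hy, npow_zero_vec h2 hadd hq, npow_hom h2 hadd hq,
        comm_npow (F := N) (fun _ => rfl)]
  have hP : ∀ l k c, P l (val c (pt k)) = if k = l then val c (pt k) else 0 := by
    intro l k c
    simp only [P]
    rw [proj_eigen h2 hadd hq hAN (hval A hA hAN _ _ (hch k).1 c)]
    by_cases hkl : k = l
    · subst hkl
      rw [if_pos rfl, if_pos rfl, proj_eigen h2 hadd hq hBN (hval B hB hBN _ _ (hch k).2 c), if_pos rfl]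
    · rw [if_neg hkl]
      have hz : ∀ (F : W → W) (m : ZMod 3), (∀ a b, F (a + b) = F a + F b) → proj N F m (0 : W) = 0 := by
        intro F m hF
        have h := proj_add h2 hadd hq hF m (0 : W) 0
        rw [add_zero] at h
        exact left_eq_add.1 h
      by_cases h1 : (ch k).1 = (ch l).1
      · rw [if_pos h1, proj_eigen h2 hadd hq hBN (hval B hB hBN _ _ (hch k).2 c),
          if_neg fun h2' => hkl (hdist (Prod.ext h1 h2'))]
      · rw [if_neg h1, hz B _ hB]
  have hf : Function.Injective f := by
    intro c c' e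
    funext l
    have key : ∀ c : Fin 4 → Bool × Bool, P l (f c) = val (c l) (pt l) := fun c => by
      let Ph : W →+ W := AddMonoidHom.mk' (P l) (hP0 l)
      calc P l (f c) = Ph (∑ k, val (c k) (pt k)) := rfl
        _ = ∑ k, P l (val (c k) (pt k)) := map_sum Ph _ _
        _ = val (c l) (pt l) := by simp [hP]
    have h := (key c).symm.trans ((congrArg (P l) e).trans (key c'))
    have hy := hpt l
    have hN00 : N (0 : W) = 0 := by
      have h := hadd 0 0
      rw [add_zero] at h
      exact left_eq_add.1 h
    have hN0 : N (pt l) ≠ 0 := fun e => hy (by rw [← three h2 hadd hq (pt l), e, hN00, hN00])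
    have hNy : N (pt l) ≠ pt l := fun e => hy (by
      have := hq (pt l)
      rw [e, e, h2] at this
      exact this)
    revert h
    generalize c l = a
    generalize c' l = b
    have hsum : pt l + N (pt l) ≠ 0 := fun e => hNy (by
      calc N (pt l) = pt l + (pt l + N (pt l)) := by rw [← add_assoc, h2, zero_add]
        _ = pt l := by rw [e, add_zero])
    rcases a with ⟨_ | _, _ | _⟩ <;> rcases b with ⟨_ | _, _ | _⟩ <;>
      simp [val, hy, hN0, hNy, hsum, Ne.symm hy, Ne.symm hN0, Ne.symm hNy, Ne.symm hsum]
  have h256 := Nat.card_le_card_of_injective f hf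
  rw [Nat.card_fun, Nat.card_prod, Nat.card_eq_fintype_card (α := Bool), Nat.card_eq_fintype_card (α := Fin 4),
    Fintype.card_bool, Fintype.card_fin] at h256
  omega

end CfsgLib.LargeFischer.Eigen
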