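import Cfsg.Agent.Lib.LargeFischer.FourCent.Tri
import Cfsg.Agent.Lib.U6Central.Quasi

/-!
# The four-group of a triangle: its place in `Q` and the shape of its centraliser
-/

set_option autoImplicit false
set_option linter.unusedSectionVars false
set_option linter.style.haveILetI false

namespace CfsgLib.LargeFischer.Thompson

open Subgroup QuadraticMap
open CfsgLib.Schur.Tails.UFour (H4)

variable {G : Type*} [Group G] [Finite G] {z : G}
  {Q : Subgroup (centralizer ({z} : Set G))} [Q.Normal] {V : Type*} [AddCommGroup V] [Module (ZMod 2) V]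
  [DistribMulAction ((centralizer ({z} : Set G)) ⧸ Q) V] [Finite V] {q : QuadraticForm (ZMod 2) V} {π : ↥Q → V}
  {n : (centralizer ({z} : Set G)) ⧸ Q} {M : Subgroup ((centralizer ({z} : Set G)) ⧸ Q)} {φ : ↥M →* ↥H4}
  {s : V} {E : Subgroup ((centralizer ({z} : Set G)) ⧸ Q)} {D : AddSubgroup V}
  {A : Subgroup G} {Ab : Subgroup ((centralizer ({z} : Set G)) ⧸ Q)}
  {T : Fin 6 → V} {f : P24 → G}

namespace Frame

variable (c : Ctx Q q π n M φ s E D A Ab) (F : Frame π n Ab s A T f)
include c F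

theorem mem_val {i : Fin 6} {a b : Fin 4} (h : a ≠ b) :
    f (i, a) * f (i, b) ∈ Q.map (centralizer ({z} : Set G)).subtype ∧ f (i, a) * f (i, b) ≠ 1 := by
  obtain ⟨u, hu, hu0, -⟩ := F.inner_pi i a b h
  refine ⟨hu ▸ ⟨_, u.2, rfl⟩, fun e => ?_⟩
  refine hu0 ?_
  have hu1 : u = 1 := Subtype.ext (Subtype.ext (hu.trans e))
  have h0 := c.mdl.pi_mul 1 1
  rw [mul_one] at h0
  rw [hu1]
  exact add_eq_left.1 h0.symm

theorem tri_le_Q : tri f ≤ Q.map (centralizer ({z} : Set G)).subtype := by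
  rw [tri, closure_le]
  rintro x (rfl | rfl)
  · exact (F.mem_val c (i := 0) (a := 1) (b := 2) (by decide)).1
  · exact (F.mem_val c (i := 0) (a := 2) (b := 3) (by decide)).1

theorem tri_elem : Cfsg.IsElementaryAbelian 2 (tri f) :=
  ⟨⟨⟨fun a b => Subtype.ext (c.comm (F.tri_le c a.2) (F.tri_le c b.2))⟩⟩,
    fun a ha => c.elem.2 a (F.tri_le c ha)⟩

theorem tri_card : Nat.card ↥(tri f) = 4 := by
  classical
  have h12 := (F.mem_val c (i := 0) (a := 1) (b := 2) (by decide)).2
  have h23 := (F.mem_val c (i := 0) (a := 2) (b := 3) (by decide)).2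
  have h13 := (F.mem_val c (i := 0) (a := 1) (b := 3) (by decide)).2
  set a := f ((0 : Fin 6), (1 : Fin 4)) with ha
  set b := f ((0 : Fin 6), (2 : Fin 4)) with hb
  set e := f ((0 : Fin 6), (3 : Fin 4)) with he
  have haa : a * a = 1 := F.sq c _
  have hbb : b * b = 1 := F.sq c _
  have hee : e * e = 1 := F.sq c _
  have hab : a * b = b * a := F.commute c _ _
  have hbe : b * e = e * b := F.commute c _ _
  have key : ∀ {x y : G}, x * y ≠ 1 → y * y = 1 → x ≠ y := fun h h' e => h (by rw [e, h'])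
  have hac : a ≠ e := key h13 hee
  have hs : (tri f : Set G) = {1, a * b, b * e, a * e} := by
    ext x
    simp only [SetLike.mem_coe, F.mem_tri c, Set.mem_insert_iff, Set.mem_singleton_iff]
    rw [ha, hb, he]
  show Nat.card ↥((tri f : Set G)) = 4
  rw [Nat.card_coe_set_eq, hs, Set.ncard_eq_toFinset_card']
  have hne : a * b ≠ b * e := fun h => hac (mul_left_cancel (a := b) (hab.symm.trans h))
  have hne' : a * b ≠ a * e := fun h => key h23 hee (mul_left_cancel h)
  have hne'' : b * e ≠ a * e := fun h => key h12 hbb (mul_right_cancel h).symm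
  simp [Ne.symm h12, Ne.symm h23, Ne.symm h13, hne, hne', hne'']

/-- The centraliser of the four-group, from its local data. -/
theorem triC_spec {d : TriQ f} (hc : Nonempty (CfsgLib.U6Central.Central d F4))
    (hd : tri f ≤ (commutator ↥(triC f)).map (triC f).subtype) :
    Cfsg.IsQuasisimple ↥(triC f) ∧ Nonempty (TriQ f ≃* Cfsg.PSU 6 F4 2) := by
  obtain ⟨hc⟩ := hc
  obtain ⟨e⟩ := CfsgLib.U6Central.iso hc
  refine ⟨CfsgLib.U6Central.isQuasisimple_of_six card_F4' _ (fun x hx => ?_) (fun x hx => ?_) e, ⟨e⟩⟩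
  · exact mem_center_iff.2 fun g => Subtype.ext (mem_centralizer_iff.1 g.2 (x : G) hx).symm
  · obtain ⟨y, hy, hyx⟩ := mem_map.1 (hd hx)
    rwa [← show y = x from Subtype.ext hyx]

/-- All the assertions, from the two deep ones. -/
theorem four_group {d : TriQ f} (hc : Nonempty (CfsgLib.U6Central.Central d F4))
    (hd : tri f ≤ (commutator ↥(triC f)).map (triC f).subtype) :
    ∃ E : Subgroup G, E ≤ Q.map (centralizer ({z} : Set G)).subtype ∧ Cfsg.IsElementaryAbelian 2 E ∧
      Nat.card E = 4 ∧ z ∉ E ∧ (∃ t ∈ E, orderOf t = 2 ∧ ¬ IsConj z t) ∧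
      Cfsg.IsQuasisimple ↥(centralizer (E : Set G)) ∧
      ∃ (_ : (E.subgroupOf (centralizer (E : Set G))).Normal) (K : Type) (_ : Field K) (_ : Fintype K),
        Fintype.card K = 4 ∧
          Nonempty (↥(centralizer (E : Set G)) ⧸ E.subgroupOf (centralizer (E : Set G)) ≃* Cfsg.PSU 6 K 2) := by
  obtain ⟨hq, hiso⟩ := F.triC_spec c hc hd
  have ht : f (0, 1) * f (0, 2) ∈ tri f := subset_closure (Set.mem_insert _ _)
  refine ⟨tri f, F.tri_le_Q c, F.tri_elem c, F.tri_card c, F.z_notMem c, ⟨_, ht, ?_, F.tri_not_conj c ht⟩, hq,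
    tri_normal f, F4, inferInstance, inferInstance, card_F4'.trans (by norm_num), hiso⟩
  exact orderOf_eq_prime ((F.tri_elem c).2 _ ht) (F.mem_val c (i := 0) (a := 1) (b := 2) (by decide)).2

end Frame

end CfsgLib.LargeFischer.Thompson
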