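import Cfsg.Agent.Lib.LargeFischer.U43Norm

/-!
# The two classes of elementary groups of order sixteen differ in their fixed points
-/

set_option autoImplicit false
set_option maxRecDepth 100000

namespace CfsgLib.LargeFischer.U43

open CfsgLib.LeechPSU CfsgLib.Schur.Tails.UFour CfsgLib.TailsData

/-- The number of points fixed by the members of a mask. -/
noncomputable def fixNum (m : ℕ) : ℕ :=
  (rng.filter fun x => (members m).all fun e => Nat.beq (fieldAt (el (iI e)) x) x).length

/-- The members of a mask commute and differ. -/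
noncomputable def goodB (m : ℕ) : Bool :=
  Nat.beq (members m).length 15 && (members m).all fun a => (members m).all fun b => commB (iI a) (iI b)

theorem good_ok : goodB aMask = true ∧ goodB bMask = true := by
  constructor <;> decide +kernel

theorem fixNum_ne : Nat.beq (fixNum aMask) (fixNum bMask) = false := by decide +kernel

/-- The number of points fixed by a subgroup. -/
noncomputable def fixCount (E : Subgroup ↥H4) : ℕ :=
  {x : Fin 126 | ∀ σ ∈ E, (σ : Equiv.Perm (Fin 126)) x = x}.ncard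

theorem fixCount_map (E : Subgroup ↥H4) (g : ↥H4) :
    fixCount (E.map (MulAut.conj g).toMonoidHom) = fixCount E := by
  have e : {x : Fin 126 | ∀ σ ∈ E.map (MulAut.conj g).toMonoidHom, (σ : Equiv.Perm (Fin 126)) x = x} =
      (g : Equiv.Perm (Fin 126)) '' {x : Fin 126 | ∀ σ ∈ E, (σ : Equiv.Perm (Fin 126)) x = x} := by
    ext x
    obtain ⟨y, rfl⟩ := (g : Equiv.Perm (Fin 126)).surjective x
    rw [(g : Equiv.Perm (Fin 126)).injective.mem_set_image]
    constructor
    · intro h σ hσ
      have h1 := h (g * σ * g⁻¹) ⟨σ, hσ, rfl⟩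
      simpa [Equiv.Perm.mul_apply] using h1
    · rintro h _ ⟨σ, hσ, rfl⟩
      show ((g * σ * g⁻¹ : ↥H4) : Equiv.Perm (Fin 126)) _ = _
      simp only [Subgroup.coe_mul, Subgroup.coe_inv, Equiv.Perm.mul_apply]
      simp [h σ hσ]
  rw [fixCount, fixCount, e, Set.ncard_image_of_injective _ (g : Equiv.Perm (Fin 126)).injective]

theorem fixCount_mask {m : ℕ} {E : Subgroup ↥H4} (hM : IsMask m E) : fixCount E = fixNum m := by
  classical
  obtain ⟨-, -, -, hIe, -⟩ := ranges
  have e : {x : Fin 126 | ∀ σ ∈ E, (σ : Equiv.Perm (Fin 126)) x = x} =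
      {x : Fin 126 | ((members m).all fun e => Nat.beq (fieldAt (el (iI e)) x.val) x.val) = true} := by
    ext x
    simp only [Set.mem_setOf_eq, List.all_eq_true, Nat.beq_eq, members, List.mem_filter, List.mem_range]
    constructor
    · rintro h a ⟨ha, hb⟩
      have h1 := congrArg Fin.val (h (iP a) ((hM _).2 (.inr ⟨a, ha, hb, rfl⟩)))
      rwa [iP, code_E (hIe a ha)] at h1
    · intro h σ hσ
      rcases (hM σ).1 hσ with rfl | ⟨a, ha, hb, rfl⟩
      · rfl
      · refine Fin.ext ?_
        rw [iP, code_E (hIe a ha)]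
        exact h a ⟨ha, hb⟩
  rw [fixCount, e, fixNum, rng]
  rw [← List.toFinset_card_of_nodup (List.nodup_range.filter _), Set.ncard_eq_toFinset_card']
  refine Finset.card_bij (fun x _ => x.val) ?_ (fun a _ b _ h => Fin.ext h) ?_
  · intro x hx
    simp only [Set.mem_toFinset, Set.mem_setOf_eq] at hx
    simp only [List.mem_toFinset, List.mem_filter, List.mem_range]
    exact ⟨x.isLt, hx⟩
  · intro k hk
    simp only [List.mem_toFinset, List.mem_filter, List.mem_range] at hk
    exact ⟨⟨k, hk.1⟩, by simpa [Set.mem_toFinset] using hk.2, rfl⟩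

theorem exists_mask {m : ℕ} (hg : goodB m = true) :
    ∃ E : Subgroup ↥H4, E ≤ TG ∧ Cfsg.IsElementaryAbelian 2 E ∧ 16 ≤ Nat.card E ∧
      ∀ a < 35, m.testBit a = true → iP a ∈ E := by
  classical
  obtain ⟨-, -, -, hIe, -⟩ := ranges
  simp only [goodB, Bool.and_eq_true, List.all_eq_true, Nat.beq_eq, Bool.or_eq_true] at hg
  obtain ⟨hlen, hg⟩ := hg
  have hlt : ∀ a ∈ members m, a < 35 := fun a ha => by
    simp only [members, List.mem_filter, List.mem_range] at ha
    exact ha.1
  let E := Subgroup.closure {σ : ↥H4 | ∃ a ∈ members m, iP a = σ}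
  have hcomm : IsMulCommutative ↥E := Subgroup.isMulCommutative_closure (by
    rintro _ ⟨a, ha, rfl⟩ _ ⟨b, hb, rfl⟩
    exact ((comm_spec (hIe a (hlt a ha)) (hIe b (hlt b hb))).1 (hg a ha b hb)).eq)
  have hsq : ∀ a ∈ members m, iP a * iP a = 1 := fun a ha => (iP_facts (hlt a ha)).2.2
  have he : Cfsg.IsElementaryAbelian 2 E := by
    refine ⟨hcomm, fun σ hσ => ?_⟩
    induction hσ using Subgroup.closure_induction with
    | mem w hw => obtain ⟨a, ha, rfl⟩ := hw; rw [pow_two]; exact hsq a ha
    | one => exact one_pow _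
    | mul w w' hw hw' e e' =>
      have hc : Commute w w' := congrArg Subtype.val (hcomm.is_comm.comm (⟨w, hw⟩ : ↥E) ⟨w', hw'⟩)
      rw [hc.mul_pow, e, e', one_mul]
    | inv w _ e => rw [inv_pow, e, inv_one]
  refine ⟨E, (Subgroup.closure_le _).2 ?_, he, ?_, fun a ha hb => Subgroup.subset_closure
    ⟨a, by simp [members, ha, hb], rfl⟩⟩
  · rintro _ ⟨a, ha, rfl⟩
    exact (iP_facts (hlt a ha)).1
  · have hinj : ∀ a ∈ members m, ∀ b ∈ members m, iP a = iP b → a = b := fun a ha b hb e =>
      iP_inj (hlt a ha) (hlt b hb) e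
    have hne : ∀ a ∈ members m, iP a ≠ 1 := fun a ha => (iP_facts (hlt a ha)).2.1
    have hnd : (members m).Nodup := List.nodup_range.filter _
    have hsub : (↑(insert (1 : ↥H4) ((members m).toFinset.image iP)) : Set ↥H4) ⊆ E := by
      intro σ hσ
      simp only [Finset.coe_insert, Finset.coe_image, Set.mem_insert_iff, Set.mem_image, Finset.mem_coe,
        List.mem_toFinset] at hσ
      rcases hσ with rfl | ⟨a, ha, rfl⟩
      · exact one_mem E
      · exact Subgroup.subset_closure ⟨a, ha, rfl⟩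
    have h1 := Set.ncard_le_ncard hsub (Set.toFinite _)
    rw [Set.ncard_coe_finset, Finset.card_insert_of_notMem (by
        simp only [Finset.mem_image, List.mem_toFinset, not_exists, not_and]
        exact fun a ha => hne a ha),
      Finset.card_image_of_injOn (fun a ha b hb e => hinj a (List.mem_toFinset.1 ha) b (List.mem_toFinset.1 hb) e),
      List.toFinset_card_of_nodup hnd, hlen, ← Nat.card_coe_set_eq] at h1
    exact h1

theorem count_cases {E : Subgroup ↥H4} (he : Cfsg.IsElementaryAbelian 2 E) (h16 : 16 ≤ Nat.card E) :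
    fixCount E = fixNum aMask ∨ fixCount E = fixNum bMask := by
  have hp : IsPGroup 2 ↥E := fun x => ⟨1, Subtype.ext (by simpa using he.2 x x.2)⟩
  obtain ⟨g, hg⟩ := exists_conj_le hp
  have he' : Cfsg.IsElementaryAbelian 2 (E.map (MulAut.conj g).toMonoidHom) := by
    refine ⟨⟨⟨?_⟩⟩, ?_⟩
    · rintro ⟨_, x, hx, rfl⟩ ⟨_, y, hy, rfl⟩
      refine Subtype.ext ?_
      show (MulAut.conj g) x * (MulAut.conj g) y = (MulAut.conj g) y * (MulAut.conj g) x
      rw [← map_mul, ← map_mul, show x * y = y * x from congrArg Subtype.val (he.1.is_comm.comm (⟨x, hx⟩ : ↥E) ⟨y, hy⟩)]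
    · rintro _ ⟨x, hx, rfl⟩
      rw [← map_pow, he.2 x hx, map_one]
  obtain ⟨m, hm, hM⟩ := elementary_sylow hg he' (by
    rw [Subgroup.card_map_of_injective (f := (MulAut.conj g).toMonoidHom) (MulEquiv.injective _)]; exact h16)
  rw [← fixCount_map E g, fixCount_mask hM]
  rcases hm with rfl | rfl
  exacts [.inl rfl, .inr rfl]

theorem exists_of_count {m : ℕ} (hm : m = aMask ∨ m = bMask) :
    ∃ E : Subgroup ↥H4, Cfsg.IsElementaryAbelian 2 E ∧ Nat.card E = 16 ∧ fixCount E = fixNum m := by
  obtain ⟨E, hle, he, h16, hmem⟩ := exists_mask (m := m) (by rcases hm with rfl | rfl; exacts [good_ok.1, good_ok.2])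
  obtain ⟨m', hm', hM⟩ := elementary_sylow hle he h16
  refine ⟨E, he, (elementary_facts he h16).1, ?_⟩
  rw [fixCount_mask hM]
  have hsub : ∀ a < 35, m.testBit a = true → m'.testBit a = true := fun a ha hb => by
    rcases (hM _).1 (hmem a ha hb) with e | ⟨a', ha', hb', e⟩
    · exact absurd e (iP_facts ha).2.1
    · rwa [iP_inj ha' ha e] at hb'
  have h15 : ∀ k, k = aMask ∨ k = bMask → (members k).length = 15 := by
    rintro k (rfl | rfl)
    · have := good_ok.1; simp only [goodB, Bool.and_eq_true, Nat.beq_eq] at this; exact this.1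
    · have := good_ok.2; simp only [goodB, Bool.and_eq_true, Nat.beq_eq] at this; exact this.1
  have hs : (members m).Sublist (members m') := by
    have : members m = (members m').filter fun a => m.testBit a := by
      rw [members, members, List.filter_filter]
      refine List.filter_congr fun a ha => ?_
      rw [List.mem_range] at ha
      by_cases hb : m.testBit a = true
      · simp [hb, hsub a ha hb]
      · simp [hb]
    rw [this]
    exact List.filter_sublist
  have heq : members m = members m' := hs.eq_of_length (by rw [h15 m hm, h15 m' hm'])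
  rw [fixNum, fixNum, heq]

/-- Another class than the given one. -/
theorem exists_other (E₀ : Subgroup ↥H4) :
    ∃ E : Subgroup ↥H4, Cfsg.IsElementaryAbelian 2 E ∧ Nat.card E = 16 ∧ fixCount E ≠ fixCount E₀ := by
  by_cases h : fixCount E₀ = fixNum aMask
  · obtain ⟨E, h1, h2, h3⟩ := exists_of_count (m := bMask) (.inr rfl)
    exact ⟨E, h1, h2, fun e => Nat.ne_of_beq_eq_false fixNum_ne (h.symm.trans (e.symm.trans h3))⟩
  · obtain ⟨E, h1, h2, h3⟩ := exists_of_count (m := aMask) (.inl rfl)
    exact ⟨E, h1, h2, fun e => h (e.symm.trans h3)⟩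

/-- Members of one class are conjugate. -/
theorem conj_of_count {E E' : Subgroup ↥H4} (he : Cfsg.IsElementaryAbelian 2 E) (he' : Cfsg.IsElementaryAbelian 2 E')
    (h16 : 16 ≤ Nat.card E) (h16' : 16 ≤ Nat.card E') (hsame : fixCount E = fixCount E') :
    ∃ g : ↥H4, E.map (MulAut.conj g).toMonoidHom = E' := by
  have hmap : ∀ F : Subgroup ↥H4, Cfsg.IsElementaryAbelian 2 F → 16 ≤ Nat.card F →
      ∃ g : ↥H4, ∃ m, (m = aMask ∨ m = bMask) ∧ IsMask m (F.map (MulAut.conj g).toMonoidHom) := by
    intro F hFe hF16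
    obtain ⟨g, hg⟩ := exists_conj_le (E := F) (fun x => ⟨1, Subtype.ext (by simpa using hFe.2 x x.2)⟩)
    refine ⟨g, elementary_sylow hg ⟨⟨⟨?_⟩⟩, ?_⟩ (by
      rw [Subgroup.card_map_of_injective (f := (MulAut.conj g).toMonoidHom) (MulEquiv.injective _)]; exact hF16)⟩
    · rintro ⟨_, x, hx, rfl⟩ ⟨_, y, hy, rfl⟩
      refine Subtype.ext ?_
      show (MulAut.conj g) x * (MulAut.conj g) y = (MulAut.conj g) y * (MulAut.conj g) x
      rw [← map_mul, ← map_mul, show x * y = y * x from congrArg Subtype.val (hFe.1.is_comm.comm (⟨x, hx⟩ : ↥F) ⟨y, hy⟩)]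
    · rintro _ ⟨x, hx, rfl⟩
      rw [← map_pow, hFe.2 x hx, map_one]
  obtain ⟨g, m, hm, hM⟩ := hmap E he h16
  obtain ⟨g', m', hm', hM'⟩ := hmap E' he' h16'
  have hmm : m = m' := by
    rw [← fixCount_map E g, ← fixCount_map E' g', fixCount_mask hM, fixCount_mask hM'] at hsame
    have hne : fixNum aMask ≠ fixNum bMask := Nat.ne_of_beq_eq_false fixNum_ne
    rcases hm with rfl | rfl <;> rcases hm' with rfl | rfl
    exacts [rfl, absurd hsame hne, absurd hsame.symm hne, rfl]
  subst hmm
  have e : E.map (MulAut.conj g).toMonoidHom = E'.map (MulAut.conj g').toMonoidHom :=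
    SetLike.ext fun σ => (hM σ).trans (hM' σ).symm
  refine ⟨g'⁻¹ * g, ?_⟩
  have h : (E'.map (MulAut.conj g').toMonoidHom).map (MulAut.conj g'⁻¹).toMonoidHom = E' := by
    rw [Subgroup.map_map]
    convert Subgroup.map_id E'
    ext x
    simp [mul_assoc]
  rw [← h, ← e, Subgroup.map_map, map_mul]
  rfl

/-- A two-group has at most one member of the class other than the given one. -/
theorem unique_other {E₀ E E' P : Subgroup ↥H4} (h0 : Cfsg.IsElementaryAbelian 2 E₀) (h016 : 16 ≤ Nat.card E₀)
    (hP : IsPGroup 2 ↥P) (hE : E ≤ P) (hE' : E' ≤ P)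
    (he : Cfsg.IsElementaryAbelian 2 E) (he' : Cfsg.IsElementaryAbelian 2 E') (h16 : 16 ≤ Nat.card E)
    (h16' : 16 ≤ Nat.card E') (hn : fixCount E ≠ fixCount E₀) (hn' : fixCount E' ≠ fixCount E₀) : E = E' := by
  have hsame : fixCount E = fixCount E' := by
    rcases count_cases he h16 with e | e <;> rcases count_cases he' h16' with e' | e' <;>
      rcases count_cases h0 h016 with e0 | e0 <;> omega
  obtain ⟨g, hg⟩ := exists_conj_le hP
  have hmap : ∀ F : Subgroup ↥H4, F ≤ P → Cfsg.IsElementaryAbelian 2 F → 16 ≤ Nat.card F →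
      ∃ m, (m = aMask ∨ m = bMask) ∧ IsMask m (F.map (MulAut.conj g).toMonoidHom) := by
    intro F hF hFe hF16
    refine elementary_sylow ((Subgroup.map_mono hF).trans hg) ⟨⟨⟨?_⟩⟩, ?_⟩ (by
      rw [Subgroup.card_map_of_injective (f := (MulAut.conj g).toMonoidHom) (MulEquiv.injective _)]; exact hF16)
    · rintro ⟨_, x, hx, rfl⟩ ⟨_, y, hy, rfl⟩
      refine Subtype.ext ?_
      show (MulAut.conj g) x * (MulAut.conj g) y = (MulAut.conj g) y * (MulAut.conj g) x
      rw [← map_mul, ← map_mul, show x * y = y * x from congrArg Subtype.val (hFe.1.is_comm.comm (⟨x, hx⟩ : ↥F) ⟨y, hy⟩)]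
    · rintro _ ⟨x, hx, rfl⟩
      rw [← map_pow, hFe.2 x hx, map_one]
  obtain ⟨m, hm, hM⟩ := hmap E hE he h16
  obtain ⟨m', hm', hM'⟩ := hmap E' hE' he' h16'
  have hmm : m = m' := by
    rw [← fixCount_map E g, ← fixCount_map E' g, fixCount_mask hM, fixCount_mask hM'] at hsame
    have hne : fixNum aMask ≠ fixNum bMask := Nat.ne_of_beq_eq_false fixNum_ne
    rcases hm with rfl | rfl <;> rcases hm' with rfl | rfl
    exacts [rfl, absurd hsame hne, absurd hsame.symm hne, rfl]
  subst hmm
  refine Subgroup.map_injective (f := (MulAut.conj g).toMonoidHom) (MulEquiv.injective _) ?_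
  exact SetLike.ext fun σ => (hM σ).trans (hM' σ).symm

end CfsgLib.LargeFischer.U43
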