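import Cfsg.Agent.Lib.LargeFischer.Stab
import Cfsg.Agent.Lib.LargeFischer.U43Class
import Cfsg.Agent.Lib.LargeFischer.Rest

/-!
# The second class of elementary groups of order sixteen and its totally singular fixed space
-/

set_option autoImplicit false
set_option linter.unusedSectionVars false

namespace CfsgLib.LargeFischer

open QuadraticMap
open CfsgLib.Schur.Tails.UFour (H4 card_H4)

/-- The vectors fixed by a subgroup. -/
def fixSub {V : Type*} [AddCommGroup V] {K : Type*} [Group K] [DistribMulAction K V] (A : Subgroup K) :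
    AddSubgroup V where
  carrier := {v | ∀ a ∈ A, a • v = v}
  zero_mem' := fun a _ => smul_zero a
  add_mem' := fun {x y} hx hy a ha => by rw [smul_add, hx a ha, hy a ha]
  neg_mem' := fun {x} hx a ha => by rw [smul_neg, hx a ha]

namespace Core

variable {V : Type*} [AddCommGroup V] [Module (ZMod 2) V] [Finite V]
  {K : Type*} [Group K] [Finite K] [DistribMulAction K V]
  {q : QuadraticForm (ZMod 2) V} {n : K} {M : Subgroup K} {φ : ↥M →* ↥H4} (c : Core q n M φ) {s : V}
  (hs : Central q K s)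

include c hs

theorem smul_ne_zero {v : V} (hv : v ≠ 0) : n • v ≠ 0 := fun e => hv (by rw [← inv_smul_smul n v, e, smul_zero])

theorem fix_line {E : Subgroup K} {D : AddSubgroup V} (hd : CentData q s E D) :
    n • s ∈ D ∧ ∀ d ∈ D, (∀ e ∈ E ⊓ M, e • d = d) → d = 0 ∨ d = s ∨ d = n • s ∨ d = s + n • s := by
  classical
  obtain ⟨-, hD64, h16, hnM⟩ := c.data_cards hd
  have hfixn : ∀ e ∈ E ⊓ M, e • n • s = n • s := fun e he => by
    rw [← mul_smul, c.commute he.2, mul_smul, hd.fix e he.1]
  have hns : n • s ≠ s := c.smul_n_ne hs hs.ne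
  obtain ⟨e1, he1, he1M⟩ := SetLike.not_le_iff_exists.1 hnM
  -- the fixed vectors of `E ⊓ M` in `D` are at most four
  have hF0 : ∀ d ∈ D, ∀ d' ∈ D, (∀ e ∈ E ⊓ M, e • d = d) → (∀ e ∈ E ⊓ M, e • d' = d') →
      d ≠ 0 → d ≠ s → d' = 0 ∨ d' = s ∨ d' = d ∨ d' = d + s := by
    haveI := c.M_normal
    have hall : ∀ d ∈ D, (∀ e ∈ E ⊓ M, e • d = d) → e1 • d = d → d = 0 ∨ d = s := by
      intro d hd1 hd2 h1
      refine hd.fixD d hd1 fun e he => ?_
      by_cases heM : e ∈ M
      · exact hd2 e ⟨he, heM⟩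
      · have hm : e1⁻¹ * e ∈ E ⊓ M := ⟨E.mul_mem (E.inv_mem he1) he,
          (Subgroup.mul_mem_iff_of_index_two c.indexM).2 (by simp [he1M, heM])⟩
        calc e • d = e1 • (e1⁻¹ * e) • d := by rw [← mul_smul, mul_inv_cancel_left]
          _ = d := by rw [hd2 _ hm, h1]
    intro d hdD d' hd'D hf hf' hd0 hds
    have hed : e1 • d = d + s := (hd.move e1 he1 d hdD).resolve_left fun h => (hall d hdD hf h).elim hd0 hds
    rcases hd.move e1 he1 d' hd'D with h | h
    · rcases hall d' hd'D hf' h with e | e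
      · exact .inl e
      · exact .inr (.inl e)
    · have h2 : e1 • (d + d') = d + d' := by
        rw [smul_add, hed, h, add_add_add_comm, vadd_self, add_zero]
      rcases hall _ (D.add_mem hdD hd'D) (fun e he => by rw [smul_add, hf e he, hf' e he]) h2 with e | e
      · exact .inr (.inr (.inl (eq_of_vadd e).symm))
      · exact .inr (.inr (.inr (by rw [← e, ← add_assoc, vadd_self, zero_add])))
  set w := n • n • s with hw
  -- a moved vector orthogonal to `w`
  obtain ⟨d, hd', hwd, hmove⟩ : ∃ d ∈ D, polar q w d = 0 ∧ ∃ e ∈ E ⊓ M, e • d ≠ d := by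
    by_contra h
    simp only [not_exists, not_and, not_not] at h
    let D' : Set V := {d | d ∈ D ∧ polar q w d = 0}
    have hbig : 32 ≤ D'.ncard := by
      let f : ↥D →+ ZMod 2 := AddMonoidHom.mk' (fun d => polar q w (d : V)) fun a b =>
        QuadraticMap.polar_add_right q w (a : V) (b : V)
      have h1 := f.ker.card_mul_index
      rw [AddSubgroup.index_ker, hD64] at h1
      have h2 : Nat.card f.range ≤ 2 :=
        (Nat.card_le_card_of_injective (fun x : f.range => x.1) Subtype.val_injective).trans (Nat.card_zmod 2).le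
      have h3 : Nat.card ↥f.ker ≤ D'.ncard := by
        rw [← Nat.card_coe_set_eq]
        exact Nat.card_le_card_of_injective (fun x => (⟨((x : ↥D) : V), (x : ↥D).2, x.2⟩ : ↥D'))
          fun a b e => Subtype.ext (Subtype.ext (Subtype.mk.inj e))
      nlinarith
    obtain ⟨a, ha, ha'⟩ : ∃ a ∈ D', a ∉ ({0, s} : Set V) := by
      by_contra hh
      simp only [not_exists, not_and, not_not] at hh
      have h1 := Set.ncard_le_ncard (s := D') hh (Set.toFinite _)
      have h2 := Set.ncard_insert_le (0 : V) {s}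
      rw [Set.ncard_singleton] at h2
      omega
    simp only [Set.mem_insert_iff, Set.mem_singleton_iff, not_or] at ha'
    have hsub : D' ⊆ {0, s, a, a + s} := fun x hx => by
      rcases hF0 a ha.1 x hx.1 (h a ha.1 ha.2) (h x hx.1 hx.2) ha'.1 ha'.2 with e | e | e | e <;> simp [e]
    have h1 := Set.ncard_le_ncard hsub (Set.toFinite _)
    have h2 := Set.ncard_insert_le (0 : V) {s, a, a + s}
    have h3 := Set.ncard_insert_le s {a, a + s}
    have h4 := Set.ncard_insert_le a {a + s}
    rw [Set.ncard_singleton] at h4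
    omega
  obtain ⟨e, he, hed'⟩ := hmove
  have hed : e • d = d + s := (hd.move e he.1 d hd').resolve_left hed'
  have hnd : polar q (n • d) s = 0 := by
    rw [← c.smul_n_three s, c.polar_smul, QuadraticMap.polar_comm]
    exact hwd
  have hmem : n • s ∈ D := by
    have h := hd.perp e he.1 (n • d) hnd
    rwa [← mul_smul, c.commute he.2, mul_smul, hed, smul_add, add_comm (n • d) (n • s), add_assoc, vadd_self,
      add_zero] at h
  refine ⟨hmem, fun d hdD hf => ?_⟩
  rcases hF0 (n • s) hmem d hdD hfixn hf (c.smul_ne_zero hs hs.ne) hns with e | e | e | e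
  · exact .inl e
  · exact .inr (.inl e)
  · exact .inr (.inr (.inl e))
  · exact .inr (.inr (.inr (by rw [e, add_comm])))

theorem fixed_E0 {E : Subgroup K} {D : AddSubgroup V} (hd : CentData q s E D) {v : V}
    (hv : ∀ e ∈ E ⊓ M, e • v = v) : v = 0 ∨ v = s ∨ v = n • s ∨ v = s + n • s := by
  classical
  obtain ⟨-, hD64, h16, -⟩ := c.data_cards hd
  obtain ⟨hnsD, hfixD⟩ := c.fix_line hs hd
  have hsing := c.sing_s hd
  obtain ⟨hW, -⟩ := c.line_perp hs hsing hs.ne
  have hv1 : polar q v s = 0 := c.perp_of_fixed hd hv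
  have hv2 : polar q v (n • s) = 0 := by
    have h := c.perp_of_fixed hd (v := n • n • v) fun e he => by
      rw [← mul_smul, c.commute he.2, mul_smul, ← mul_smul e, c.commute he.2, mul_smul, hv e he]
    rw [← c.polar_smul n, c.smul_n_three] at h
    exact h
  have hsub : ∀ d ∈ D, d ∈ Wsp q n s ∧ n • d ∈ Wsp q n s := fun d hdD =>
    ⟨⟨c.polar_D hd hdD hd.mem, c.polar_D hd hdD hnsD⟩,
      ⟨by rw [c.polar_n_left hs, c.polar_D hd hdD hd.mem, c.polar_D hd hdD hnsD, add_zero],
        by rw [c.polar_smul, c.polar_D hd hdD hd.mem]⟩⟩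
  have hcomm : ∀ e ∈ E ⊓ M, ∀ d : V, e • n • d = n • e • d := fun e he d => by
    rw [← mul_smul, c.commute he.2, mul_smul]
  have hns : n • s ≠ s := c.smul_n_ne hs hs.ne
  have hns0 := c.smul_ne_zero hs hs.ne
  have hfix2 : ∀ d ∈ D, ∀ d' ∈ D, (∀ e ∈ E ⊓ M, e • (d + n • d') = d + n • d') →
      (∀ e ∈ E ⊓ M, e • d = d) ∧ (∀ e ∈ E ⊓ M, e • d' = d') := by
    intro d hdD d' hd'D h
    have key : ∀ e ∈ E ⊓ M, e • d = d ∧ e • d' = d' := fun e he => by
      have h1 := h e he
      rw [smul_add, hcomm e he] at h1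
      rcases hd.move e he.1 d hdD with a | a <;> rcases hd.move e he.1 d' hd'D with b | b
      · exact ⟨a, b⟩
      · exfalso
        rw [a, b, smul_add, add_right_inj, add_eq_left] at h1
        exact hns0 h1
      · exfalso
        rw [a, b, add_assoc, add_right_inj, add_eq_right] at h1
        exact hs.ne h1
      · exfalso
        rw [a, b, smul_add, add_add_add_comm, add_eq_left] at h1
        exact hns (eq_of_vadd h1).symm
    exact ⟨fun e he => (key e he).1, fun e he => (key e he).2⟩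
  let f : ↥D × ↥D →+ ↥(Wsp q n s) := AddMonoidHom.mk'
    (fun p => ⟨(p.1 : V) + n • (p.2 : V), (Wsp q n s).add_mem (hsub _ p.1.2).1 (hsub _ p.2.2).2⟩) fun p p' => by
      refine Subtype.ext ?_
      simp only [Prod.fst_add, Prod.snd_add, AddSubgroup.coe_add, smul_add]
      abel
  have hker : Nat.card ↥f.ker ≤ 4 := by
    have hT : ∀ p ∈ f.ker, (p.2 : V) = 0 ∨ (p.2 : V) = s ∨ (p.2 : V) = n • s ∨ (p.2 : V) = s + n • s := by
      intro p hp
      have h0 : (p.1 : V) + n • (p.2 : V) = 0 := congrArg Subtype.val (AddMonoidHom.mem_ker.1 hp)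
      exact hfixD _ p.2.2 (hfix2 _ p.1.2 _ p.2.2 fun e _ => by rw [h0, smul_zero]).2
    refine (Nat.card_le_card_of_injective (fun p : ↥f.ker => (⟨((p : ↥D × ↥D).2 : V), hT p.1 p.2⟩ :
      {u : V // u = 0 ∨ u = s ∨ u = n • s ∨ u = s + n • s})) ?_).trans ?_
    · intro p p' e
      have e2 : ((p : ↥D × ↥D).2 : V) = ((p' : ↥D × ↥D).2 : V) := Subtype.mk.inj e
      have h0 : ((p : ↥D × ↥D).1 : V) + n • ((p : ↥D × ↥D).2 : V) = 0 :=
        congrArg Subtype.val (AddMonoidHom.mem_ker.1 p.2)
      have h0' : ((p' : ↥D × ↥D).1 : V) + n • ((p' : ↥D × ↥D).2 : V) = 0 :=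
        congrArg Subtype.val (AddMonoidHom.mem_ker.1 p'.2)
      exact Subtype.ext (Prod.ext (Subtype.ext ((eq_of_vadd h0).trans (by rw [e2]; exact (eq_of_vadd h0').symm)))
        (Subtype.ext e2))
    · show Nat.card ↥({0, s, n • s, s + n • s} : Set V) ≤ 4
      rw [Nat.card_coe_set_eq]
      refine (Set.ncard_insert_le _ _).trans (Nat.succ_le_succ ((Set.ncard_insert_le _ _).trans
        (Nat.succ_le_succ ((Set.ncard_insert_le _ _).trans ?_))))
      rw [Set.ncard_singleton]
  have hsurj : f.range = ⊤ := by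
    refine AddSubgroup.eq_top_of_card_eq _ (le_antisymm (Nat.le_of_dvd Nat.card_pos (AddSubgroup.card_addSubgroup_dvd_card _)) ?_)
    have h := f.ker.card_mul_index
    rw [AddSubgroup.index_ker, Nat.card_prod, hD64] at h
    nlinarith
  obtain ⟨⟨d, d'⟩, hdd⟩ : (⟨v, hv1, hv2⟩ : ↥(Wsp q n s)) ∈ f.range := hsurj ▸ AddSubgroup.mem_top _
  have hval : (d : V) + n • (d' : V) = v := congrArg Subtype.val hdd
  obtain ⟨h1, h2⟩ := hfix2 _ d.2 _ d'.2 fun e he => by rw [hval, hv e he]
  have hT1 := hfixD _ d.2 h1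
  have hT2 := hfixD _ d'.2 h2
  rw [← hval]
  have e3 : n • (n • s) = s + n • s := c.n_quad hs s
  have a1 : ∀ x y : V, x + (x + y) = y := fun x y => by rw [← add_assoc, vadd_self, zero_add]
  rcases hT2 with e | e | e | e <;> rw [e] <;> rcases hT1 with e' | e' | e' | e' <;> rw [e'] <;>
    simp [smul_zero, smul_add, e3, a1, vadd_self, add_assoc, add_comm (n • s) s, add_left_comm (n • s) s]

theorem fixed_conj_card {E : Subgroup K} {D : AddSubgroup V} (hd : CentData q s E D) {A : Subgroup K} {k : K}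
    (hA : ∀ e ∈ E ⊓ M, k * e * k⁻¹ ∈ A) : Nat.card ↥(fixSub A : AddSubgroup V) ≤ 4 := by
  have hT : ∀ v ∈ (fixSub A : AddSubgroup V),
      k⁻¹ • v = 0 ∨ k⁻¹ • v = s ∨ k⁻¹ • v = n • s ∨ k⁻¹ • v = s + n • s := fun v hv =>
    c.fixed_E0 hs hd fun e he => by
      calc e • k⁻¹ • v = k⁻¹ • (k * e * k⁻¹) • v := by rw [← mul_smul, ← mul_smul]; group
        _ = k⁻¹ • v := by rw [hv _ (hA e he)]
  refine (Nat.card_le_card_of_injective (fun v : ↥(fixSub A : AddSubgroup V) => (⟨k⁻¹ • (v : V), hT v v.2⟩ :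
    {u : V // u = 0 ∨ u = s ∨ u = n • s ∨ u = s + n • s})) ?_).trans ?_
  · exact fun a b e => Subtype.ext (MulAction.injective k⁻¹ (Subtype.mk.inj e))
  · show Nat.card ↥({0, s, n • s, s + n • s} : Set V) ≤ 4
    rw [Nat.card_coe_set_eq]
    refine (Set.ncard_insert_le _ _).trans (Nat.succ_le_succ ((Set.ncard_insert_le _ _).trans
      (Nat.succ_le_succ ((Set.ncard_insert_le _ _).trans ?_))))
    rw [Set.ncard_singleton]

omit hs in
/-- Involutions with the same image are equal. -/
theorem eq_of_map {a b : K} (ha : a ∈ M) (hb : b ∈ M) (ha2 : a * a = 1) (hb2 : b * b = 1)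
    (h : φ ⟨a, ha⟩ = φ ⟨b, hb⟩) : a = b := by
  have h1 : φ (⟨a, ha⟩⁻¹ * ⟨b, hb⟩) = 1 := by rw [map_mul, map_inv, h, inv_mul_cancel]
  have h2 := (c.ker _).1 h1
  change a⁻¹ * b ∈ Subgroup.zpowers n at h2
  have hcomm : a⁻¹ * b * a = a * (a⁻¹ * b) := by
    rcases c.zn_cases h2 with e | e | e <;> rw [e]
    · simp
    · exact (c.commute ha).symm
    · rw [mul_assoc, ← c.commute ha, ← mul_assoc, ← c.commute ha, mul_assoc]
  have hai : a⁻¹ = a := inv_eq_of_mul_eq_one_left ha2
  have h3 : (a⁻¹ * b) * (a⁻¹ * b) = 1 := by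
    rw [mul_inv_cancel_left] at hcomm
    rw [hai] at hcomm ⊢
    calc a * b * (a * b) = (a * b * a) * b := by group
      _ = b * b := by rw [hcomm]
      _ = 1 := hb2
  have h4 : a⁻¹ * b = 1 := by
    rcases c.zn_cases h2 with e | e | e
    · exact e
    · rw [e] at h3
      have := orderOf_dvd_of_pow_eq_one (show n ^ 2 = 1 by rw [pow_two]; exact h3)
      rw [c.ordn] at this
      omega
    · rw [e, ← mul_assoc, c.n_three, one_mul] at h3
      exact absurd h3 c.n_ne
  exact inv_mul_eq_one.1 h4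

/-- A group in the class of `E ⊓ M` has few fixed vectors. -/
theorem fixed_small {E : Subgroup K} {D : AddSubgroup V} (hd : CentData q s E D) {A : Subgroup K} (hAM : A ≤ M)
    (hA : Cfsg.IsElementaryAbelian 2 A) (h16 : 16 ≤ Nat.card ↥A)
    (hcount : U43.fixCount ((A.subgroupOf M).map φ) = U43.fixCount (((E ⊓ M).subgroupOf M).map φ)) :
    Nat.card ↥(fixSub A : AddSubgroup V) ≤ 4 := by
  obtain ⟨-, -, hE16, -⟩ := c.data_cards hd
  have hel : Cfsg.IsElementaryAbelian 2 (E ⊓ M) :=
    ⟨⟨⟨fun a b => Subtype.ext (congrArg (fun z : ↥E => (z : K))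
      (hd.elem.1.is_comm.comm ⟨a, a.2.1⟩ ⟨b, b.2.1⟩))⟩⟩, fun a ha => hd.elem.2 a ha.1⟩
  obtain ⟨h1, h2⟩ := c.elem_map (A := E ⊓ M) inf_le_right hel
  obtain ⟨h3, h4⟩ := c.elem_map hAM hA
  obtain ⟨g, hg⟩ := U43.conj_of_count h1 h3 (by rw [h2, hE16]) (by rw [h4]; exact h16) hcount.symm
  obtain ⟨k, rfl⟩ := c.surj g
  refine c.fixed_conj_card hs hd (k := (k : K)) fun e he => ?_
  have hmem : φ (k * ⟨e, he.2⟩ * k⁻¹) ∈ (A.subgroupOf M).map φ := by
    rw [← hg]
    exact ⟨φ ⟨e, he.2⟩, Subgroup.mem_map_of_mem φ (show (⟨e, he.2⟩ : ↥M) ∈ (E ⊓ M).subgroupOf M from he),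
      by simp⟩
  obtain ⟨a, ha, hae⟩ := hmem
  have := c.eq_of_map a.2 (k * ⟨e, he.2⟩ * k⁻¹).2
    (by rw [← pow_two]; exact hA.2 _ ha) (by
      show (k : K) * e * (k : K)⁻¹ * ((k : K) * e * (k : K)⁻¹) = 1
      rw [show (k : K) * e * (k : K)⁻¹ * ((k : K) * e * (k : K)⁻¹) = (k : K) * (e * e) * (k : K)⁻¹ by group,
        ← pow_two, hd.elem.2 e he.1, mul_one, mul_inv_cancel]) hae
  show (k : K) * e * (k : K)⁻¹ ∈ A
  rw [show (k : K) * e * (k : K)⁻¹ = ((k * ⟨e, he.2⟩ * k⁻¹ : ↥M) : K) from rfl, ← this]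
  exact ha

/-- The normaliser in `M` of a group of the other class moves every line. -/
theorem other_moves {E : Subgroup K} {D : AddSubgroup V} (hd : CentData q s E D) {A Y : Subgroup K} (hAM : A ≤ M)
    (hA : Cfsg.IsElementaryAbelian 2 A) (h16 : Nat.card ↥A = 16) (hYM : Y ≤ M)
    (hYcard : Nat.card ↥Y = 17280) (hAY : A ≤ Y) (hnY : n ∈ Y) (hY : ∀ y ∈ Y, ∀ a ∈ A, y * a * y⁻¹ ∈ A)
    (hcount : U43.fixCount ((A.subgroupOf M).map φ) ≠ U43.fixCount (((E ⊓ M).subgroupOf M).map φ))
    {v : V} (hv : q v = 0) (hv0 : v ≠ 0) (hfix : ∀ a ∈ A, a • v = v) :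
    ∃ y ∈ Y, y • v ≠ v ∧ y • v ≠ n • v ∧ y • v ≠ n • n • v := by
  classical
  by_contra hno
  simp only [not_exists, not_and] at hno
  have hline : ∀ y ∈ Y, y • v = v ∨ y • v = n • v ∨ y • v = n • n • v := fun y hy => by
    by_contra h
    simp only [not_or] at h
    exact hno y hy h.1 h.2.1 h.2.2
  have horb : MulAction.orbit ↥Y v = {v, n • v, n • n • v} := by
    ext u
    constructor
    · rintro ⟨y, rfl⟩
      rcases hline y y.2 with e | e | e
      · exact .inl e
      · exact .inr (.inl e)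
      · exact .inr (.inr e)
    · rintro (rfl | rfl | rfl)
      · exact MulAction.mem_orbit_self _
      · exact ⟨⟨n, hnY⟩, rfl⟩
      · exact ⟨⟨n * n, mul_mem hnY hnY⟩, mul_smul n n v⟩
  have h1 : n • v ≠ v := c.smul_n_ne hs hv0
  have h2 : n • n • v ≠ n • v := c.smul_n_ne hs (c.smul_ne_zero hs hv0)
  have h3 : n • n • v ≠ v := fun e => h1 (by
    conv_lhs => rw [← e]
    exact c.smul_n_three v)
  have hstab := (MulAction.stabilizer ↥Y v).index_mul_card
  rw [MulAction.index_stabilizer, horb, hYcard, Set.ncard_insert_of_notMem (by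
      simp only [Set.mem_insert_iff, Set.mem_singleton_iff, not_or]
      exact ⟨Ne.symm h1, Ne.symm h3⟩), Set.ncard_pair (Ne.symm h2)] at hstab
  have hle : (MulAction.stabilizer ↥Y v).map Y.subtype ≤ MulAction.stabilizer K v ⊓ M := by
    rintro _ ⟨y, hy, rfl⟩
    exact ⟨hy, hYM y.2⟩
  have hcard : Nat.card ↥((MulAction.stabilizer ↥Y v).map Y.subtype) = 5760 := by
    rw [Subgroup.card_map_of_injective Y.subtype_injective]
    omega
  by_cases hvs : v ∈ MulAction.orbit K s
  · -- the central case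
    obtain ⟨k, rfl⟩ := hvs
    obtain ⟨-, hX0, -⟩ := c.central_facts hs
    have hk0 : Nat.card ↥(MulAction.stabilizer K (k • s) ⊓ M) = 5760 := by
      have e : MulAction.stabilizer K (k • s) ⊓ M =
          (MulAction.stabilizer K s ⊓ M).map (MulAut.conj k).toMonoidHom := by
        ext x
        constructor
        · rintro ⟨hx, hxM⟩
          refine ⟨k⁻¹ * x * k, ⟨?_, ?_⟩, by simp [mul_assoc]⟩
          · show (k⁻¹ * x * k) • s = s
            rw [mul_smul, mul_smul, show x • k • s = k • s from hx, inv_smul_smul]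
          · simpa using c.M_normal.conj_mem x hxM k⁻¹
        · rintro ⟨x, ⟨hx, hxM⟩, rfl⟩
          refine ⟨?_, c.M_normal.conj_mem x hxM k⟩
          show (k * x * k⁻¹) • k • s = k • s
          rw [mul_smul, mul_smul, inv_smul_smul, show x • s = s from hx]
      rw [e, Subgroup.card_map_of_injective (MulEquiv.injective _), hX0]
    have heq := Subgroup.eq_of_le_of_card_ge hle (by rw [hcard, hk0])
    have hnorm : ∀ y ∈ MulAction.stabilizer K (k • s) ⊓ M, ∀ a ∈ A, y * a * y⁻¹ ∈ A := by
      rw [← heq]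
      rintro _ ⟨y, -, rfl⟩ a ha
      exact hY y y.2 a ha
    -- transport to the stabiliser of `s`
    obtain ⟨f, hf, hfker⟩ := c.stab_quotient hs hd
    obtain ⟨-, -, hE16, hnEM⟩ := c.data_cards hd
    have hmem : ∀ a ∈ A, k⁻¹ * a * k ∈ MulAction.stabilizer K s ⊓ M := fun a ha => by
      refine ⟨?_, by simpa using c.M_normal.conj_mem a (hAM ha) k⁻¹⟩
      show (k⁻¹ * a * k) • s = s
      rw [mul_smul, mul_smul, hfix a ha, inv_smul_smul]
    let g : ↥A →* ↥(alternatingGroup (Fin 6)) := f.comp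
      (MonoidHom.mk' (fun a : ↥A => (⟨k⁻¹ * (a : K) * k, (hmem a a.2).1⟩ : ↥(MulAction.stabilizer K s)))
        fun a b => Subtype.ext (by simp [mul_assoc]))
    have hgn : g.range.Normal := by
      refine ⟨fun x hx y => ?_⟩
      obtain ⟨a, rfl⟩ := hx
      obtain ⟨y, rfl⟩ := hf y
      -- a representative in `M`
      obtain ⟨e1, he1, he1M⟩ := SetLike.not_le_iff_exists.1 hnEM
      obtain ⟨y', hy', hyM⟩ : ∃ y' : ↥(MulAction.stabilizer K s), f y' = f y ∧ (y' : K) ∈ M := by
        by_cases hyM : (y : K) ∈ M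
        · exact ⟨y, rfl, hyM⟩
        · refine ⟨⟨e1, c.E_le_stab hd he1⟩ * y, ?_, (Subgroup.mul_mem_iff_of_index_two c.indexM).2 (by simp [he1M, hyM])⟩
          have : f ⟨e1, c.E_le_stab hd he1⟩ = 1 := by
            rw [← MonoidHom.mem_ker, hfker]; exact he1
          rw [map_mul, this, one_mul]
      have hz : k * (y' : K) * k⁻¹ ∈ MulAction.stabilizer K (k • s) ⊓ M := by
        refine ⟨?_, c.M_normal.conj_mem _ hyM k⟩
        show (k * (y' : K) * k⁻¹) • k • s = k • s
        rw [mul_smul, mul_smul, inv_smul_smul, show (y' : K) • s = s from y'.2]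
      refine ⟨⟨_, hnorm _ hz a a.2⟩, ?_⟩
      rw [← hy']
      show f _ = f y' * f _ * (f y')⁻¹
      rw [← map_inv, ← map_mul, ← map_mul]
      exact congrArg f (Subtype.ext (by simp [mul_assoc]))
    have hg1 : g.range = ⊥ := by
      haveI : IsSimpleGroup ↥(alternatingGroup (Fin 6)) := alternatingGroup.isSimpleGroup (by simp)
      refine hgn.eq_bot_or_eq_top.resolve_right fun e => ?_
      have h := Subgroup.card_range_dvd g
      rw [e, Subgroup.card_top, h16, Nat.card_eq_fintype_card] at h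
      exact absurd h (by decide +kernel)
    have hin : ∀ a ∈ A, k⁻¹ * a * k ∈ E ⊓ M := fun a ha => by
      refine ⟨?_, (hmem a ha).2⟩
      have h : g ⟨a, ha⟩ = 1 := Subgroup.mem_bot.1 (hg1 ▸ ⟨_, rfl⟩)
      have h' : (⟨k⁻¹ * a * k, (hmem a ha).1⟩ : ↥(MulAction.stabilizer K s)) ∈ f.ker := MonoidHom.mem_ker.2 h
      rw [hfker] at h'
      exact h'
    have hAeq : A.map (MulAut.conj k⁻¹).toMonoidHom = E ⊓ M := by
      refine Subgroup.eq_of_le_of_card_ge ?_ (by rw [Subgroup.card_map_of_injective (MulEquiv.injective _), h16, hE16])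
      rintro _ ⟨a, ha, rfl⟩
      simpa using hin a ha
    obtain ⟨e1, he1, he1M⟩ := SetLike.not_le_iff_exists.1 hnEM
    obtain ⟨j, hj, hjA⟩ : ∃ j ∈ M, A.map (MulAut.conj j).toMonoidHom = E ⊓ M := by
      by_cases hk : k⁻¹ ∈ M
      · exact ⟨k⁻¹, hk, hAeq⟩
      · refine ⟨e1 * k⁻¹, (Subgroup.mul_mem_iff_of_index_two c.indexM).2 (by simp [he1M, hk]), ?_⟩
        refine Subgroup.eq_of_le_of_card_ge ?_ (by rw [Subgroup.card_map_of_injective (MulEquiv.injective _), h16, hE16])
        rintro _ ⟨a, ha, rfl⟩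
        have := c.norm_E0 hd (hd.fix e1 he1) (hin a ha)
        simpa [mul_assoc] using this
    refine hcount ?_
    rw [← U43.fixCount_map ((A.subgroupOf M).map φ) (φ ⟨j, hj⟩)]
    congr 1
    ext x
    constructor
    · rintro ⟨_, ⟨a, ha, rfl⟩, rfl⟩
      refine ⟨⟨j, hj⟩ * a * ⟨j, hj⟩⁻¹, ?_, by simp⟩
      show j * (a : K) * j⁻¹ ∈ E ⊓ M
      rw [← hjA]
      exact ⟨a, ha, rfl⟩
    · rintro ⟨e, he, rfl⟩
      have he' : (e : K) ∈ A.map (MulAut.conj j).toMonoidHom := hjA.symm ▸ he
      obtain ⟨a, ha, hae⟩ := he'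
      refine ⟨φ ⟨a, hAM ha⟩, ⟨⟨a, hAM ha⟩, ha, rfl⟩, ?_⟩
      show φ ⟨j, hj⟩ * φ ⟨a, hAM ha⟩ * (φ ⟨j, hj⟩)⁻¹ = φ e
      rw [← map_inv, ← map_mul, ← map_mul]
      exact congrArg φ (Subtype.ext hae)
  · obtain ⟨-, hY0⟩ := c.rest_cards hs hv hv0 hvs
    have h := Subgroup.card_dvd_of_le hle
    rw [hcard, hY0] at h
    norm_num at h

set_option maxHeartbeats 1000000 in
/-- The fixed space of a group of the other class. -/
theorem other_fixed {E : Subgroup K} {D : AddSubgroup V} (hd : CentData q s E D) {A : Subgroup K} (hAM : A ≤ M)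
    (hA : Cfsg.IsElementaryAbelian 2 A) (h16 : Nat.card ↥A = 16)
    (hcount : U43.fixCount ((A.subgroupOf M).map φ) ≠ U43.fixCount (((E ⊓ M).subgroupOf M).map φ)) :
    (∀ v ∈ (fixSub A : AddSubgroup V), q v = 0) ∧ Nat.card ↥(fixSub A : AddSubgroup V) = 64 ∧
      (∀ v ∈ (fixSub A : AddSubgroup V), n • v ∈ (fixSub A : AddSubgroup V)) ∧
      perpSub q (fixSub A : AddSubgroup V) = fixSub A := by
  classical
  set F : AddSubgroup V := fixSub A with hF
  have hcomm : ∀ a ∈ A, ∀ v : V, a • n • v = n • a • v := fun a ha v => by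
    rw [← mul_smul, c.commute (hAM ha), mul_smul]
  have hnF : ∀ v ∈ F, n • v ∈ F := fun v hv a ha => by rw [hcomm a ha, hv a ha]
  let R : AddSubgroup V := F ⊓ perpSub q F
  have hnR : ∀ v ∈ R, n • v ∈ R := fun v hv => by
    refine ⟨hnF v hv.1, fun u hu => ?_⟩
    rw [← c.smul_n_three u, c.polar_smul]
    exact hv.2 _ (hnF _ (hnF u hu))
  have hsing : ∀ v ∈ R, q v = 0 := fun v hv => by
    have h : polar q v (n • v) = 0 := hv.2 _ (hnF v hv.1)
    have h2 : q (n • n • v) = q v := by rw [c.isom, c.isom]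
    rw [c.n_quad hs, q_add, c.isom, h, add_zero] at h2
    rw [← add_eq_left.1 h2]
  obtain ⟨h1, h2⟩ := c.elem_map hAM hA
  have hA' : IsPGroup 2 ↥A := IsPGroup.of_card (n := 4) (by rw [h16]; norm_num)
  have hperpF : ∀ a ∈ A, ∀ v ∈ perpSub q F, a • v ∈ perpSub q F := fun a ha v hv u hu => by
    rw [← hu a ha, c.polar_smul]
    exact hv u hu
  -- the radical is not zero
  have hR0 : R ≠ ⊥ := by
    intro hR
    have hPbot : perpSub q F = ⊥ := by
      by_contra hne
      letI : MulAction ↥A ↥(perpSub q F) :=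
        { smul := fun a v => ⟨(a : K) • (v : V), hperpF a a.2 v v.2⟩
          one_smul := fun v => Subtype.ext (one_smul K (v : V))
          mul_smul := fun a b v => Subtype.ext (mul_smul (a : K) (b : K) (v : V)) }
      haveI := Fact.mk Nat.prime_two
      have hmod := hA'.card_modEq_card_fixedPoints ↥(perpSub q F)
      have heq : MulAction.fixedPoints ↥A ↥(perpSub q F) = {0} := by
        ext v
        constructor
        · intro hv
          have hvF : (v : V) ∈ F := fun a ha => congrArg Subtype.val (hv ⟨a, ha⟩)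
          have : (v : V) ∈ R := ⟨hvF, v.2⟩
          rw [hR, AddSubgroup.mem_bot] at this
          exact Subtype.ext this
        · rintro rfl a
          exact Subtype.ext (smul_zero (a : K))
      rw [heq, Nat.card_coe_set_eq, Set.ncard_singleton] at hmod
      have hdvd : Nat.card ↥(perpSub q F) ∣ 4 ^ 6 := c.cardV ▸ AddSubgroup.card_addSubgroup_dvd_card _
      obtain ⟨k, -, hk⟩ := (Nat.dvd_prime_pow Nat.prime_two).1 (show Nat.card ↥(perpSub q F) ∣ 2 ^ 12 by
        norm_num at hdvd ⊢; exact hdvd)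
      rw [hk] at hmod
      rcases k with _ | k
      · exact hne (AddSubgroup.card_eq_one.1 (by rw [hk, pow_zero]))
      · rw [Nat.ModEq, pow_succ] at hmod
        omega
    have hFtop := perpSub_card q c.nondeg F
    rw [hPbot, AddSubgroup.card_bot, one_mul] at hFtop
    have hFt : F = ⊤ := AddSubgroup.eq_top_of_card_eq F hFtop
    have hA1 : A = ⊥ := (Subgroup.eq_bot_iff_forall A).2 fun a ha => c.faithful a fun v => by
      have : v ∈ F := hFt ▸ AddSubgroup.mem_top v
      exact this a ha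
    rw [hA1, Subgroup.card_bot] at h16
    omega
  -- the order of the radical
  have hRle : Nat.card ↥R ≤ 64 := by
    have h := perpSub_card q c.nondeg R
    have hsub : R ≤ perpSub q R := fun v hv u hu => hv.2 u hu.1
    have h3 := Nat.le_of_dvd Nat.card_pos (AddSubgroup.card_dvd_of_le hsub)
    rw [c.cardV] at h
    norm_num at h
    nlinarith
  have hR64 : Nat.card ↥R = 64 := by
    by_contra hne
    have hRmod : Nat.card ↥R % 3 = 1 := by
      letI : MulAction ↥(Subgroup.zpowers n) ↥R :=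
        { smul := fun a v => ⟨(a : K) • (v : V), by
            rcases c.zn_cases a.2 with e | e | e <;> rw [e]
            · rw [one_smul]; exact v.2
            · exact hnR v v.2
            · rw [mul_smul]; exact hnR _ (hnR v v.2)⟩
          one_smul := fun v => Subtype.ext (one_smul K (v : V))
          mul_smul := fun a b v => Subtype.ext (mul_smul (a : K) (b : K) (v : V)) }
      haveI := Fact.mk Nat.prime_three
      have hp : IsPGroup 3 ↥(Subgroup.zpowers n) := IsPGroup.of_card (n := 1) (by rw [c.card_zn, pow_one])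
      have hmod := hp.card_modEq_card_fixedPoints ↥R
      have heq : MulAction.fixedPoints ↥(Subgroup.zpowers n) ↥R = {0} := by
        ext v
        constructor
        · intro hv
          exact Subtype.ext (c.fixN_eq_zero hs (congrArg Subtype.val (hv ⟨n, Subgroup.mem_zpowers n⟩)))
        · rintro rfl a
          exact Subtype.ext (smul_zero (a : K))
      rw [heq, Nat.card_coe_set_eq, Set.ncard_singleton] at hmod
      exact hmod
    have hdvd : Nat.card ↥R ∣ 2 ^ 12 := by
      have h : Nat.card ↥R ∣ 4 ^ 6 := c.cardV ▸ AddSubgroup.card_addSubgroup_dvd_card _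
      norm_num at h ⊢; exact h
    obtain ⟨k, -, hk⟩ := (Nat.dvd_prime_pow Nat.prime_two).1 hdvd
    have hk6 : k ≤ 6 := by
      by_contra h
      have : 2 ^ 7 ≤ 2 ^ k := Nat.pow_le_pow_right (by norm_num) (by omega)
      omega
    have hk4 : Nat.card ↥R ≤ 16 := by
      rw [hk] at hne hRmod ⊢
      interval_cases k <;> simp_all
    -- the normaliser
    set A' := (A.subgroupOf M).map φ with hA'def
    obtain ⟨-, hN, f0, hf0, hk0⟩ := U43.elementary_facts h1 (h2.symm ▸ h16.ge)
    let Y : Subgroup K := ((Subgroup.normalizer (A' : Set ↥H4)).comap φ).map M.subtype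
    have hYM : Y ≤ M := Subgroup.map_subtype_le _
    have hYmem : ∀ {y : K} (hy : y ∈ M), y ∈ Y ↔ φ ⟨y, hy⟩ ∈ Subgroup.normalizer (A' : Set ↥H4) := by
      intro y hy
      constructor
      · rintro ⟨⟨y', hy'⟩, hn, rfl⟩
        exact hn
      · exact fun h => ⟨⟨y, hy⟩, h, rfl⟩
    have hYcard : Nat.card ↥Y = 17280 := by
      rw [Subgroup.card_map_of_injective M.subtype_injective]
      have h := ((Subgroup.normalizer (A' : Set ↥H4)).comap φ).card_mul_index
      rw [Subgroup.index_comap_of_surjective _ c.surj, c.card_M] at h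
      have h5 := (Subgroup.normalizer (A' : Set ↥H4)).card_mul_index
      rw [hN, card_H4] at h5
      have : (Subgroup.normalizer (A' : Set ↥H4)).index = 567 := by omega
      rw [this] at h
      omega
    have hnY : n ∈ Y := (hYmem c.nM).2 (by
      rw [(c.ker _).2 (Subgroup.mem_zpowers n)]; exact one_mem _)
    have hAY : A ≤ Y := fun a ha => (hYmem (hAM ha)).2 (Subgroup.le_normalizer ⟨⟨a, hAM ha⟩, ha, rfl⟩)
    have hY : ∀ y ∈ Y, ∀ a ∈ A, y * a * y⁻¹ ∈ A := by
      intro y hy a ha
      have hn := (hYmem (hYM hy)).1 hy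
      obtain ⟨b, hb, hbe⟩ := (Subgroup.mem_normalizer_iff.1 hn (φ ⟨a, hAM ha⟩)).1 ⟨⟨a, hAM ha⟩, ha, rfl⟩
      have := c.eq_of_map b.2 (mul_mem (mul_mem (hYM hy) (hAM ha)) (inv_mem (hYM hy)))
        (by rw [← pow_two]; exact hA.2 _ hb) (by
          rw [show y * a * y⁻¹ * (y * a * y⁻¹) = y * (a * a) * y⁻¹ by group, ← pow_two, hA.2 a ha, mul_one,
            mul_inv_cancel])
        (by rw [hbe, ← map_inv, ← map_mul, ← map_mul]; rfl)
      rw [← this]
      exact hb
    have hRY : ∀ y ∈ Y, ∀ v ∈ R, y • v ∈ R := by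
      intro y hy v hv
      have hFy : ∀ z ∈ Y, ∀ u ∈ F, z • u ∈ F := fun z hz u hu a ha => by
        have h := hu _ (by simpa using hY z⁻¹ (Y.inv_mem hz) a ha)
        calc a • z • u = z • (z⁻¹ * a * z) • u := by rw [← mul_smul, ← mul_smul]; group
          _ = z • u := by rw [h]
      refine ⟨hFy y hy v hv.1, fun u hu => ?_⟩
      rw [← smul_inv_smul y u, c.polar_smul]
      exact hv.2 _ (hFy _ (Y.inv_mem hy) u hu)
    -- the lines of the radical
    let L : Set (Set V) := (fun v => ({v, n • v, n • n • v} : Set V)) '' {v | v ∈ R ∧ v ≠ 0}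
    have hact : ∀ (y : ↥Y) (v : V), ((fun u => (y : K) • u) '' ({v, n • v, n • n • v} : Set V)) =
        {(y : K) • v, n • (y : K) • v, n • n • (y : K) • v} := fun y v => by
      have e : ∀ u : V, (y : K) • n • u = n • (y : K) • u := fun u => by
        rw [← mul_smul, c.commute (hYM y.2), mul_smul]
      simp [Set.image_insert_eq, e]
    letI : MulAction ↥Y ↥L :=
      { smul := fun y S => ⟨(fun u => (y : K) • u) '' (S : Set V), by
          obtain ⟨v, ⟨hv, hv0⟩, hS⟩ := S.2
          refine ⟨(y : K) • v, ⟨hRY y y.2 v hv, fun e => hv0 (by rw [← inv_smul_smul (y : K) v, e, smul_zero])⟩, ?_⟩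
          rw [← hS]
          exact (hact y v).symm⟩
        one_smul := fun S => Subtype.ext (show (fun u => ((1 : ↥Y) : K) • u) '' (S : Set V) = S by simp)
        mul_smul := fun y y' S => Subtype.ext (show (fun u => ((y * y' : ↥Y) : K) • u) '' (S : Set V) =
          (fun u => (y : K) • u) '' ((fun u => (y' : K) • u) '' (S : Set V)) by
            rw [Set.image_image]; simp [mul_smul]) }
    let θ := MulAction.toPermHom ↥Y ↥L
    -- the quotient onto the alternating group
    let ψ : ↥Y →* ↥(Subgroup.normalizer (A' : Set ↥H4)) := (φ.comp (Subgroup.inclusion hYM)).codRestrict _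
      fun y => (hYmem (hYM y.2)).1 y.2
    let g := f0.comp ψ
    have hg : Function.Surjective g := by
      refine hf0.comp fun x => ?_
      obtain ⟨y, hy⟩ := c.surj (x : ↥H4)
      refine ⟨⟨(y : K), y, ?_, rfl⟩, Subtype.ext hy⟩
      show φ y ∈ Subgroup.normalizer (A' : Set ↥H4)
      rw [hy]
      exact x.2
    have hkerle : g.ker ≤ θ.ker := by
      intro y hy
      have hy' : ψ y ∈ f0.ker := MonoidHom.mem_ker.1 hy
      rw [hk0] at hy'
      obtain ⟨a, ha, hae⟩ := hy'
      have hz : (a : K)⁻¹ * (y : K) ∈ Subgroup.zpowers n :=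
        (c.ker (a⁻¹ * Subgroup.inclusion hYM y)).1 (by
          rw [map_mul, map_inv, hae, inv_mul_eq_one]; rfl)
      refine MonoidHom.mem_ker.2 (Equiv.ext fun S => Subtype.ext ?_)
      show (fun u => (y : K) • u) '' (S : Set V) = (S : Set V)
      obtain ⟨v, ⟨hv, hv0⟩, hS⟩ := S.2
      rw [← hS]
      refine (hact y v).trans ?_
      have hav : (a : K) • v = v := hv.1 _ ha
      have hyv : (y : K) • v = v ∨ (y : K) • v = n • v ∨ (y : K) • v = n • n • v := by
        rw [show (y : K) = (a : K) * ((a : K)⁻¹ * y) by group, mul_smul]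
        rcases c.zn_cases hz with e | e | e <;> rw [e]
        · rw [one_smul]; exact .inl hav
        · rw [hcomm (a : K) ha, hav]; exact .inr (.inl rfl)
        · rw [mul_smul, hcomm (a : K) ha, hcomm (a : K) ha, hav]; exact .inr (.inr rfl)
      rcases hyv with e | e | e <;> rw [e]
      · ext u; simp [c.smul_n_three]; tauto
      · ext u; simp [c.smul_n_three]; tauto
    have hLcard : Nat.card ↥L ≤ 5 := by
      choose rep hrep using fun S : ↥L => S.2
      let h : ↥L × Fin 3 → {v : V // v ∈ R ∧ v ≠ 0} := fun p =>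
        ⟨(n ^ (p.2 : ℕ)) • rep p.1, by
          obtain ⟨hR1, hR2⟩ := (hrep p.1).1
          refine ⟨?_, fun e => hR2 (by rw [← inv_smul_smul (n ^ (p.2 : ℕ)) (rep p.1), e, smul_zero])⟩
          generalize (p.2 : ℕ) = i
          induction i with
          | zero => rw [pow_zero, one_smul]; exact hR1
          | succ i ih => rw [pow_succ', mul_smul]; exact hnR _ ih⟩
      have hinj : Function.Injective h := by
        rintro ⟨S, i⟩ ⟨S', j⟩ e
        have e' : n ^ (i : ℕ) • rep S = n ^ (j : ℕ) • rep S' := congrArg Subtype.val e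
        have hsets : ∀ (v : V) (l : ℕ), ({n ^ l • v, n • n ^ l • v, n • n • n ^ l • v} : Set V) =
            {v, n • v, n • n • v} := by
          intro v l
          induction l with
          | zero => simp
          | succ l ih =>
            rw [← ih, pow_succ', mul_smul]
            ext u
            simp [c.smul_n_three]
            tauto
        have hSS : S = S' := Subtype.ext (by
          rw [← (hrep S).2, ← (hrep S').2]
          calc _ = ({n ^ (i : ℕ) • rep S, n • n ^ (i : ℕ) • rep S, n • n • n ^ (i : ℕ) • rep S} : Set V) :=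
                (hsets _ _).symm
            _ = _ := by rw [e', hsets])
        subst hSS
        have hne := (hrep S).1.2
        have h1 := c.smul_n_ne hs hne
        have h2 := c.smul_n_ne hs (c.smul_ne_zero hs hne)
        have h3 : n • n • rep S ≠ rep S := fun e => h1 (by conv_lhs => rw [← e]; exact c.smul_n_three _)
        refine Prod.ext rfl ?_
        fin_cases i <;> fin_cases j <;> first
          | rfl
          | (exfalso; simp [pow_two, mul_smul] at e'; first
              | exact h1 e' | exact h1 e'.symm | exact h3 e' | exact h3 e'.symm | exact h2 e' | exact h2 e'.symm)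
      have hc := Nat.card_le_card_of_injective h hinj
      rw [Nat.card_prod, Nat.card_fin] at hc
      have h15 : Nat.card {v : V // v ∈ R ∧ v ≠ 0} + 1 ≤ 16 := by
        refine le_trans ?_ hk4
        have e : Nat.card {v : V // v ∈ R ∧ v ≠ 0} = ((R : Set V) \ {0}).ncard := by
          rw [← Nat.card_coe_set_eq]; rfl
        rw [e, Set.ncard_sdiff_singleton_add_one R.zero_mem (Set.toFinite _), ← Nat.card_coe_set_eq]
        rfl
      omega
    have hθ : θ.ker = ⊤ := by
      haveI : IsSimpleGroup ↥(alternatingGroup (Fin 6)) := alternatingGroup.isSimpleGroup (by simp)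
      let θ' : ↥(alternatingGroup (Fin 6)) →* Equiv.Perm ↥L := g.liftOfSurjective hg ⟨θ, hkerle⟩
      have hθ' : ∀ y, θ' (g y) = θ y := fun y => g.liftOfRightInverse_comp_apply _ _ ⟨θ, hkerle⟩ y
      have hk' : θ'.ker = ⊤ := by
        refine (MonoidHom.normal_ker θ').eq_bot_or_eq_top.resolve_left fun e => ?_
        have h := Nat.card_le_card_of_injective θ' ((MonoidHom.ker_eq_bot_iff θ').1 e)
        haveI := Fintype.ofFinite ↥L
        rw [Nat.card_eq_fintype_card, Nat.card_eq_fintype_card, Fintype.card_perm,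
          show Fintype.card ↥(alternatingGroup (Fin 6)) = 360 by decide +kernel] at h
        have h5 : Fintype.card ↥L ≤ 5 := by rw [← Nat.card_eq_fintype_card]; exact hLcard
        have := Nat.factorial_le h5
        rw [show (5 : ℕ).factorial = 120 from rfl] at this
        omega
      exact eq_top_iff.2 fun y _ => by
        rw [MonoidHom.mem_ker, ← hθ', ← MonoidHom.mem_ker, hk']; trivial
    obtain ⟨v, hv, hv0⟩ : ∃ v ∈ R, v ≠ 0 := by
      by_contra h
      simp only [not_exists, not_and, not_not] at h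
      exact hR0 ((AddSubgroup.eq_bot_iff_forall R).2 h)
    obtain ⟨y, hy, h1', h2', h3'⟩ := c.other_moves hs hd hAM hA h16 hYM hYcard hAY hnY hY hcount (hsing v hv) hv0
      hv.1
    have hy1 : θ ⟨y, hy⟩ = 1 := MonoidHom.mem_ker.1 (hθ ▸ Subgroup.mem_top _)
    have hS := congrArg Subtype.val (Equiv.congr_fun hy1 ⟨{v, n • v, n • n • v}, v, ⟨hv, hv0⟩, rfl⟩)
    change (fun u => y • u) '' ({v, n • v, n • n • v} : Set V) = {v, n • v, n • n • v} at hS
    have : y • v ∈ ({v, n • v, n • n • v} : Set V) := hS ▸ ⟨v, Or.inl rfl, rfl⟩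
    rcases this with e | e | e
    exacts [h1' e, h2' e, h3' e]
  have hFR : R = F := by
    refine le_antisymm inf_le_left ?_
    have hRperp : perpSub q R = R := by
      have h := perpSub_card q c.nondeg R
      rw [hR64, c.cardV] at h
      refine (SetLike.coe_injective (Set.eq_of_subset_of_ncard_le (s := (R : Set V)) (t := (perpSub q R : Set V))
        (fun v (hv : v ∈ R) u (hu : u ∈ R) => hv.2 u hu.1) ?_ (Set.toFinite _))).symm
      rw [← Nat.card_coe_set_eq, ← Nat.card_coe_set_eq]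
      show Nat.card ↥(perpSub q R) ≤ Nat.card ↥R
      norm_num at h
      omega
    intro v hv
    rw [← hRperp]
    intro u hu
    rw [QuadraticMap.polar_comm]
    exact hu.2 v hv
  refine ⟨fun v hv => hsing v (hFR.symm ▸ hv), hFR ▸ hR64, hnF, ?_⟩
  have h := perpSub_card q c.nondeg F
  rw [← hFR, hR64, c.cardV, hFR] at h
  refine (SetLike.coe_injective (Set.eq_of_subset_of_ncard_le ?_ ?_ (Set.toFinite _))).symm
  · intro v hv
    have : v ∈ R := hFR.symm ▸ hv
    exact this.2
  · rw [← Nat.card_coe_set_eq, ← Nat.card_coe_set_eq]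
    show Nat.card ↥(perpSub q F) ≤ Nat.card ↥F
    rw [← hFR] at h ⊢
    rw [hR64]
    norm_num at h
    omega

/-- The fixed space of an element outside `M` is small. -/
theorem fixed_outer {e : K} (he : e ∉ M) (U : AddSubgroup V) (hU : ∀ v ∈ U, n • v ∈ U) :
    ({v : V | v ∈ U ∧ e • v = v}).ncard * ({v : V | v ∈ U ∧ e • v = v}).ncard ≤ Nat.card ↥U := by
  set S : Set V := {v : V | v ∈ U ∧ e • v = v}
  have key : ∀ u : V, e • u = u → e • (n • u) = n • u → u = 0 := fun u h1 h2 => by
    rw [← mul_smul, c.conj_n_outer hs he, mul_smul, mul_smul, h1] at h2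
    refine c.fixN_eq_zero hs ?_
    have := congrArg (fun w => n • n • w) h2
    simpa [c.smul_n_three] using this
  let f : ↥S × ↥S → ↥U := fun p => ⟨(p.1 : V) + n • (p.2 : V), U.add_mem p.1.2.1 (hU _ p.2.2.1)⟩
  have hf : Function.Injective f := by
    rintro ⟨x, y⟩ ⟨x', y'⟩ h
    have h' : (x : V) + n • (y : V) = (x' : V) + n • (y' : V) := congrArg Subtype.val h
    have h2 : n • ((y : V) + y') = (x : V) + x' := by
      refine eq_of_vadd ?_
      rw [smul_add]
      calc n • (y : V) + n • (y' : V) + ((x : V) + x') = ((x : V) + n • (y : V)) + ((x' : V) + n • (y' : V)) := by abel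
        _ = 0 := by rw [h', vadd_self]
    have hy : (y : V) + y' = 0 := key _ (by rw [smul_add, y.2.2, y'.2.2]) (by rw [h2, smul_add, x.2.2, x'.2.2])
    rw [hy, smul_zero] at h2
    exact Prod.ext (Subtype.ext (eq_of_vadd h2.symm)) (Subtype.ext (eq_of_vadd hy))
  have h := Nat.card_le_card_of_injective f hf
  rwa [Nat.card_prod, Nat.card_coe_set_eq] at h

end Core

end CfsgLib.LargeFischer
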