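import Cfsg.Agent.Lib.LargeFischer.OtherClass

/-!
# Groups of large Fischer type: elementary subgroups of order `2^11` in the centraliser
-/

set_option autoImplicit false
set_option linter.unusedSectionVars false

namespace CfsgLib.LargeFischer.Model

open Subgroup QuadraticMap
open CfsgLib.Schur.Tails.UFour (H4)

variable {G : Type*} [Group G] [Finite G] {z : G} {Q : Subgroup (centralizer ({z} : Set G))} [Q.Normal]
  {V : Type*} [AddCommGroup V] [Module (ZMod 2) V] [DistribMulAction ((centralizer ({z} : Set G)) ⧸ Q) V] [Finite V]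
  {q : QuadraticForm (ZMod 2) V} {π : ↥Q → V} {n : (centralizer ({z} : Set G)) ⧸ Q}
  {M : Subgroup ((centralizer ({z} : Set G)) ⧸ Q)} {φ : ↥M →* ↥H4} (m : Model z Q q π n M φ)
  (hF : Cfsg.IsOfLargeFischerTypeAt z Q)

include m hF

theorem exists_zQ : ∃ zQ : ↥Q, ((zQ : (centralizer ({z} : Set G))) : G) = z ∧ π zQ = 0 ∧ zQ * zQ = 1 ∧
    (∀ c : (centralizer ({z} : Set G)), c * (zQ : (centralizer ({z} : Set G))) = (zQ : (centralizer ({z} : Set G))) * c) ∧ (zQ : (centralizer ({z} : Set G))) ≠ 1 := by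
  obtain ⟨⟨hz, hFit, -⟩, -⟩ := id hF
  have hzQ : (⟨z, mem_centralizer_singleton_iff.2 rfl⟩ : (centralizer ({z} : Set G))) ∈ Q := by
    have h := CfsgLib.Cores.centralizer_generalizedFittingSubgroup_le (G := (centralizer ({z} : Set G)))
      (x := ⟨z, mem_centralizer_singleton_iff.2 rfl⟩)
      (mem_centralizer_iff.2 fun x _ => Subtype.ext (mem_centralizer_singleton_iff.1 x.2))
    rwa [hFit] at h
  have hz1 : z ≠ 1 := fun h => by rw [h, orderOf_one] at hz; omega
  refine ⟨⟨_, hzQ⟩, rfl, (m.ker _).2 (.inr rfl), Subtype.ext (Subtype.ext ?_),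
    fun c => Subtype.ext (mem_centralizer_singleton_iff.1 c.2), fun h => hz1 (congrArg Subtype.val h)⟩
  show z * z = 1
  rw [← pow_two, ← hz, pow_orderOf_eq_one]

theorem pi_eq_cases {zQ : ↥Q} (hzQ : ((zQ : (centralizer ({z} : Set G))) : G) = z) {x y : ↥Q} (h : π x = π y) :
    (y : (centralizer ({z} : Set G))) = x ∨ (y : (centralizer ({z} : Set G))) = (x : (centralizer ({z} : Set G))) * (zQ : (centralizer ({z} : Set G))) := by
  rcases m.pi_eq h with e | e
  · exact .inl (Subtype.ext e)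
  · exact .inr (Subtype.ext (e.trans (congrArg (((x : (centralizer ({z} : Set G))) : G) * ·) hzQ.symm)))

theorem comm_iff (a b : ↥Q) : polar q (π a) (π b) = 0 ↔ (a : (centralizer ({z} : Set G))) * (b : (centralizer ({z} : Set G))) = (b : (centralizer ({z} : Set G))) * (a : (centralizer ({z} : Set G))) :=
  (m.polar_iff a b).trans ⟨fun h => Subtype.ext h, fun h => congrArg Subtype.val h⟩

theorem eq_one_or_z {zQ : ↥Q} (hzQ : ((zQ : (centralizer ({z} : Set G))) : G) = z) {x : ↥Q} (h : π x = 0) :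
    (x : (centralizer ({z} : Set G))) = 1 ∨ (x : (centralizer ({z} : Set G))) = (zQ : (centralizer ({z} : Set G))) := by
  rcases m.pi_eq_cases hF hzQ (x := 1) (m.pi_one.trans h.symm) with e | e
  · exact .inl e
  · exact .inr (e.trans (one_mul _))

/-- Conjugation on a vector fixed by the image. -/
theorem conj_cases {zQ : ↥Q} (hzQ : ((zQ : (centralizer ({z} : Set G))) : G) = z) {c : (centralizer ({z} : Set G))} {u : ↥Q}
    (h : (QuotientGroup.mk c : (centralizer ({z} : Set G)) ⧸ Q) • π u = π u) :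
    c * (u : (centralizer ({z} : Set G))) * c⁻¹ = u ∨ c * (u : (centralizer ({z} : Set G))) * c⁻¹ = (u : (centralizer ({z} : Set G))) * (zQ : (centralizer ({z} : Set G))) := by
  rw [m.equiv] at h
  have hval : ((MulAut.conjNormal c u : ↥Q) : (centralizer ({z} : Set G))) = c * u * c⁻¹ := MulAut.conjNormal_apply _ _
  rcases m.pi_eq_cases hF hzQ h.symm with e | e <;> rw [hval] at e
  · exact .inl e
  · exact .inr e

theorem fixed_of_comm {c : (centralizer ({z} : Set G))} {u : ↥Q} (h : c * (u : (centralizer ({z} : Set G))) = (u : (centralizer ({z} : Set G))) * c) :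
    (QuotientGroup.mk c : (centralizer ({z} : Set G)) ⧸ Q) • π u = π u := by
  rw [m.equiv, show MulAut.conjNormal c u = u from Subtype.ext (by
    rw [MulAut.conjNormal_apply, h, mul_inv_cancel_right])]

/-- Orders of a subgroup of `Q` and of its image. -/
theorem card_fibre {zQ : ↥Q} (hzQ : ((zQ : (centralizer ({z} : Set G))) : G) = z) (S : Subgroup ↥Q) :
    ∃ W : AddSubgroup V, (∀ v, v ∈ W ↔ ∃ x ∈ S, π x = v) ∧ Nat.card ↥S ≤ 2 * Nat.card ↥W ∧
      (zQ ∈ S → Nat.card ↥S = 2 * Nat.card ↥W) := by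
  let W : AddSubgroup V :=
    { carrier := {v | ∃ x ∈ S, π x = v}
      zero_mem' := ⟨1, one_mem S, m.pi_one⟩
      add_mem' := by
        rintro _ _ ⟨a, ha, rfl⟩ ⟨b, hb, rfl⟩
        exact ⟨a * b, mul_mem ha hb, m.pi_mul a b⟩
      neg_mem' := by
        rintro _ ⟨a, ha, rfl⟩
        exact ⟨a, ha, (eq_neg_of_add_eq_zero_left (vadd_self _))⟩ }
  let f : ↥S →* Multiplicative ↥W :=
    MonoidHom.mk' (fun a => Multiplicative.ofAdd (⟨π (a : ↥Q), _, a.2, rfl⟩ : ↥W))
      fun a b => congrArg Multiplicative.ofAdd (Subtype.ext (m.pi_mul (a : ↥Q) b))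
  have hf : Function.Surjective f := by
    intro v
    obtain ⟨a, ha, hv⟩ := (Multiplicative.toAdd v).2
    exact ⟨⟨a, ha⟩, congrArg Multiplicative.ofAdd (Subtype.ext hv)⟩
  have h1 := f.ker.card_mul_index
  rw [index_ker, MonoidHom.range_eq_top.2 hf, card_top, Nat.card_congr Multiplicative.toAdd] at h1
  have hk : ∀ a : ↥f.ker, ((a : ↥S) : ↥Q) = 1 ∨ ((a : ↥S) : ↥Q) = zQ := fun a => by
    have h : π ((a : ↥S) : ↥Q) = 0 :=
      congrArg (fun v : Multiplicative ↥W => ((Multiplicative.toAdd v : ↥W) : V)) (MonoidHom.mem_ker.1 a.2)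
    rcases m.eq_one_or_z hF hzQ h with e | e
    · exact .inl (Subtype.ext e)
    · exact .inr (Subtype.ext e)
  have hinj : Function.Injective fun a : ↥f.ker => (⟨((a : ↥S) : ↥Q), hk a⟩ : {x : ↥Q // x = 1 ∨ x = zQ}) :=
    fun a b e => Subtype.ext (Subtype.ext (Subtype.mk.inj e))
  have h2 := Nat.card_le_card_of_injective _ hinj
  have hne : (1 : ↥Q) ≠ zQ := by
    intro e
    obtain ⟨zQ', h', -, -, -, h1'⟩ := m.exists_zQ hF
    apply h1'
    apply Subtype.ext
    rw [h', ← hzQ, ← e]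
    rfl
  have h3 : Nat.card {x : ↥Q // x = 1 ∨ x = zQ} = 2 := by
    show Nat.card ↥({1, zQ} : Set ↥Q) = 2
    rw [Nat.card_coe_set_eq, Set.ncard_pair hne]
  rw [h3] at h2
  refine ⟨W, fun v => Iff.rfl, by nlinarith, fun hz => ?_⟩
  have hz' : π zQ = 0 := (m.ker _).2 (.inr hzQ)
  have h4 : 2 ≤ Nat.card ↥f.ker := by
    have : Function.Injective fun b : Bool =>
        (cond b ⟨⟨zQ, hz⟩, congrArg Multiplicative.ofAdd (Subtype.ext hz')⟩ 1 : ↥f.ker) := by
      intro b b' e
      have e' := congrArg (fun a : ↥f.ker => ((a : ↥S) : ↥Q)) e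
      cases b <;> cases b' <;> simp at e' ⊢
      exacts [hne e', hne e'.symm]
    simpa using Nat.card_le_card_of_injective _ this
  rw [← h1, show Nat.card ↥f.ker = 2 by omega]

omit m hF in
theorem card_split (B : Subgroup (centralizer ({z} : Set G))) :
    Nat.card ↥B = Nat.card ↥(B ⊓ Q) * Nat.card ↥(B.map (QuotientGroup.mk' Q)) ∧
      Nat.card ↥(B ⊓ Q) = Nat.card ↥(B.subgroupOf Q) := by
  refine ⟨?_, ?_⟩
  · let f : ↥B →* (centralizer ({z} : Set G)) ⧸ Q := (QuotientGroup.mk' Q).comp B.subtype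
    have h1 := f.ker.card_mul_index
    rw [index_ker] at h1
    have h2 : f.range = B.map (QuotientGroup.mk' Q) := by rw [MonoidHom.range_comp, range_subtype]
    have h3 : f.ker = (B ⊓ Q).subgroupOf B := by
      ext b
      rw [MonoidHom.mem_ker, mem_subgroupOf]
      exact ⟨fun h => ⟨b.2, (QuotientGroup.eq_one_iff _).1 h⟩, fun h => (QuotientGroup.eq_one_iff _).2 h.2⟩
    rw [h2, h3, Nat.card_congr (subgroupOfEquivOfLe inf_le_left).toEquiv] at h1
    exact h1.symm
  · rw [← inf_subgroupOf_right B Q]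
    exact (Nat.card_congr (subgroupOfEquivOfLe inf_le_right).toEquiv).symm

variable {s : V} {E : Subgroup ((centralizer ({z} : Set G)) ⧸ Q)} {D : AddSubgroup V}
  (hs : Central q ((centralizer ({z} : Set G)) ⧸ Q) s) (hd : CentData q s E D)

include hs hd

/-- The shape of an elementary subgroup of order at least `2^11`. -/
theorem big_facts {B : Subgroup (centralizer ({z} : Set G))} (hB : Cfsg.IsElementaryAbelian 2 B) (h11 : 2 ^ 11 ≤ Nat.card ↥B) :
    Nat.card ↥B = 2 ^ 11 ∧ Nat.card ↥(B ⊓ Q) = 2 ^ 7 ∧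
    ∃ A : Subgroup ((centralizer ({z} : Set G)) ⧸ Q), A = B.map (QuotientGroup.mk' Q) ∧ A ≤ M ∧ Cfsg.IsElementaryAbelian 2 A ∧
      Nat.card ↥A = 16 ∧ U43.fixCount ((A.subgroupOf M).map φ) ≠ U43.fixCount (((E ⊓ M).subgroupOf M).map φ) ∧
      ∀ x : ↥Q, (x : (centralizer ({z} : Set G))) ∈ B ↔ π x ∈ (fixSub A : AddSubgroup V) := by
  classical
  obtain ⟨zQ, hzQ, hzπ, -, -, -⟩ := m.exists_zQ hF
  set A := B.map (QuotientGroup.mk' Q) with hAdef
  have hA : Cfsg.IsElementaryAbelian 2 A := by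
    refine ⟨⟨⟨?_⟩⟩, ?_⟩
    · rintro ⟨_, a, ha, rfl⟩ ⟨_, b, hb, rfl⟩
      refine Subtype.ext ?_
      show QuotientGroup.mk' Q a * QuotientGroup.mk' Q b = QuotientGroup.mk' Q b * QuotientGroup.mk' Q a
      rw [← map_mul, ← map_mul]
      exact congrArg _ (congrArg Subtype.val (hB.1.is_comm.comm (⟨a, ha⟩ : ↥B) ⟨b, hb⟩))
    · rintro _ ⟨a, ha, rfl⟩
      rw [← map_pow, hB.2 a ha, map_one]
  obtain ⟨W, hW, hSW, -⟩ := m.card_fibre hF hzQ (B.subgroupOf Q)
  obtain ⟨hBcard, hBQ⟩ := card_split (Q := Q) B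
  have hWfix : W ≤ fixSub A := by
    intro v hv
    obtain ⟨x, hx, rfl⟩ := (hW v).1 hv
    rintro _ ⟨b, hb, rfl⟩
    exact m.fixed_of_comm hF (congrArg Subtype.val (hB.1.is_comm.comm (⟨b, hb⟩ : ↥B) ⟨x, hx⟩))
  have hW64 : Nat.card ↥W ≤ 64 := by
    have hsub : W ≤ perpSub q W := by
      intro v hv u hu
      obtain ⟨x, hx, rfl⟩ := (hW v).1 hv
      obtain ⟨y, hy, rfl⟩ := (hW u).1 hu
      exact (m.comm_iff hF x y).2 (congrArg Subtype.val (hB.1.is_comm.comm (⟨x, hx⟩ : ↥B) ⟨y, hy⟩))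
    have h1 := perpSub_card q m.core.nondeg W
    have h2 := Nat.le_of_dvd Nat.card_pos (AddSubgroup.card_dvd_of_le hsub)
    rw [m.core.cardV] at h1
    norm_num at h1
    nlinarith
  have hAM : A ≤ M := by
    by_contra hnot
    obtain ⟨e, heA, heM⟩ := SetLike.not_le_iff_exists.1 hnot
    have h2 := m.core.card_inf_M hnot
    have hX : Cfsg.IsElementaryAbelian 2 (A ⊓ M) := elem_inf hA
    have h16 := m.core.elem_le inf_le_right hX
    norm_num at h11
    have hWe : ∀ v ∈ W, e • v = v := fun v hv => hWfix hv e heA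
    have h32 : 32 ≤ Nat.card ↥W := by nlinarith
    rcases h16.eq_or_lt with h16' | h16'
    · by_cases hc : U43.fixCount (((A ⊓ M).subgroupOf M).map φ) = U43.fixCount (((E ⊓ M).subgroupOf M).map φ)
      · have h4 := m.core.fixed_small hs hd inf_le_right hX h16'.ge hc
        have h5 : Nat.card ↥W ≤ Nat.card ↥(fixSub (A ⊓ M) : AddSubgroup V) :=
          Nat.le_of_dvd Nat.card_pos (AddSubgroup.card_dvd_of_le fun v hv a ha => hWfix hv a ha.1)
        omega
      · obtain ⟨-, hF64, hnF, -⟩ := m.core.other_fixed hs hd inf_le_right hX h16' hc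
        have h5 := m.core.fixed_outer hs heM (fixSub (A ⊓ M) : AddSubgroup V) hnF
        have h6 : Nat.card ↥W ≤
            ({v : V | v ∈ (fixSub (A ⊓ M) : AddSubgroup V) ∧ e • v = v}).ncard := by
          rw [← Nat.card_coe_set_eq]
          exact Nat.card_le_card_of_injective
            (fun v : ↥W => ⟨(v : V), fun a ha => hWfix v.2 a ha.1, hWe v v.2⟩)
            fun a b h => Subtype.ext (congrArg (fun w : ↥{v : V | v ∈ (fixSub (A ⊓ M) : AddSubgroup V) ∧
              e • v = v} => (w : V)) h)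
        rw [hF64] at h5
        nlinarith
    · have hW' : Nat.card ↥W = 64 := by
        have hdvd : Nat.card ↥W ∣ 2 ^ 12 := by
          have h : Nat.card ↥W ∣ 4 ^ 6 := m.core.cardV ▸ AddSubgroup.card_addSubgroup_dvd_card _
          norm_num at h ⊢; exact h
        obtain ⟨k, -, hk⟩ := (Nat.dvd_prime_pow Nat.prime_two).1 hdvd
        have h33 : 32 < Nat.card ↥W := by nlinarith
        rw [hk] at h33 hW64 ⊢
        have : 5 < k := by
          by_contra h
          have : 2 ^ k ≤ 2 ^ 5 := Nat.pow_le_pow_right (by norm_num) (by omega)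
          omega
        have : k ≤ 6 := by
          by_contra h
          have : 2 ^ 7 ≤ 2 ^ k := Nat.pow_le_pow_right (by norm_num) (by omega)
          omega
        rw [show k = 6 by omega]
        rfl
      have hone : ∀ a ∈ A ⊓ M, a = 1 := fun a ha => m.core.faithful a fun v => by
        obtain ⟨x, hx, y, hy, rfl⟩ := m.core.span_fixed hs heM hWe hW'.ge v
        rw [smul_add, ← mul_smul, m.core.commute ha.2, mul_smul, hWfix hx a ha.1, hWfix hy a ha.1]
      rw [(Subgroup.eq_bot_iff_forall _).2 hone, Subgroup.card_bot] at h2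
      nlinarith
  have h16 := m.core.elem_le hAM hA
  norm_num at h11
  have hA16 : Nat.card ↥A = 16 := by nlinarith
  have hWeq : Nat.card ↥W = 64 := by nlinarith
  have hB128 : Nat.card ↥(B ⊓ Q) = 128 := by nlinarith
  have hcount : U43.fixCount ((A.subgroupOf M).map φ) ≠ U43.fixCount (((E ⊓ M).subgroupOf M).map φ) := fun hc => by
    have h4 := m.core.fixed_small hs hd hAM hA hA16.ge hc
    have h5 := Nat.le_of_dvd Nat.card_pos (AddSubgroup.card_dvd_of_le hWfix)
    omega
  obtain ⟨-, hF64, -, -⟩ := m.core.other_fixed hs hd hAM hA hA16 hcount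
  refine ⟨by rw [hBcard, hB128, hA16]; rfl, hB128, A, rfl, hAM, hA, hA16, hcount, fun x =>
    ⟨fun hx => hWfix ((hW _).2 ⟨x, hx, rfl⟩), fun hx => ?_⟩⟩
  -- the whole preimage of the fixed space
  let U : Subgroup ↥Q :=
    { carrier := {y | π y ∈ (fixSub A : AddSubgroup V)}
      one_mem' := by show π 1 ∈ (fixSub A : AddSubgroup V); rw [m.pi_one]; exact zero_mem _
      mul_mem' := fun {a b} ha hb => by
        show π (a * b) ∈ (fixSub A : AddSubgroup V)
        rw [m.pi_mul]; exact add_mem ha hb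
      inv_mem' := fun {a} ha => by
        show π a⁻¹ ∈ (fixSub A : AddSubgroup V)
        rw [m.pi_inv]; exact ha }
  obtain ⟨W', hW'm, hUW, -⟩ := m.card_fibre hF hzQ U
  have hW'le : Nat.card ↥W' ≤ 64 := by
    rw [← hF64]
    refine Nat.le_of_dvd Nat.card_pos (AddSubgroup.card_dvd_of_le fun v hv => ?_)
    obtain ⟨y, hy, rfl⟩ := (hW'm v).1 hv
    exact hy
  have hle : B.subgroupOf Q ≤ U := fun y hy => hWfix ((hW _).2 ⟨y, hy, rfl⟩)
  have heq : B.subgroupOf Q = U := Subgroup.eq_of_le_of_card_ge hle (by rw [← hBQ, hB128]; omega)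
  exact (heq.symm ▸ (show x ∈ U from hx) : x ∈ B.subgroupOf Q)

/-- Two such groups with the same image are equal. -/
theorem big_eq {B B' : Subgroup (centralizer ({z} : Set G))} (hB : Cfsg.IsElementaryAbelian 2 B) (h : 2 ^ 11 ≤ Nat.card ↥B)
    (hB' : Cfsg.IsElementaryAbelian 2 B') (h' : 2 ^ 11 ≤ Nat.card ↥B')
    (he : B.map (QuotientGroup.mk' Q) = B'.map (QuotientGroup.mk' Q)) : B' ≤ B := by
  obtain ⟨zQ, hzQ, hzπ, -, -, -⟩ := m.exists_zQ hF
  obtain ⟨-, hBQ, A, hA, -, -, -, -, hmem⟩ := m.big_facts hF hs hd hB h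
  obtain ⟨-, -, A', hA', -, -, -, -, hmem'⟩ := m.big_facts hF hs hd hB' h'
  have hAA : A' = A := by rw [hA', hA, he]
  intro b' hb'
  obtain ⟨b, hb, hbb⟩ : QuotientGroup.mk' Q b' ∈ B.map (QuotientGroup.mk' Q) := he ▸ ⟨b', hb', rfl⟩
  have hq : b⁻¹ * b' ∈ Q := QuotientGroup.eq.1 hbb
  have hcomm : ∀ a ∈ B.subgroupOf Q, (⟨_, hq⟩ : ↥Q) * a = a * ⟨_, hq⟩ := by
    intro a ha
    refine Subtype.ext ?_
    have ha' : (a : (centralizer ({z} : Set G))) ∈ B' := (hmem' a).2 (hAA ▸ (hmem a).1 ha)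
    have e1 : b' * (a : (centralizer ({z} : Set G))) = (a : (centralizer ({z} : Set G))) * b' :=
      congrArg Subtype.val (hB'.1.is_comm.comm (⟨b', hb'⟩ : ↥B') ⟨_, ha'⟩)
    have e2 : b⁻¹ * (a : (centralizer ({z} : Set G))) = (a : (centralizer ({z} : Set G))) * b⁻¹ :=
      congrArg Subtype.val (hB.1.is_comm.comm (⟨b⁻¹, inv_mem hb⟩ : ↥B) ⟨_, ha⟩)
    show b⁻¹ * b' * (a : (centralizer ({z} : Set G))) = (a : (centralizer ({z} : Set G))) * (b⁻¹ * b')
    rw [mul_assoc, e1, ← mul_assoc, e2, mul_assoc]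
  have hab : ∀ a ∈ B.subgroupOf Q, ∀ c ∈ B.subgroupOf Q, a * c = c * a := fun a ha c hc =>
    Subtype.ext (congrArg (fun w : ↥B => (w : (centralizer ({z} : Set G)))) (hB.1.is_comm.comm (⟨_, ha⟩ : ↥B) ⟨_, hc⟩))
  have hmemq := m.self_centralizing hab (by rw [← (card_split (Q := Q) B).2, hBQ]; rfl) hzQ
    (show (zQ : (centralizer ({z} : Set G))) ∈ B from (hmem zQ).2 (by rw [hzπ]; exact zero_mem _)) hcomm
  have : b * (b⁻¹ * b') ∈ B := mul_mem hb hmemq
  rwa [mul_inv_cancel_left] at this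

/-- In a two-subgroup there is at most one such group. -/
theorem big_unique {B B' T : Subgroup (centralizer ({z} : Set G))} (hT : IsPGroup 2 ↥T) (hBT : B ≤ T) (hBT' : B' ≤ T)
    (hB : Cfsg.IsElementaryAbelian 2 B) (h : 2 ^ 11 ≤ Nat.card ↥B)
    (hB' : Cfsg.IsElementaryAbelian 2 B') (h' : 2 ^ 11 ≤ Nat.card ↥B') : B = B' := by
  obtain ⟨-, -, A, hA, hAM, hAe, hA16, hAc, -⟩ := m.big_facts hF hs hd hB h
  obtain ⟨-, -, A', hA', hAM', hAe', hA16', hAc', -⟩ := m.big_facts hF hs hd hB' h'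
  obtain ⟨-, -, hE16, -⟩ := m.core.data_cards hd
  obtain ⟨h1, h2⟩ := m.core.elem_map hAM hAe
  obtain ⟨h1', h2'⟩ := m.core.elem_map hAM' hAe'
  obtain ⟨h10, h20⟩ := m.core.elem_map (A := E ⊓ M) inf_le_right (elem_inf hd.elem)
  let P : Subgroup ↥H4 := (((T.map (QuotientGroup.mk' Q)) ⊓ M).subgroupOf M).map φ
  have hP : IsPGroup 2 ↥P := by
    refine IsPGroup.map ?_ φ
    refine IsPGroup.of_equiv ?_ (subgroupOfEquivOfLe inf_le_right).symm
    exact (hT.map _).to_le inf_le_left
  have hle : (A.subgroupOf M).map φ ≤ P :=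
    Subgroup.map_mono fun x hx => ⟨Subgroup.map_mono hBT (hA.le hx), x.2⟩
  have hle' : (A'.subgroupOf M).map φ ≤ P :=
    Subgroup.map_mono fun x hx => ⟨Subgroup.map_mono hBT' (hA'.le hx), x.2⟩
  have heq := U43.unique_other (E₀ := ((E ⊓ M).subgroupOf M).map φ) h10 (by rw [h20, hE16]) hP hle hle'
    h1 h1' (by rw [h2, hA16]) (by rw [h2', hA16']) hAc hAc'
  have hsub : ∀ {X Y : Subgroup ((centralizer ({z} : Set G)) ⧸ Q)}, X ≤ M → Y ≤ M → Cfsg.IsElementaryAbelian 2 X →
      Cfsg.IsElementaryAbelian 2 Y → (X.subgroupOf M).map φ = (Y.subgroupOf M).map φ → X ≤ Y := by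
    intro X Y hX hY hXe hYe e x hx
    obtain ⟨y, hy, hyx⟩ : φ ⟨x, hX hx⟩ ∈ (Y.subgroupOf M).map φ := e ▸ ⟨⟨x, hX hx⟩, hx, rfl⟩
    have := m.core.eq_of_map y.2 (hX hx) (by rw [← pow_two]; exact hYe.2 _ hy)
      (by rw [← pow_two]; exact hXe.2 _ hx) hyx
    exact this ▸ hy
  have hAA : A = A' := le_antisymm (hsub hAM hAM' hAe hAe' heq) (hsub hAM' hAM hAe' hAe heq.symm)
  subst hA hA'
  exact le_antisymm (m.big_eq hF hs hd hB' h' hB h hAA.symm) (m.big_eq hF hs hd hB h hB' h' hAA)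

/-- There is an elementary subgroup of order `2^11`. -/
theorem exists_big : ∃ B : Subgroup (centralizer ({z} : Set G)), Cfsg.IsElementaryAbelian 2 B ∧ Nat.card ↥B = 2 ^ 11 := by
  classical
  obtain ⟨zQ, hzQ, hzπ, hzz, hzc, hz1⟩ := m.exists_zQ hF
  obtain ⟨A, hAM, hA, h16, hcount⟩ := m.core.exists_other_class (A₀ := E ⊓ M)
  obtain ⟨Y, g, hYM, hYcard, hAY, hnY, hY, hg, hgker⟩ := m.core.exists_norm hAM hA h16.ge
  obtain ⟨hsing, hF64, hnF, hperp⟩ := m.core.other_fixed hs hd hAM hA h16 hcount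
  let U : Subgroup ↥Q :=
    { carrier := {y | π y ∈ (fixSub A : AddSubgroup V)}
      one_mem' := by show π 1 ∈ (fixSub A : AddSubgroup V); rw [m.pi_one]; exact zero_mem _
      mul_mem' := fun {a b} ha hb => by
        show π (a * b) ∈ (fixSub A : AddSubgroup V)
        rw [m.pi_mul]; exact add_mem ha hb
      inv_mem' := fun {a} ha => by
        show π a⁻¹ ∈ (fixSub A : AddSubgroup V)
        rw [m.pi_inv]; exact ha }
  have hUiff : ∀ u : ↥Q, u ∈ U ↔ π u ∈ (fixSub A : AddSubgroup V) := fun u => Iff.rfl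
  have hUsq : ∀ u ∈ U, (u : (centralizer ({z} : Set G))) * u = 1 := fun u hu => congrArg Subtype.val ((m.sq u).1 (hsing _ hu))
  have hUc : ∀ u ∈ U, ∀ w ∈ U, (u : (centralizer ({z} : Set G))) * (w : (centralizer ({z} : Set G))) = (w : (centralizer ({z} : Set G))) * (u : (centralizer ({z} : Set G))) := fun u hu w hw =>
    (m.comm_iff hF u w).1 ((hperp.symm ▸ hu : π u ∈ perpSub q (fixSub A : AddSubgroup V)) _ hw)
  have hzU : zQ ∈ U := (hUiff _).2 (by rw [hzπ]; exact zero_mem _)
  have hU128 : Nat.card ↥U = 128 := by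
    obtain ⟨W, hW, -, h⟩ := m.card_fibre hF hzQ U
    rw [h hzU, show W = (fixSub A : AddSubgroup V) from AddSubgroup.ext fun v => ⟨fun hv => by
      obtain ⟨x, hx, rfl⟩ := (hW v).1 hv; exact hx, fun hv => by
      obtain ⟨x, rfl⟩ := m.surj v; exact (hW _).2 ⟨x, hv, rfl⟩⟩, hF64]
  let P : Subgroup (centralizer ({z} : Set G)) := A.comap (QuotientGroup.mk' Q)
  let UC : Subgroup (centralizer ({z} : Set G)) := U.map Q.subtype
  let B : Subgroup (centralizer ({z} : Set G)) := P ⊓ centralizer (UC : Set (centralizer ({z} : Set G)))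
  have hBiff : ∀ b : (centralizer ({z} : Set G)), b ∈ B ↔ QuotientGroup.mk' Q b ∈ A ∧ ∀ u ∈ U, b * (u : (centralizer ({z} : Set G))) = (u : (centralizer ({z} : Set G))) * b := by
    intro b
    refine and_congr Iff.rfl (mem_centralizer_iff.trans ⟨fun h u hu => (h _ ⟨u, hu, rfl⟩).symm, ?_⟩)
    rintro h _ ⟨u, hu, rfl⟩
    exact (h u hu).symm
  have hUB : ∀ u ∈ U, (u : (centralizer ({z} : Set G))) ∈ B := fun u hu => (hBiff _).2
    ⟨by rw [QuotientGroup.mk'_apply, (QuotientGroup.eq_one_iff _).2 u.2]; exact one_mem A, hUc u hu⟩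
  have hBQ : ∀ x : ↥Q, (x : (centralizer ({z} : Set G))) ∈ B → x ∈ U := fun x hx =>
    m.self_centralizing (fun a ha b hb => Subtype.ext (hUc a ha b hb)) hU128 hzQ hzU
      fun a ha => Subtype.ext (((hBiff _).1 hx).2 a ha)
  -- the image is all of `A`
  have hsurj : ∀ k ∈ A, ∃ b ∈ B, QuotientGroup.mk' Q b = k := by
    intro k hk
    obtain ⟨c, rfl⟩ := QuotientGroup.mk'_surjective Q k
    have hdich : ∀ u ∈ U, c * (u : (centralizer ({z} : Set G))) * c⁻¹ = u ∨ c * (u : (centralizer ({z} : Set G))) * c⁻¹ = (u : (centralizer ({z} : Set G))) * (zQ : (centralizer ({z} : Set G))) := fun u hu =>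
      m.conj_cases hF hzQ (hu _ hk)
    choose sec hsec using fun v : ↥(fixSub A : AddSubgroup V) => m.surj (v : V)
    let f : ↥(fixSub A : AddSubgroup V) → ZMod 2 := fun v =>
      if c * (sec v : (centralizer ({z} : Set G))) * c⁻¹ = (sec v : (centralizer ({z} : Set G))) then 0 else 1
    have hmove : ∀ u ∈ U, ∀ w ∈ U, π u = π w → (c * (u : (centralizer ({z} : Set G))) * c⁻¹ = u ↔ c * (w : (centralizer ({z} : Set G))) * c⁻¹ = w) := by
      intro u _ w _ huw
      rcases m.pi_eq_cases hF hzQ huw with e | e <;> rw [e]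
      rw [show c * ((u : (centralizer ({z} : Set G))) * (zQ : (centralizer ({z} : Set G)))) * c⁻¹ = c * (u : (centralizer ({z} : Set G))) * c⁻¹ * (zQ : (centralizer ({z} : Set G))) by
        rw [mul_assoc c, mul_assoc (u : (centralizer ({z} : Set G))), ← hzc c⁻¹]; simp [mul_assoc], mul_left_inj]
    have hf : ∀ u (hu : u ∈ U), f ⟨π u, hu⟩ = if c * (u : (centralizer ({z} : Set G))) * c⁻¹ = (u : (centralizer ({z} : Set G))) then 0 else 1 := fun u hu => by
      have := hmove (sec ⟨π u, hu⟩) (by rw [hUiff, hsec]; exact hu) u hu (hsec _)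
      simp only [f, this]
    let f' : ↥(fixSub A : AddSubgroup V) →+ ZMod 2 := AddMonoidHom.mk' f fun v w => by
      have hv : sec v ∈ U := by rw [hUiff, hsec]; exact v.2
      have hw : sec w ∈ U := by rw [hUiff, hsec]; exact w.2
      have e : v + w = (⟨π (sec v * sec w), mul_mem hv hw⟩ : ↥(fixSub A : AddSubgroup V)) :=
        Subtype.ext (show (v : V) + w = π (sec v * sec w) by rw [m.pi_mul, hsec, hsec])
      rw [e, hf _ (mul_mem hv hw)]
      simp only [f]
      have e2 : c * ((sec v * sec w : ↥Q) : (centralizer ({z} : Set G))) * c⁻¹ =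
          (c * (sec v : (centralizer ({z} : Set G))) * c⁻¹) * (c * (sec w : (centralizer ({z} : Set G))) * c⁻¹) := by rw [Subgroup.coe_mul]; group
      have hzz' : (zQ : (centralizer ({z} : Set G))) * (zQ : (centralizer ({z} : Set G))) = 1 := congrArg Subtype.val hzz
      rcases hdich _ hv with a | a <;> rcases hdich _ hw with b | b <;> rw [e2, a, b, Subgroup.coe_mul]
      · simp
      · rw [if_neg, if_pos rfl, if_neg]
        · rfl
        · intro h; exact hz1 (mul_eq_left.1 h)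
        · rw [← mul_assoc]; intro h; exact hz1 (mul_eq_left.1 h)
      · rw [if_neg, if_neg, if_pos rfl]
        · rfl
        · intro h; exact hz1 (mul_eq_left.1 h)
        · rw [mul_assoc (sec v : (centralizer ({z} : Set G))), ← hzc (sec w : (centralizer ({z} : Set G))), ← mul_assoc]; intro h; exact hz1 (mul_eq_left.1 h)
      · rw [if_pos, if_neg, if_neg]
        · decide
        · intro h; exact hz1 (mul_eq_left.1 h)
        · intro h; exact hz1 (mul_eq_left.1 h)
        · rw [mul_assoc (sec v : (centralizer ({z} : Set G))), ← mul_assoc (zQ : (centralizer ({z} : Set G))), ← hzc (sec w : (centralizer ({z} : Set G))), mul_assoc (sec w : (centralizer ({z} : Set G))), hzz',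
            mul_one]
    obtain ⟨v, hv⟩ := exists_polar q m.core.nondeg (fixSub A : AddSubgroup V) f'
    obtain ⟨p, rfl⟩ := m.surj v
    refine ⟨c * (p : (centralizer ({z} : Set G))), (hBiff _).2 ⟨?_, fun u hu => ?_⟩, ?_⟩
    · rw [map_mul, QuotientGroup.mk'_apply Q (p : (centralizer ({z} : Set G))), (QuotientGroup.eq_one_iff _).2 p.2, mul_one]
      exact hk
    · have hpol : polar q (π p) (π u) = if c * (u : (centralizer ({z} : Set G))) * c⁻¹ = (u : (centralizer ({z} : Set G))) then 0 else 1 :=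
        (hv ⟨π u, hu⟩).trans (hf u hu)
      by_cases hcu : c * (u : (centralizer ({z} : Set G))) * c⁻¹ = (u : (centralizer ({z} : Set G)))
      · rw [if_pos hcu] at hpol
        rw [mul_assoc, (m.comm_iff hF p u).1 hpol, ← mul_assoc, mul_inv_eq_iff_eq_mul.1 hcu, mul_assoc]
      · rw [if_neg hcu] at hpol
        have hcu' := (hdich u hu).resolve_left hcu
        have hpu : (p : (centralizer ({z} : Set G))) * (u : (centralizer ({z} : Set G))) * (p : (centralizer ({z} : Set G)))⁻¹ = (u : (centralizer ({z} : Set G))) * (zQ : (centralizer ({z} : Set G))) := by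
          refine (m.conj_cases hF hzQ (c := (p : (centralizer ({z} : Set G)))) (u := u) ?_).resolve_left fun e => ?_
          · rw [(QuotientGroup.eq_one_iff _).2 p.2, one_smul]
          · rw [(m.comm_iff hF p u).2 (mul_inv_eq_iff_eq_mul.1 e)] at hpol
            exact zero_ne_one hpol
        have hzz' : (zQ : (centralizer ({z} : Set G))) * (zQ : (centralizer ({z} : Set G))) = 1 := congrArg Subtype.val hzz
        calc c * (p : (centralizer ({z} : Set G))) * (u : (centralizer ({z} : Set G))) = c * ((p : (centralizer ({z} : Set G))) * (u : (centralizer ({z} : Set G))) * (p : (centralizer ({z} : Set G)))⁻¹) * (p : (centralizer ({z} : Set G))) := by group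
          _ = (c * (u : (centralizer ({z} : Set G))) * c⁻¹) * (c * (zQ : (centralizer ({z} : Set G)))) * (p : (centralizer ({z} : Set G))) := by rw [hpu]; group
          _ = (u : (centralizer ({z} : Set G))) * ((zQ : (centralizer ({z} : Set G))) * (zQ : (centralizer ({z} : Set G)))) * c * (p : (centralizer ({z} : Set G))) := by rw [hcu', hzc c]; group
          _ = (u : (centralizer ({z} : Set G))) * (c * (p : (centralizer ({z} : Set G)))) := by rw [hzz']; group
    · rw [map_mul, QuotientGroup.mk'_apply Q (p : (centralizer ({z} : Set G))), (QuotientGroup.eq_one_iff _).2 p.2, mul_one]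
  have hcardB : Nat.card ↥B = 2 ^ 11 := by
    obtain ⟨h1, h2⟩ := card_split (Q := Q) B
    have e1 : B.map (QuotientGroup.mk' Q) = A := le_antisymm
      (fun _ ⟨b, hb, hbk⟩ => hbk ▸ ((hBiff b).1 hb).1) fun k hk => hsurj k hk
    have e2 : B.subgroupOf Q = U := SetLike.ext fun x => ⟨hBQ x, hUB x⟩
    rw [h1, h2, e1, e2, hU128, h16]
    rfl
  -- an element of order three over `n`
  obtain ⟨x, hx3, hxn⟩ : ∃ x : (centralizer ({z} : Set G)), x ^ 3 = 1 ∧ QuotientGroup.mk' Q x = n := by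
    obtain ⟨x0, rfl⟩ := QuotientGroup.mk'_surjective Q n
    have h3 : x0 ^ 3 ∈ Q := by
      rw [← QuotientGroup.eq_one_iff, QuotientGroup.mk_pow, ← m.core.ordn]
      exact pow_orderOf_eq_one _
    have h := pow_card_eq_one' (x := (⟨_, h3⟩ : ↥Q))
    rw [hF.1.2.2.2.1] at h
    have h' : (x0 ^ 3) ^ (2 ^ 13) = 1 := congrArg Subtype.val h
    refine ⟨x0 ^ 16384, ?_, ?_⟩
    · rw [← pow_mul, show 16384 * 3 = (3 * 2 ^ 13) * 2 by norm_num, pow_mul, pow_mul, h', one_pow]
    · rw [map_pow, ← pow_mod_orderOf, m.core.ordn, show 16384 % 3 = 1 by norm_num, pow_one]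
  have hBY : ∀ y : (centralizer ({z} : Set G)), QuotientGroup.mk' Q y ∈ Y → ∀ b ∈ B, y * b * y⁻¹ ∈ B := by
    intro y hy b hb
    obtain ⟨hb1, hb2⟩ := (hBiff b).1 hb
    refine (hBiff _).2 ⟨by rw [map_mul, map_mul, map_inv]; exact hY _ hy _ hb1, fun u hu => ?_⟩
    have hu' : MulAut.conjNormal y⁻¹ u ∈ U := by
      rw [hUiff, ← m.equiv]
      exact Core.smul_fixSub hY (by rw [QuotientGroup.mk_inv]; exact Y.inv_mem hy) hu
    have h := hb2 _ hu'
    rw [MulAut.conjNormal_apply, inv_inv] at h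
    calc y * b * y⁻¹ * (u : (centralizer ({z} : Set G))) = y * (b * (y⁻¹ * (u : (centralizer ({z} : Set G))) * y)) * y⁻¹ := by group
      _ = (u : (centralizer ({z} : Set G))) * (y * b * y⁻¹) := by rw [h]; group
  have hzcases : ∀ b ∈ B, b ∈ Q → b * x = x * b → b = 1 ∨ b = (zQ : (centralizer ({z} : Set G))) := by
    intro b hb hbQ hbx
    refine m.eq_one_or_z hF hzQ (x := (⟨b, hbQ⟩ : ↥Q)) (m.core.fixN_eq_zero hs ?_)
    rw [← hxn]
    exact m.fixed_of_comm hF hbx.symm
  have hUcent : ∀ b ∈ B, ∀ u ∈ U, b * (u : (centralizer ({z} : Set G))) = (u : (centralizer ({z} : Set G))) * b := fun b hb => ((hBiff b).1 hb).2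
  have hdec : ∀ b ∈ B, ∃ a ∈ B, ∃ u ∈ U, b = a * (u : (centralizer ({z} : Set G))) ∧ a * x = x * a := by
    intro b hb
    have hb' := hBY x (by rw [hxn]; exact hnY) b hb
    have hwQ : b⁻¹ * (x * b * x⁻¹) ∈ Q := by
      rw [← QuotientGroup.eq_one_iff]
      show QuotientGroup.mk' Q _ = 1
      rw [map_mul, map_mul, map_mul, map_inv, map_inv, hxn, ← m.core.commute (hAM ((hBiff b).1 hb).1),
        mul_inv_cancel_right, inv_mul_cancel]
    set w : ↥Q := ⟨_, hwQ⟩ with hwdef
    have hw : w ∈ U := hBQ w (mul_mem (inv_mem hb) hb')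
    have hmem : n • π w ∈ (fixSub A : AddSubgroup V) := hnF _ hw
    obtain ⟨u, hu⟩ := m.surj (n • π w)
    have huU : u ∈ U := by rw [hUiff, hu]; exact hmem
    have hxu : ((MulAut.conjNormal x u : ↥Q) : (centralizer ({z} : Set G))) = x * u * x⁻¹ := MulAut.conjNormal_apply _ _
    have hpi : π u = π (w * MulAut.conjNormal x u) := by
      rw [m.pi_mul, ← m.equiv, show (QuotientGroup.mk x : (centralizer ({z} : Set G)) ⧸ Q) = n from hxn, hu, m.core.n_quad hs,
        ← add_assoc, vadd_self, zero_add]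
    have hval : x * (b * (u : (centralizer ({z} : Set G)))) * x⁻¹ = b * ((w * MulAut.conjNormal x u : ↥Q) : (centralizer ({z} : Set G))) := by
      rw [Subgroup.coe_mul, hxu, hwdef]; group
    refine ⟨b * (u : (centralizer ({z} : Set G))), mul_mem hb (hUB u huU), u⁻¹, inv_mem huU, by simp, ?_⟩
    rcases m.pi_eq_cases hF hzQ hpi with e | e <;> rw [e] at hval
    · exact (mul_inv_eq_iff_eq_mul.1 hval).symm
    · exfalso
      set d := b * (u : (centralizer ({z} : Set G)))
      have e1 : x * d * x⁻¹ = d * (zQ : (centralizer ({z} : Set G))) := by rw [hval, ← mul_assoc]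
      have e2 : ∀ k : ℕ, x ^ k * d * (x ^ k)⁻¹ = d * (zQ : (centralizer ({z} : Set G))) ^ k := by
        intro k
        induction k with
        | zero => simp
        | succ k ih =>
          calc x ^ (k + 1) * d * (x ^ (k + 1))⁻¹ = x * (x ^ k * d * (x ^ k)⁻¹) * x⁻¹ := by
                rw [pow_succ']; group
            _ = x * d * x⁻¹ * (zQ : (centralizer ({z} : Set G))) ^ k := by
                rw [ih]
                have hk : (zQ : (centralizer ({z} : Set G))) ^ k * x⁻¹ = x⁻¹ * (zQ : (centralizer ({z} : Set G))) ^ k :=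
                  (Commute.pow_left (hzc x⁻¹).symm k).eq
                rw [mul_assoc, mul_assoc d, hk]; group
            _ = d * (zQ : (centralizer ({z} : Set G))) ^ (k + 1) := by rw [e1, pow_succ']; group
      have e3 := e2 3
      rw [hx3, inv_one, one_mul, mul_one, left_eq_mul] at e3
      apply hz1
      have hzz' : (zQ : (centralizer ({z} : Set G))) * (zQ : (centralizer ({z} : Set G))) = 1 := congrArg Subtype.val hzz
      rwa [pow_succ, pow_two, hzz', one_mul] at e3
  have hsq : ∀ b ∈ B, b * b = 1 ∨ b * b = (zQ : (centralizer ({z} : Set G))) := by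
    intro b hb
    obtain ⟨a, ha, u, hu, rfl, hax⟩ := hdec b hb
    have e : a * (u : (centralizer ({z} : Set G))) * (a * (u : (centralizer ({z} : Set G)))) = a * a := by
      rw [mul_assoc, ← mul_assoc (u : (centralizer ({z} : Set G))), ← hUcent a ha u hu, mul_assoc a (u : (centralizer ({z} : Set G))), hUsq u hu, mul_one]
    rw [e]
    refine hzcases _ (mul_mem ha ha) ?_ (Commute.mul_left hax hax)
    rw [← QuotientGroup.eq_one_iff]
    show QuotientGroup.mk' Q (a * a) = 1
    rw [map_mul, ← pow_two]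
    exact hA.2 _ ((hBiff a).1 ha).1
  -- the images of involutions
  let S : Set ((centralizer ({z} : Set G)) ⧸ Q) := {k | k ∈ A ∧ k ≠ 1 ∧ ∃ b ∈ B, QuotientGroup.mk' Q b = k ∧ b * b = 1}
  have hcoset : ∀ b ∈ B, ∀ b' ∈ B, QuotientGroup.mk' Q b = QuotientGroup.mk' Q b' → b' * b' = b * b := by
    intro b hb b' hb' e
    have hu := hBQ ⟨_, QuotientGroup.eq.1 e⟩ (mul_mem (inv_mem hb) hb')
    set u : ↥Q := ⟨b⁻¹ * b', QuotientGroup.eq.1 e⟩
    have hb'u : b' = b * (u : (centralizer ({z} : Set G))) := by simp [u]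
    rw [hb'u, mul_assoc, ← mul_assoc (u : (centralizer ({z} : Set G))), ← hUcent b hb u hu, mul_assoc b (u : (centralizer ({z} : Set G))), hUsq u hu, mul_one]
  have hinv : ∀ y ∈ Y, ∀ k ∈ S, y * k * y⁻¹ ∈ S := by
    rintro y hy _ ⟨hk, hk1, b, hb, rfl, hb2⟩
    obtain ⟨c, rfl⟩ := QuotientGroup.mk'_surjective Q y
    refine ⟨hY _ hy _ hk, fun e => hk1 ?_, c * b * c⁻¹, hBY c hy b hb, by simp, ?_⟩
    · rwa [mul_inv_eq_one, mul_eq_left] at e
    · rw [show c * b * c⁻¹ * (c * b * c⁻¹) = c * (b * b) * c⁻¹ by group, hb2, mul_one, mul_inv_cancel]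
  refine ⟨B, ?_, hcardB⟩
  rcases m.core.invariant_cases hAM hA h16 hYM hYcard hg hgker hY S (fun k hk => ⟨hk.1, hk.2.1⟩) hinv with h0 | hall
  · -- no involution off `Q` : impossible
    exfalso
    have hno : ∀ b ∈ B, QuotientGroup.mk' Q b ≠ 1 → b * b = (zQ : (centralizer ({z} : Set G))) := fun b hb hb1 =>
      (hsq b hb).resolve_left fun e => by
        have : QuotientGroup.mk' Q b ∈ S := ⟨((hBiff b).1 hb).1, hb1, b, hb, rfl, e⟩
        rw [h0] at this
        exact this
    have hzz' : (zQ : (centralizer ({z} : Set G))) * (zQ : (centralizer ({z} : Set G))) = 1 := congrArg Subtype.val hzz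
    have hanti : ∀ a ∈ B, ∀ b ∈ B, QuotientGroup.mk' Q a ≠ 1 → QuotientGroup.mk' Q b ≠ 1 →
        QuotientGroup.mk' Q a * QuotientGroup.mk' Q b ≠ 1 → b * a = a * b * (zQ : (centralizer ({z} : Set G))) := by
      intro a ha b hb ha1 hb1 hab
      have e1 := hno a ha ha1
      have e2 := hno b hb hb1
      have e3 := hno (a * b) (mul_mem ha hb) (by rwa [map_mul])
      calc b * a = a⁻¹ * (a * b * (a * b)) * b⁻¹ := by group
        _ = a⁻¹ * (b⁻¹ * (zQ : (centralizer ({z} : Set G)))) := by rw [e3, mul_assoc, ← hzc b⁻¹]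
        _ = (a * (zQ : (centralizer ({z} : Set G)))) * (b * (zQ : (centralizer ({z} : Set G))) * (zQ : (centralizer ({z} : Set G)))) := by
          rw [show a⁻¹ = a * (zQ : (centralizer ({z} : Set G))) from inv_eq_of_mul_eq_one_right (by rw [← mul_assoc, e1, hzz']),
            show b⁻¹ = b * (zQ : (centralizer ({z} : Set G))) from inv_eq_of_mul_eq_one_right (by rw [← mul_assoc, e2, hzz'])]
        _ = a * b * (zQ : (centralizer ({z} : Set G))) := by rw [mul_assoc b, hzz', mul_one, mul_assoc, ← hzc b, mul_assoc]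
    have hex : ∀ T : Set ((centralizer ({z} : Set G)) ⧸ Q), T.ncard ≤ 4 → ∃ b ∈ B, QuotientGroup.mk' Q b ∉ T := fun T hT => by
      obtain ⟨k, hk, hkT⟩ : ∃ k ∈ (A : Set ((centralizer ({z} : Set G)) ⧸ Q)), k ∉ T := Set.exists_mem_notMem_of_ncard_lt_ncard
        (by rw [← Nat.card_coe_set_eq (A : Set ((centralizer ({z} : Set G)) ⧸ Q))]; exact lt_of_le_of_lt hT (by
          show 4 < Nat.card ↥A
          omega)) (Set.toFinite _)
      obtain ⟨b, hb, rfl⟩ := hsurj k hk
      exact ⟨b, hb, hkT⟩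
    obtain ⟨a, ha, ha1⟩ := hex {1} (by simp)
    simp only [Set.mem_singleton_iff] at ha1
    obtain ⟨b, hb, hb1⟩ := hex {1, QuotientGroup.mk' Q a} (by
      have := Set.ncard_insert_le (1 : (centralizer ({z} : Set G)) ⧸ Q) {QuotientGroup.mk' Q a}
      rw [Set.ncard_singleton] at this; omega)
    simp only [Set.mem_insert_iff, Set.mem_singleton_iff, not_or] at hb1
    obtain ⟨d, hd', hd1⟩ := hex {1, QuotientGroup.mk' Q a, QuotientGroup.mk' Q b,
        QuotientGroup.mk' Q a * QuotientGroup.mk' Q b} (by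
      have h1 := Set.ncard_insert_le (1 : (centralizer ({z} : Set G)) ⧸ Q) {QuotientGroup.mk' Q a, QuotientGroup.mk' Q b,
        QuotientGroup.mk' Q a * QuotientGroup.mk' Q b}
      have h2 := Set.ncard_insert_le (QuotientGroup.mk' Q a) {QuotientGroup.mk' Q b,
        QuotientGroup.mk' Q a * QuotientGroup.mk' Q b}
      have h3 := Set.ncard_insert_le (QuotientGroup.mk' Q b) {QuotientGroup.mk' Q a * QuotientGroup.mk' Q b}
      rw [Set.ncard_singleton] at h3; omega)
    simp only [Set.mem_insert_iff, Set.mem_singleton_iff, not_or] at hd1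
    have hinv2 : ∀ k ∈ A, k⁻¹ = k := fun k hk => inv_eq_of_mul_eq_one_left (by rw [← pow_two]; exact hA.2 k hk)
    have hne : ∀ {k l : (centralizer ({z} : Set G)) ⧸ Q}, k ∈ A → l ≠ k → k * l ≠ 1 := fun hk hkl e =>
      hkl ((inv_eq_of_mul_eq_one_right e).symm.trans (hinv2 _ hk))
    have hA' := ((hBiff a).1 ha).1
    have hB' := ((hBiff b).1 hb).1
    have eab := hne hA' hb1.2
    have c1 := hanti a ha d hd' ha1 hd1.1 (hne hA' hd1.2.1)
    have c2 := hanti b hb d hd' hb1.1 hd1.1 (hne hB' hd1.2.2.1)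
    have c3 := hanti (a * b) (mul_mem ha hb) d hd' (by rwa [map_mul]) hd1.1
      (hne (mul_mem ((hBiff _).1 ha).1 hB' |> fun h => by rwa [map_mul]) (by rw [map_mul]; exact hd1.2.2.2))
    have c4 : d * (a * b) = a * b * d := by
      calc d * (a * b) = (d * a) * b := by group
        _ = a * d * ((zQ : (centralizer ({z} : Set G))) * b) := by rw [c1]; group
        _ = a * (d * b) * (zQ : (centralizer ({z} : Set G))) := by rw [← hzc b]; group
        _ = a * b * d * ((zQ : (centralizer ({z} : Set G))) * (zQ : (centralizer ({z} : Set G)))) := by rw [c2]; group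
        _ = _ := by rw [hzz', mul_one]
    rw [c4] at c3
    exact hz1 (left_eq_mul.1 c3)
  · have hone : ∀ b ∈ B, b * b = 1 := by
      intro b hb
      by_cases hb1 : QuotientGroup.mk' Q b = 1
      · exact hUsq _ (hBQ ⟨b, (QuotientGroup.eq_one_iff _).1 hb1⟩ hb)
      · obtain ⟨-, -, b', hb', e, he⟩ := hall _ ((hBiff b).1 hb).1 hb1
        rw [hcoset b' hb' b hb e, he]
    refine ⟨⟨⟨fun a b => Subtype.ext ?_⟩⟩, fun b hb => by rw [pow_two]; exact hone b hb⟩
    have e1 := inv_eq_of_mul_eq_one_left (hone _ (mul_mem a.2 b.2))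
    rw [mul_inv_rev, inv_eq_of_mul_eq_one_left (hone _ a.2), inv_eq_of_mul_eq_one_left (hone _ b.2)] at e1
    exact e1.symm

end CfsgLib.LargeFischer.Model
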