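import Cfsg.Agent.Lib.LargeFischer.Core

/-!
# The two orbits on singular vectors
-/

set_option autoImplicit false
set_option linter.unusedSectionVars false

namespace CfsgLib.LargeFischer.Core

open QuadraticMap
open CfsgLib.Schur.Tails.UFour (H4 card_H4)

variable {V : Type*} [AddCommGroup V] [Module (ZMod 2) V] [Finite V]
  {K : Type*} [Group K] [Finite K] [DistribMulAction K V]
  {q : QuadraticForm (ZMod 2) V} {n : K} {M : Subgroup K} {φ : ↥M →* ↥H4} (c : Core q n M φ) {s : V}
  (hs : Central q K s)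

include c hs

theorem smul_n_ne {v : V} (hv : v ≠ 0) : n • v ≠ v := fun e => hv (c.fixN_eq_zero hs e)

theorem smul_zn_ne {v : V} (hv : v ≠ 0) {x : K} (hx : x ∈ Subgroup.zpowers n) (hx1 : x ≠ 1) : x • v ≠ v :=
  fun e => c.smul_n_ne hs hv (c.smul_zn_eq hx hx1 e)

theorem zeros_card : Nat.card {v : V // q v = 0} = 2080 := by
  refine (c.zeros_six).resolve_right fun h => ?_
  haveI := Fact.mk Nat.prime_three
  letI : MulAction ↥(Subgroup.zpowers n) {v : V // q v = 0} :=
    { smul := fun a v => ⟨(a : K) • v.1, by rw [c.isom]; exact v.2⟩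
      one_smul := fun v => Subtype.ext (one_smul K v.1)
      mul_smul := fun a b v => Subtype.ext (mul_smul (a : K) (b : K) v.1) }
  have hp : IsPGroup 3 ↥(Subgroup.zpowers n) := IsPGroup.of_card (n := 1) (by rw [c.card_zn, pow_one])
  have h1 := hp.card_modEq_card_fixedPoints {v : V // q v = 0}
  have h2 : MulAction.fixedPoints ↥(Subgroup.zpowers n) {v : V // q v = 0} = {⟨0, q_zero q⟩} := by
    ext v
    simp only [MulAction.mem_fixedPoints, Set.mem_singleton_iff]
    constructor
    · intro hv
      have := congrArg Subtype.val (hv ⟨n, Subgroup.mem_zpowers n⟩)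
      exact Subtype.ext (c.fixN_eq_zero hs this)
    · rintro rfl a
      exact Subtype.ext (smul_zero (a : K))
  rw [h, h2, Nat.card_coe_set_eq, Set.ncard_singleton] at h1
  exact absurd h1 (by decide)

/-- The nonzero singular vectors. -/
theorem singular_ncard : ({v : V | q v = 0 ∧ v ≠ 0}).ncard = 2079 := by
  have h : ({v : V | q v = 0}).ncard = 2080 := by rw [← Nat.card_coe_set_eq]; exact c.zeros_card hs
  have e : ({v : V | q v = 0 ∧ v ≠ 0}) = {v : V | q v = 0} \ {0} := rfl
  rw [e, Set.ncard_sdiff (by simp [q_zero]), h, Set.ncard_singleton]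

omit hs in
theorem orbit_subset {v : V} (hv : q v = 0) (hv0 : v ≠ 0) :
    MulAction.orbit K v ⊆ {u | q u = 0 ∧ u ≠ 0} :=
  fun _ hu => ⟨c.orbit_singular hv hu, c.orbit_ne_zero hv0 hu⟩

theorem central_facts : Nat.card ↥(MulAction.stabilizer K s) = 11520 ∧
    Nat.card ↥(MulAction.stabilizer K s ⊓ M) = 5760 ∧ (MulAction.orbit K s).ncard = 1701 := by
  obtain ⟨E, D, hd⟩ := hs.data
  obtain ⟨-, hb2, hmul⟩ := c.stab_bound hd
  obtain ⟨hX, hdvd⟩ := hb2 (c.smul_n_ne hs hs.ne)
  have horb := c.orbit_card s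
  have h1 := Set.ncard_le_ncard (c.orbit_subset (c.sing_s hd) hs.ne) (Set.toFinite _)
  rw [c.singular_ncard hs] at h1
  have h2 : 9000 < Nat.card ↥(MulAction.stabilizer K s) := by
    by_contra h
    have := Nat.mul_le_mul h1 (not_lt.1 h)
    omega
  obtain ⟨k, hk⟩ := hdvd
  have hk1 : k = 1 := by
    rcases k with _ | _ | k
    · omega
    · rfl
    · exfalso
      have h5 : 2 * Nat.card ↥(MulAction.stabilizer K s ⊓ M) ≤ 5760 := by rw [hk]; nlinarith
      omega
  subst hk1
  rw [mul_one] at hk
  refine ⟨by omega, hk.symm, ?_⟩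
  rw [hmul, ← hk] at horb
  omega

theorem mem_orbit {s' : V} (hs' : Central q K s') : s' ∈ MulAction.orbit K s := by
  by_contra hne
  obtain ⟨E, D, hd⟩ := hs.data
  obtain ⟨E', D', hd'⟩ := hs'.data
  have hdis : Disjoint (MulAction.orbit K s) (MulAction.orbit K s') := by
    rw [Set.disjoint_left]
    intro u hu hu'
    apply hne
    rw [← MulAction.orbit_eq_iff.2 hu, MulAction.orbit_eq_iff.2 hu']
    exact MulAction.mem_orbit_self s'
  have h := Set.ncard_le_ncard (Set.union_subset (c.orbit_subset (c.sing_s hd) hs.ne)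
    (c.orbit_subset (c.sing_s hd') hs'.ne)) (Set.toFinite _)
  rw [Set.ncard_union_eq hdis (Set.toFinite _) (Set.toFinite _), c.singular_ncard hs, (c.central_facts hs).2.2,
    (c.central_facts hs').2.2] at h
  omega

/-- A nonzero singular vector outside the orbit of the central vector. -/
theorem exists_rest : ∃ v : V, q v = 0 ∧ v ≠ 0 ∧ v ∉ MulAction.orbit K s := by
  by_contra h
  simp only [not_exists, not_and, not_not] at h
  have h1 := Set.ncard_le_ncard (s := {u : V | q u = 0 ∧ u ≠ 0}) (t := MulAction.orbit K s)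
    (fun u hu => h u hu.1 hu.2) (Set.toFinite _)
  rw [c.singular_ncard hs, (c.central_facts hs).2.2] at h1
  omega

/-- A vector fixed by every involution of `M` vanishes. -/
theorem fixed_involutions {v : V} (hv : ∀ m ∈ M, m * m = 1 → m • v = v) : v = 0 := by
  obtain ⟨E, D, hd⟩ := hs.data
  have horth : ∀ k : K, polar q v (k • s) = 0 := by
    intro k
    have hv' : ∀ e ∈ E ⊓ M, e • k⁻¹ • v = k⁻¹ • v := by
      intro e he
      have h1 : k * e * k⁻¹ ∈ M := c.M_normal.conj_mem e he.2 k
      have h2 : (k * e * k⁻¹) * (k * e * k⁻¹) = 1 := by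
        rw [show k * e * k⁻¹ * (k * e * k⁻¹) = k * (e * e) * k⁻¹ by group, ← pow_two, hd.elem.2 e he.1, mul_one,
          mul_inv_cancel]
      calc e • k⁻¹ • v = k⁻¹ • (k * e * k⁻¹) • v := by rw [← mul_smul, ← mul_smul]; group
        _ = k⁻¹ • v := by rw [hv _ h1 h2]
    have h := c.perp_of_fixed hd hv'
    rwa [← c.polar_smul k, smul_inv_smul] at h
  by_contra hv0
  have hsub : MulAction.orbit K s ⊆ {u | q u = 0 ∧ polar q v u = 0} \ {0} := by
    intro u hu
    obtain ⟨h1, h2⟩ := c.orbit_subset (c.sing_s hd) hs.ne hu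
    obtain ⟨k, rfl⟩ := hu
    exact ⟨⟨h1, horth k⟩, h2⟩
  have h1 := Set.ncard_le_ncard hsub (Set.toFinite _)
  rw [(c.central_facts hs).2.2, Set.ncard_sdiff (by simp [q_zero, QuadraticMap.polar_zero_right]),
    Set.ncard_singleton] at h1
  by_cases hq : q v = 0
  · have h2 := zeros_perp_le q c.nondeg 6 c.cardV hq hv0
    have h3 : ({u : V | q u = 0 ∧ polar q v u = 0}).ncard = Nat.card {u : V // q u = 0 ∧ polar q v u = 0} :=
      (Nat.card_coe_set_eq _).symm
    norm_num at h2
    omega
  · -- the map adding a nonsingular vector flips the form on its orthogonal space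
    have hq1 : q v = 1 := (z2_cases _).resolve_left hq
    set A : Set V := {u | q u = 0 ∧ polar q v u = 0}
    set B : Set V := (fun u => u + v) '' A
    have hdis : Disjoint A B := by
      rw [Set.disjoint_left]
      rintro _ hu ⟨u, hu', rfl⟩
      have h := hu.1
      rw [q_add, hu'.1, hq1, QuadraticMap.polar_comm, hu'.2] at h
      exact absurd h (by decide)
    have hB : B.ncard = A.ncard := Set.ncard_image_of_injective _ fun a b e => add_right_cancel e
    have hsub' : A ∪ B ⊆ {u | polar q v u = 0} := by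
      rintro u (hu | ⟨u, hu, rfl⟩)
      · exact hu.2
      · show polar q v (u + v) = 0
        rw [QuadraticMap.polar_add_right, hu.2, polar_self_zero, add_zero]
    have h2 := Set.ncard_le_ncard hsub' (Set.toFinite _)
    rw [Set.ncard_union_eq hdis (Set.toFinite _) (Set.toFinite _), hB] at h2
    obtain ⟨w, hw⟩ : ∃ w, polar q v w ≠ 0 := by
      by_contra hc
      simp only [not_exists, not_not] at hc
      exact hv0 (c.nondeg v hc)
    have h3 : 2 * ({u : V | polar q v u = 0}).ncard ≤ 4096 := by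
      set P : Set V := {u | polar q v u = 0}
      have hd2 : Disjoint P ((fun u => u + w) '' P) := by
        rw [Set.disjoint_left]
        rintro _ hu ⟨u, hu', rfl⟩
        have h : polar q v (u + w) = 0 := hu
        rw [QuadraticMap.polar_add_right, show polar q v u = 0 from hu', zero_add] at h
        exact hw h
      have h := Set.ncard_le_ncard (Set.subset_univ (P ∪ (fun u => u + w) '' P)) (Set.toFinite _)
      rw [Set.ncard_union_eq hd2 (Set.toFinite _) (Set.toFinite _),
        Set.ncard_image_of_injective _ (fun a b e => add_right_cancel e), Set.ncard_univ, c.cardV] at h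
      norm_num at h
      omega
    omega

/-- The subgroup of `M` stabilising the line of a vector. -/
theorem line_index {v : V} (hv0 : v ≠ 0) {A : Subgroup K}
    (hA : ∀ m : K, m ∈ A ↔ m ∈ M ∧ m • v ∈ (MulAction.orbit ↥(Subgroup.zpowers n) v)) : 112 ≤ A.relIndex M := by
  by_contra h
  have hn : n ∈ A := (hA n).2 ⟨c.nM, ⟨⟨n, Subgroup.mem_zpowers n⟩, rfl⟩⟩
  have hle := c.le_of_relIndex hn (by omega)
  refine hv0 (c.fixed_involutions hs fun m hm hmm => ?_)
  obtain ⟨⟨a, ha⟩, hav⟩ := ((hA m).1 (hle hm)).2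
  have hav' : a • v = m • v := hav
  have hcomm : m * a = a * m := by
    rcases c.zn_cases ha with rfl | rfl | rfl
    · simp
    · exact c.commute hm
    · rw [← mul_assoc, c.commute hm, mul_assoc, c.commute hm, mul_assoc]
  have h2 : (a * a) • v = v := by
    calc (a * a) • v = a • m • v := by rw [mul_smul, hav']
      _ = (m * a) • v := by rw [hcomm, mul_smul]
      _ = (m * m) • v := by rw [mul_smul, hav', mul_smul]
      _ = v := by rw [hmm, one_smul]
  by_cases ha1 : a * a = 1
  · have : a = 1 := by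
      rcases c.zn_cases ha with rfl | rfl | rfl
      · rfl
      · exfalso
        have := c.n_three
        rw [ha1, one_mul] at this
        exact c.n_ne this
      · exfalso
        rw [← mul_assoc, c.n_three, one_mul] at ha1
        exact c.n_ne ha1
    rw [this, one_smul] at hav'
    exact hav'.symm
  · exact absurd h2 (c.smul_zn_ne hs hv0 (mul_mem ha ha) ha1)

/-- The vectors outside the orbit of the central vector form one orbit of `M`. -/
theorem rest_facts {v : V} (hv : q v = 0) (hv0 : v ≠ 0) (hvs : v ∉ MulAction.orbit K s) :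
    (MulAction.orbit K v).ncard = 378 ∧ (MulAction.orbit ↥M v).ncard = 378 ∧
      (∀ u : V, q u = 0 → u ≠ 0 → u ∉ MulAction.orbit K s → u ∈ MulAction.orbit K v) := by
  obtain ⟨E, D, hd⟩ := hs.data
  set R : Set V := {u | q u = 0 ∧ u ≠ 0} \ MulAction.orbit K s with hR
  have hRcard : R.ncard = 378 := by
    rw [hR, Set.ncard_sdiff (c.orbit_subset (c.sing_s hd) hs.ne), c.singular_ncard hs, (c.central_facts hs).2.2]
  have hsub : ∀ {u : V}, u ∈ R → MulAction.orbit K u ⊆ R := by
    intro u hu w hw
    refine ⟨c.orbit_subset hu.1.1 hu.1.2 hw, fun hws => hu.2 ?_⟩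
    rw [← MulAction.orbit_eq_iff.2 hws, MulAction.orbit_eq_iff.2 hw]
    exact MulAction.mem_orbit_self u
  have hM : ∀ {u : V}, u ∈ R → MulAction.orbit ↥M u ⊆ R := fun {u} hu w hw => by
    obtain ⟨m, rfl⟩ := hw
    exact hsub hu ⟨(m : K), rfl⟩
  have hcount : ∀ {u : V}, u ∈ R → 336 ≤ (MulAction.orbit ↥M u).ncard ∧ 3 ∣ (MulAction.orbit ↥M u).ncard := by
    intro u hu
    let A : Subgroup K :=
      { carrier := {m | m ∈ M ∧ m • u ∈ MulAction.orbit ↥(Subgroup.zpowers n) u}
        one_mem' := ⟨one_mem M, by rw [one_smul]; exact MulAction.mem_orbit_self u⟩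
        mul_mem' := by
          rintro x y ⟨hx, ⟨a, ha⟩, e⟩ ⟨hy, ⟨b, hb⟩, e'⟩
          refine ⟨mul_mem hx hy, ⟨⟨b * a, mul_mem hb ha⟩, ?_⟩⟩
          show (b * a) • u = (x * y) • u
          have hxb : x * b = b * x := by
            rcases c.zn_cases hb with rfl | rfl | rfl
            · simp
            · exact c.commute hx
            · rw [← mul_assoc, c.commute hx, mul_assoc, c.commute hx, mul_assoc]
          rw [mul_smul, show a • u = x • u from e, ← mul_smul, ← hxb, mul_smul, show b • u = y • u from e', mul_smul]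
        inv_mem' := by
          rintro x ⟨hx, ⟨a, ha⟩, e⟩
          refine ⟨inv_mem hx, ⟨⟨a⁻¹, inv_mem ha⟩, ?_⟩⟩
          show a⁻¹ • u = x⁻¹ • u
          have hxa : x * a⁻¹ = a⁻¹ * x := by
            rcases c.zn_cases (inv_mem ha) with h | h | h <;> rw [h]
            · simp
            · exact c.commute hx
            · rw [← mul_assoc, c.commute hx, mul_assoc, c.commute hx, mul_assoc]
          have h1 : x • a⁻¹ • u = u := by
            rw [← mul_smul, hxa, mul_smul, ← show a • u = x • u from e, inv_smul_smul]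
          rw [eq_inv_smul_iff, h1] }
    have h112 : 112 ≤ A.relIndex M := c.line_index hs hu.1.2 (A := A) fun m => Iff.rfl
    let S : Subgroup K := M ⊓ MulAction.stabilizer K u
    have hnA : Subgroup.zpowers n ≤ A := fun a ha => ⟨c.zn_le ha, ⟨⟨a, ha⟩, rfl⟩⟩
    have h3 : S.relIndex A = 3 := by
      have hz : S ⊓ Subgroup.zpowers n = ⊥ := (Subgroup.eq_bot_iff_forall _).2 fun x hx => by
        by_contra hx1
        exact c.smul_zn_ne hs hu.1.2 hx.2 hx1 hx.1.2
      have hSA : S ≤ A := fun x hx => ⟨hx.1, by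
        rw [show x • u = u from hx.2]
        exact MulAction.mem_orbit_self u⟩
      have hcard : Nat.card ↥A = 3 * Nat.card ↥S := by
        rw [← c.card_zn, ← Nat.card_prod]
        refine (Nat.card_eq_of_bijective (fun p : ↥(Subgroup.zpowers n) × ↥S =>
          (⟨(p.1 : K) * (p.2 : K), mul_mem (hnA p.1.2) (hSA p.2.2)⟩ : ↥A)) ⟨?_, ?_⟩).symm
        · rintro ⟨a, x⟩ ⟨b, y⟩ e
          have e' : (a : K) * (x : K) = (b : K) * (y : K) := congrArg Subtype.val e
          have hm : (b : K)⁻¹ * a ∈ Subgroup.zpowers n := mul_mem (inv_mem b.2) a.2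
          have hm' : (b : K)⁻¹ * a ∈ S := by
            rw [show (b : K)⁻¹ * a = (y : K) * (x : K)⁻¹ by
              rw [eq_mul_inv_iff_mul_eq, mul_assoc, e', inv_mul_cancel_left]]
            exact mul_mem y.2 (inv_mem x.2)
          have h1 : (b : K)⁻¹ * a = 1 := Subgroup.mem_bot.1 (hz ▸ Subgroup.mem_inf.2 ⟨hm', hm⟩)
          obtain rfl : b = a := Subtype.ext (inv_mul_eq_one.1 h1)
          exact Prod.ext rfl (Subtype.ext (mul_left_cancel e'))
        · rintro ⟨x, hx, ⟨a, ha⟩, e⟩
          have h1 : a⁻¹ * x ∈ M := M.mul_mem (M.inv_mem (c.zn_le ha)) hx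
          have h2 : (a⁻¹ * x) • u = u := by
            rw [mul_smul, ← show a • u = x • u from e, inv_smul_smul]
          exact ⟨(⟨a, ha⟩, ⟨a⁻¹ * x, h1, h2⟩), Subtype.ext (mul_inv_cancel_left a x)⟩
      have h := Subgroup.relIndex_mul_relIndex ⊥ S A bot_le hSA
      simp only [Subgroup.relIndex_bot_left] at h
      rw [hcard, mul_comm] at h
      exact Nat.eq_of_mul_eq_mul_right Nat.card_pos h
    have hS : (MulAction.orbit ↥M u).ncard = S.relIndex M := by
      rw [← MulAction.index_stabilizer, Subgroup.inf_relIndex_left]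
      congr 1
    have hSA : S ≤ A := fun x hx => ⟨hx.1, by
      rw [show x • u = u from hx.2]
      exact MulAction.mem_orbit_self u⟩
    have hmul := Subgroup.relIndex_mul_relIndex S A M hSA (fun x hx => hx.1)
    rw [h3] at hmul
    rw [hS, ← hmul]
    exact ⟨by omega, Dvd.intro _ rfl⟩
  have hRM : ∀ {u : V}, u ∈ R → MulAction.orbit ↥M u = R := by
    intro u hu
    by_contra hne
    obtain ⟨w, hw, hwu⟩ : ∃ w ∈ R, w ∉ MulAction.orbit ↥M u := by
      by_contra h
      simp only [not_exists, not_and, not_not] at h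
      exact hne (Set.Subset.antisymm (hM hu) h)
    have hdis : Disjoint (MulAction.orbit ↥M u) (MulAction.orbit ↥M w) := by
      rw [Set.disjoint_left]
      intro x hx hx'
      apply hwu
      rw [← MulAction.orbit_eq_iff.2 hx, MulAction.orbit_eq_iff.2 hx']
      exact MulAction.mem_orbit_self w
    have h := Set.ncard_le_ncard (Set.union_subset (hM hu) (hM hw)) (Set.toFinite _)
    rw [Set.ncard_union_eq hdis (Set.toFinite _) (Set.toFinite _), hRcard] at h
    have := (hcount hu).1
    have := (hcount hw).1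
    omega
  have hvR : v ∈ R := ⟨⟨hv, hv0⟩, hvs⟩
  have hKR : MulAction.orbit K v = R := Set.Subset.antisymm (hsub hvR) (by
    rw [← hRM hvR]
    rintro _ ⟨m, rfl⟩
    exact ⟨(m : K), rfl⟩)
  refine ⟨by rw [hKR, hRcard], by rw [hRM hvR, hRcard], fun u hu hu0 hus => ?_⟩
  rw [hKR]
  exact ⟨⟨hu, hu0⟩, hus⟩

end CfsgLib.LargeFischer.Core
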