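import Cfsg.Agent.Lib.LargeFischer.OtherClass
import Cfsg.Agent.Lib.LargeFischer.Eigen

/-!
# Groups of large Fischer type: the triple cover of `U₄(3)` does not split
-/

set_option autoImplicit false
set_option linter.unusedSectionVars false

namespace CfsgLib.LargeFischer

open QuadraticMap
open CfsgLib.Schur.Tails.UFour (H4 card_H4)

/-- Three elements of the alternating group of degree six. -/
theorem a6_elements : ∃ a b t : ↥(alternatingGroup (Fin 6)), a ≠ 1 ∧ a * a * a = 1 ∧ b * b * b = 1 ∧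
    a * b = b * a ∧ a * t = t * b ∧ b * t = t * (a * a) ∧ a * t ≠ t * a := by
  refine ⟨⟨Equiv.swap 0 1 * Equiv.swap 1 2, Equiv.Perm.mem_alternatingGroup.2 (by decide +kernel)⟩,
    ⟨Equiv.swap 3 4 * Equiv.swap 4 5, Equiv.Perm.mem_alternatingGroup.2 (by decide +kernel)⟩,
    ⟨Equiv.swap 0 3 * Equiv.swap 3 1 * Equiv.swap 1 5 * Equiv.swap 2 4,
      Equiv.Perm.mem_alternatingGroup.2 (by decide +kernel)⟩, ?_, ?_, ?_, ?_, ?_, ?_, ?_⟩
  all_goals decide +kernel

/-- The centre of the alternating group of degree six is trivial. -/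
theorem a6_centre {x : ↥(alternatingGroup (Fin 6))} (h : ∀ y, x * y = y * x) : x = 1 := by
  haveI : IsSimpleGroup ↥(alternatingGroup (Fin 6)) := alternatingGroup.isSimpleGroup (by simp)
  have hx : x ∈ Subgroup.center ↥(alternatingGroup (Fin 6)) := Subgroup.mem_center_iff.2 fun y => (h y).symm
  rcases (Subgroup.Normal.eq_bot_or_eq_top (H := Subgroup.center ↥(alternatingGroup (Fin 6))) inferInstance) with e | e
  · rwa [e, Subgroup.mem_bot] at hx
  · obtain ⟨a, b, t, -, -, -, -, -, -, hne⟩ := a6_elements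
    exact absurd ((Subgroup.mem_center_iff.1 (e ▸ Subgroup.mem_top a) t).symm) hne

namespace Core

variable {V : Type*} [AddCommGroup V] [Module (ZMod 2) V] [Finite V]
  {K : Type*} [Group K] [Finite K] [DistribMulAction K V]
  {q : QuadraticForm (ZMod 2) V} {n : K} {M : Subgroup K} {φ : ↥M →* ↥H4} (c : Core q n M φ) {s : V}
  (hs : Central q K s) {E : Subgroup K} {D : AddSubgroup V} (hd : CentData q s E D)

include c hs hd

/-- The normaliser of a group of the second class has no quotient of order three moving `n`. -/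
theorem no_split {A Y : Subgroup K} (hAM : A ≤ M) (hA : Cfsg.IsElementaryAbelian 2 A) (h16 : Nat.card ↥A = 16)
    (hcount : U43.fixCount ((A.subgroupOf M).map φ) ≠ U43.fixCount (((E ⊓ M).subgroupOf M).map φ))
    {g : ↥Y →* ↥(alternatingGroup (Fin 6))} (hYM : Y ≤ M) (hYcard : Nat.card ↥Y = 17280) (hAY : A ≤ Y)
    (hnY : n ∈ Y) (hY : ∀ y ∈ Y, ∀ a ∈ A, y * a * y⁻¹ ∈ A) (hg : Function.Surjective g)
    (hgker : ∀ y : ↥Y, g y = 1 → ∃ a ∈ A, a⁻¹ * (y : K) ∈ Subgroup.zpowers n)
    (κ : ↥Y →* ↥(Subgroup.zpowers n)) (hκ : κ ⟨n, hnY⟩ ≠ 1) : False := by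
  classical
  haveI := Fact.mk Nat.prime_three
  obtain ⟨hsing, hF64, hnF, -⟩ := c.other_fixed hs hd hAM hA h16 hcount
  set nY : ↥Y := ⟨n, hnY⟩
  have hgn : g nY = 1 := a6_centre fun x => by
    obtain ⟨y, rfl⟩ := hg x
    rw [← map_mul, ← map_mul]
    exact congrArg g (Subtype.ext (c.commute (hYM y.2)).symm)
  have hκgen : ∀ y : ↥Y, ∃ k : ℤ, (κ nY) ^ k = κ y := fun y =>
    Subgroup.mem_zpowers_iff.1 (mem_zpowers_of_prime_card c.card_zn hκ)
  have hfixF : ∀ y : ↥Y, κ y = 1 → g y = 1 → ∀ v ∈ (fixSub A : AddSubgroup V), (y : K) • v = v := by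
    intro y hy hgy v hv
    obtain ⟨a, ha, hw⟩ := hgker y hgy
    have hκa : κ ⟨a, hAY ha⟩ = 1 := by
      have h1 : (κ ⟨a, hAY ha⟩) ^ 2 = 1 := by
        rw [← map_pow, show (⟨a, hAY ha⟩ : ↥Y) ^ 2 = 1 from Subtype.ext (hA.2 a ha), map_one]
      have h2 := orderOf_dvd_of_pow_eq_one h1
      have h3 := orderOf_dvd_natCard (κ ⟨a, hAY ha⟩)
      rw [c.card_zn] at h3
      exact orderOf_eq_one_iff.1 (Nat.eq_one_of_dvd_coprimes (by norm_num) h2 h3)
    have hy1 : (y : K) = a := by
      have e : κ (⟨a, hAY ha⟩⁻¹ * y) = 1 := by rw [map_mul, map_inv, hκa, hy, inv_one, one_mul]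
      rcases c.zn_cases hw with h | h | h
      · exact (inv_mul_eq_one.1 h).symm
      · exact absurd ((congrArg κ (show nY = ⟨a, hAY ha⟩⁻¹ * y from Subtype.ext h.symm)).trans e) hκ
      · exfalso
        have e2 : κ (nY * nY) = 1 := (congrArg κ (show nY * nY = ⟨a, hAY ha⟩⁻¹ * y from Subtype.ext h.symm)).trans e
        have e3 : κ (nY * nY * nY) = 1 := by
          rw [show nY * nY * nY = 1 from Subtype.ext c.n_three, map_one]
        rw [map_mul, e2, one_mul] at e3
        exact hκ e3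
    rw [hy1]
    exact hv a ha
  have hlift : ∀ x, ∃ y : ↥Y, κ y = 1 ∧ g y = x := by
    intro x
    obtain ⟨y, rfl⟩ := hg x
    obtain ⟨k, hk⟩ := hκgen y
    refine ⟨y * (nY ^ k)⁻¹, ?_, ?_⟩
    · rw [map_mul, map_inv, map_zpow, hk, mul_inv_cancel]
    · rw [map_mul, map_inv, map_zpow, hgn, one_zpow, inv_one, mul_one]
  choose σ hσ1 hσ2 using hlift
  have hrel : ∀ y y' : ↥Y, κ y = 1 → κ y' = 1 → g y = g y' → ∀ v ∈ (fixSub A : AddSubgroup V),
      (y : K) • v = (y' : K) • v := by
    intro y y' h h' he v hv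
    have := hfixF (y'⁻¹ * y) (by rw [map_mul, map_inv, h, h', inv_one, one_mul])
      (by rw [map_mul, map_inv, he, inv_mul_cancel]) v hv
    rw [Subgroup.coe_mul, Subgroup.coe_inv, mul_smul, inv_smul_eq_iff] at this
    exact this
  have hmem : ∀ (y : ↥Y) {v : V}, v ∈ (fixSub A : AddSubgroup V) → (y : K) • v ∈ (fixSub A : AddSubgroup V) :=
    fun y v hv => Core.smul_fixSub hY y.2 hv
  obtain ⟨a, b, t, ha1, ha3, hb3, hab, hat, hbt, -⟩ := a6_elements
  let W := ↥(fixSub A : AddSubgroup V)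
  let act : ↥(alternatingGroup (Fin 6)) → W → W := fun x v => ⟨(σ x : K) • (v : V), hmem _ v.2⟩
  let N : W → W := fun v => ⟨n • (v : V), hnF _ v.2⟩
  have hmul : ∀ x x' (v : W), act x (act x' v) = act (x * x') v := fun x x' v => Subtype.ext (by
    show (σ x : K) • (σ x' : K) • (v : V) = (σ (x * x') : K) • (v : V)
    rw [← mul_smul, ← Subgroup.coe_mul]
    exact hrel _ _ (by rw [map_mul, hσ1, hσ1, one_mul]) (hσ1 _) (by rw [map_mul, hσ2, hσ2, hσ2]) v v.2)
  have hone : ∀ v : W, act 1 v = v := fun v => Subtype.ext (hfixF _ (hσ1 1) (hσ2 1) v v.2)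
  have hN : ∀ x (v : W), act x (N v) = N (act x v) := fun x v => Subtype.ext (by
    show (σ x : K) • n • (v : V) = n • (σ x : K) • (v : V)
    rw [← mul_smul, c.commute (hYM (σ x).2), mul_smul])
  have hadd : ∀ x (u v : W), act x (u + v) = act x u + act x v := fun x u v => Subtype.ext (smul_add _ _ _)
  have hall : ∀ v : W, act a v = v :=
    Eigen.eq_self (N := N) (A := act a) (B := act b) (T := act t)
      (fun v => Subtype.ext (vadd_self (v : V))) (fun u v => Subtype.ext (smul_add _ _ _))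
      (fun v => Subtype.ext (c.n_quad hs (v : V)))
      (hadd a) (hadd b) (hadd t) (fun u v e => Subtype.ext (MulAction.injective _ (congrArg Subtype.val e)))
      (hN a) (hN b) (hN t) (fun v => by rw [hmul, hmul, hab])
      (fun v => by rw [hmul, hmul, ha3, hone]) (fun v => by rw [hmul, hmul, hb3, hone])
      (fun v => by rw [hmul, hmul, hat]) (fun v => by rw [hmul, hmul, hmul, hbt, mul_assoc])
      hF64.le
  let Kf : Subgroup ↥(alternatingGroup (Fin 6)) :=
    { carrier := {x | ∀ v : W, act x v = v}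
      one_mem' := hone
      mul_mem' := fun {x y} hx hy v => by rw [← hmul, hy v, hx v]
      inv_mem' := fun {x} hx v => by
        calc act x⁻¹ v = act x⁻¹ (act x v) := by rw [hx v]
          _ = v := by rw [hmul, inv_mul_cancel, hone] }
  have hKf : Kf.Normal := ⟨fun x hx y v => by
    calc act (y * x * y⁻¹) v = act y (act x (act y⁻¹ v)) := by rw [hmul, hmul, mul_assoc]
      _ = v := by rw [hx, hmul, mul_inv_cancel, hone]⟩
  haveI : IsSimpleGroup ↥(alternatingGroup (Fin 6)) := alternatingGroup.isSimpleGroup (by simp)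
  have hKtop : Kf = ⊤ := hKf.eq_bot_or_eq_top.resolve_left fun e =>
    ha1 (Subgroup.mem_bot.1 (e ▸ (show a ∈ Kf from hall)))
  obtain ⟨v, hv, hv0⟩ : ∃ v ∈ (fixSub A : AddSubgroup V), v ≠ 0 := by
    by_contra h
    simp only [not_exists, not_and, not_not] at h
    rw [(AddSubgroup.eq_bot_iff_forall _).2 h, AddSubgroup.card_bot] at hF64
    omega
  obtain ⟨y, hy, h1, h2, h3⟩ := c.other_moves hs hd hAM hA h16 hYM hYcard hAY hnY hY hcount (hsing v hv) hv0 hv
  obtain ⟨k, hk⟩ := hκgen ⟨y, hy⟩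
  set y' : ↥Y := ⟨y, hy⟩ * (nY ^ k)⁻¹
  have hmv : n ^ k • v ∈ (fixSub A : AddSubgroup V) := fun a ha => by
    rcases c.zn_cases (Subgroup.zpow_mem _ (Subgroup.mem_zpowers n) k) with e | e | e <;> rw [e]
    · rw [one_smul]; exact hv a ha
    · exact hnF v hv a ha
    · rw [mul_smul]; exact hnF _ (hnF v hv) a ha
  have hyv : y • v = n ^ k • v := by
    have hy' : κ y' = 1 := by rw [map_mul, map_inv, map_zpow, hk, mul_inv_cancel]
    calc y • v = ((y' : K)) • (n ^ k • v) := by
          rw [← mul_smul]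
          congr 1
          simp [y', nY]
      _ = (σ (g y') : K) • (n ^ k • v) := hrel _ _ hy' (hσ1 _) (hσ2 _).symm _ hmv
      _ = n ^ k • v := congrArg Subtype.val ((show g y' ∈ Kf from hKtop ▸ Subgroup.mem_top _) ⟨_, hmv⟩)
  rcases c.zn_cases (Subgroup.zpow_mem _ (Subgroup.mem_zpowers n) k) with e | e | e <;> rw [e] at hyv
  · exact h1 (hyv.trans (one_smul _ _))
  · exact h2 hyv
  · exact h3 (hyv.trans (mul_smul _ _ _))

/-- `M` is perfect. -/
theorem M_perfect : commutator ↥M = ⊤ := by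
  classical
  by_contra hne
  haveI := h4_simple
  haveI hCn : (commutator ↥M).Normal := inferInstance
  have hφ : (commutator ↥M).map φ = ⊤ := by
    refine ((hCn.map φ c.surj).eq_bot_or_eq_top).resolve_left fun e => ?_
    have hcomm : ∀ a b : ↥H4, a * b = b * a := by
      intro a b
      obtain ⟨x, rfl⟩ := c.surj a
      obtain ⟨y, rfl⟩ := c.surj b
      have h := Subgroup.mem_map_of_mem φ (Subgroup.commutator_mem_commutator (Subgroup.mem_top x) (Subgroup.mem_top y))
      rw [← commutator_def] at h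
      rw [e, Subgroup.mem_bot, map_commutatorElement, commutatorElement_eq_one_iff_mul_comm] at h
      exact h
    letI : CommGroup ↥H4 := { (inferInstance : Group ↥H4) with mul_comm := hcomm }
    have hp := IsSimpleGroup.prime_card (α := ↥H4)
    rw [card_H4] at hp
    exact absurd hp (by norm_num)
  have hn : (⟨n, c.nM⟩ : ↥M) ∉ commutator ↥M := by
    intro hn
    refine hne (eq_top_iff.2 fun x _ => ?_)
    obtain ⟨y, hy, hyx⟩ : φ x ∈ (commutator ↥M).map φ := hφ ▸ Subgroup.mem_top _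
    have hk := (c.ker (y⁻¹ * x)).1 (by rw [map_mul, map_inv, hyx, inv_mul_cancel])
    have hsub : y⁻¹ * x ∈ commutator ↥M := by
      rcases c.zn_cases hk with e | e | e
      · rw [show y⁻¹ * x = 1 from Subtype.ext e]; exact one_mem _
      · rw [show y⁻¹ * x = ⟨n, c.nM⟩ from Subtype.ext e]; exact hn
      · rw [show y⁻¹ * x = ⟨n, c.nM⟩ * ⟨n, c.nM⟩ from Subtype.ext e]; exact mul_mem hn hn
    simpa using mul_mem hy hsub
  let f : ↥(Subgroup.zpowers n) →* ↥M ⧸ commutator ↥M :=
    (QuotientGroup.mk' (commutator ↥M)).comp (Subgroup.inclusion c.zn_le)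
  have hf : Function.Bijective f := by
    have hsurj : Function.Surjective f := by
      intro x
      obtain ⟨x, rfl⟩ := QuotientGroup.mk'_surjective _ x
      obtain ⟨y, hy, hyx⟩ : φ x ∈ (commutator ↥M).map φ := hφ ▸ Subgroup.mem_top _
      have hk := (c.ker (y⁻¹ * x)).1 (by rw [map_mul, map_inv, hyx, inv_mul_cancel])
      refine ⟨⟨_, hk⟩, ?_⟩
      show QuotientGroup.mk' _ (Subgroup.inclusion c.zn_le ⟨_, hk⟩) = QuotientGroup.mk' _ x
      rw [show Subgroup.inclusion c.zn_le ⟨_, hk⟩ = y⁻¹ * x from rfl, map_mul,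
        show QuotientGroup.mk' (commutator ↥M) y⁻¹ = 1 from (QuotientGroup.eq_one_iff _).2 (inv_mem hy), one_mul]
    refine ⟨?_, hsurj⟩
    rw [injective_iff_map_eq_one]
    intro x hx
    have hx' : Subgroup.inclusion c.zn_le x ∈ commutator ↥M := (QuotientGroup.eq_one_iff _).1 hx
    rcases c.zn_cases x.2 with e | e | e
    · exact Subtype.ext e
    · exact absurd hx' (by rw [show Subgroup.inclusion c.zn_le x = ⟨n, c.nM⟩ from Subtype.ext e]; exact hn)
    · refine absurd ?_ hn
      have h2 := mul_mem hx' hx'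
      convert h2 using 1
      refine Subtype.ext ?_
      show n = (x : K) * (x : K)
      rw [e, ← mul_assoc, c.n_three, one_mul]
  obtain ⟨A, hAM, hA, h16, hcount⟩ := c.exists_other_class (A₀ := E ⊓ M)
  obtain ⟨Y, g, hYM, hYcard, hAY, hnY, hY, hg, hgker⟩ := c.exists_norm hAM hA h16.ge
  let κ : ↥Y →* ↥(Subgroup.zpowers n) :=
    ((MulEquiv.ofBijective f hf).symm.toMonoidHom.comp (QuotientGroup.mk' (commutator ↥M))).comp
      (Subgroup.inclusion hYM)
  refine c.no_split hs hd hAM hA h16 hcount hYM hYcard hAY hnY hY hg hgker κ fun h => ?_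
  have h' : QuotientGroup.mk' (commutator ↥M) ⟨n, c.nM⟩ = 1 := (MulEquiv.ofBijective f hf).symm.map_eq_one_iff.1 h
  exact hn ((QuotientGroup.eq_one_iff _).1 h')

/-- An involution outside `M` centralises no group of the second class. -/
theorem no_central_outer {A : Subgroup K} (hAM : A ≤ M) (hA : Cfsg.IsElementaryAbelian 2 A) (h16 : Nat.card ↥A = 16)
    (hcount : U43.fixCount ((A.subgroupOf M).map φ) ≠ U43.fixCount (((E ⊓ M).subgroupOf M).map φ))
    {e : K} (he : e ∉ M) (he2 : e * e = 1) (hcent : ∀ a ∈ A, e * a = a * e) : False := by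
  classical
  haveI := Fact.mk Nat.prime_five
  haveI := c.M_normal
  obtain ⟨Y, g, hYM, hYcard, hAY, hnY, hY, hg, hgker⟩ := c.exists_norm hAM hA h16.ge
  have hei : e⁻¹ = e := inv_eq_of_mul_eq_one_left he2
  -- the whole normaliser in `M`
  let Y2 : Subgroup K :=
    { carrier := {k | k ∈ M ∧ (∀ a ∈ A, k * a * k⁻¹ ∈ A) ∧ ∀ a ∈ A, k⁻¹ * a * k ∈ A}
      one_mem' := ⟨M.one_mem, by simp, by simp⟩
      mul_mem' := by
        rintro x y ⟨hx, hx1, hx2⟩ ⟨hy, hy1, hy2⟩
        refine ⟨M.mul_mem hx hy, fun a ha => ?_, fun a ha => ?_⟩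
        · have := hx1 _ (hy1 a ha)
          simpa [mul_assoc] using this
        · have := hy2 _ (hx2 a ha)
          simpa [mul_assoc] using this
      inv_mem' := by
        rintro x ⟨hx, hx1, hx2⟩
        exact ⟨M.inv_mem hx, fun a ha => by simpa using hx2 a ha, fun a ha => by simpa using hx1 a ha⟩ }
  have hle : Y ≤ Y2 := fun y hy => ⟨hYM hy, hY y hy, fun a ha => by simpa using hY _ (Y.inv_mem hy) a ha⟩
  have heq : Y = Y2 := by
    refine Subgroup.eq_of_le_of_card_ge hle ?_
    rw [hYcard]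
    have h := (c.norm_bound hAM hA h16.ge (Y := Y2)
      (fun k (hk : k ∈ M ∧ (∀ a ∈ A, k * a * k⁻¹ ∈ A) ∧ ∀ a ∈ A, k⁻¹ * a * k ∈ A) => hk.1)
      (fun k (hk : k ∈ M ∧ (∀ a ∈ A, k * a * k⁻¹ ∈ A) ∧ ∀ a ∈ A, k⁻¹ * a * k ∈ A) => hk.2.1)).1
    have h3 : Nat.card ↥(Subgroup.zpowers n ⊓ Y2) ≤ 3 := by
      rw [← c.card_zn]
      exact Nat.le_of_dvd Nat.card_pos (Subgroup.card_dvd_of_le inf_le_left)
    calc Nat.card ↥Y2 ≤ _ := h
      _ ≤ 5760 * 3 := Nat.mul_le_mul_left _ h3
  -- the centraliser of `A` in `Y`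
  have hC : ∀ y : ↥Y, (∀ a ∈ A, (y : K) * a = a * y) → ∃ a ∈ A, a⁻¹ * (y : K) ∈ Subgroup.zpowers n := by
    let C : Subgroup ↥Y :=
      { carrier := {y | ∀ a ∈ A, (y : K) * a = a * y}
        one_mem' := fun a _ => by simp
        mul_mem' := fun {x y} hx hy a ha => by
          rw [Subgroup.coe_mul, mul_assoc, hy a ha, ← mul_assoc, hx a ha, mul_assoc]
        inv_mem' := fun {x} hx a ha => by
          rw [Subgroup.coe_inv]
          calc (x : K)⁻¹ * a = (x : K)⁻¹ * (a * x) * (x : K)⁻¹ := by group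
            _ = a * (x : K)⁻¹ := by rw [← hx a ha]; group }
    have hCn : C.Normal := ⟨fun x hx y a ha => by
      have h := hx _ (hY _ (Y.inv_mem y.2) a ha)
      rw [inv_inv] at h
      show (y : K) * (x : K) * (y : K)⁻¹ * a = a * ((y : K) * (x : K) * (y : K)⁻¹)
      calc (y : K) * (x : K) * (y : K)⁻¹ * a = (y : K) * ((x : K) * ((y : K)⁻¹ * a * y)) * (y : K)⁻¹ := by group
        _ = a * ((y : K) * (x : K) * (y : K)⁻¹) := by rw [h]; group⟩
    haveI : IsSimpleGroup ↥(alternatingGroup (Fin 6)) := alternatingGroup.isSimpleGroup (by simp)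
    have hbot : C.map g = ⊥ := (hCn.map g hg).eq_bot_or_eq_top.resolve_right fun e5 => by
      have h5 : 5 ∣ Nat.card ↥C := by
        refine dvd_trans ?_ (Subgroup.card_map_dvd C g)
        rw [e5, Subgroup.card_top, Nat.card_eq_fintype_card,
          show Fintype.card ↥(alternatingGroup (Fin 6)) = 360 by decide +kernel]
        norm_num
      obtain ⟨y, hy⟩ := exists_prime_orderOf_dvd_card' (G := ↥C) 5 h5
      obtain ⟨a, ha, ha1⟩ : ∃ a ∈ A, a ≠ 1 := by
        by_contra h
        simp only [not_exists, not_and, not_not] at h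
        rw [(Subgroup.eq_bot_iff_forall _).2 h, Subgroup.card_bot] at h16
        omega
      let ym : ↥M := ⟨_, hYM (y : ↥Y).2⟩
      let am : ↥M := ⟨a, hAM ha⟩
      have ht : orderOf (φ am) = 2 := by
        refine orderOf_eq_prime ?_ fun h => ha1 ?_
        · rw [← map_pow, show am ^ 2 = 1 from Subtype.ext (by simpa using hA.2 a ha), map_one]
        · exact c.eq_of_map (hAM ha) M.one_mem (by rw [← pow_two]; exact hA.2 a ha) (one_mul 1) (h.trans φ.map_one.symm)
      have hy5 : orderOf (ym : K) = 5 := by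
        show orderOf (((y : ↥Y) : K)) = 5
        rw [Subgroup.orderOf_coe, Subgroup.orderOf_coe, hy]
      have hx : orderOf (φ ym) = 5 := by
        refine orderOf_eq_prime ?_ fun h => ?_
        · rw [← map_pow, show ym ^ 5 = 1 from Subtype.ext (by
            have := pow_orderOf_eq_one (ym : K); rw [hy5] at this; simpa using this), map_one]
        · have h1 := Subgroup.orderOf_dvd_natCard _ ((c.ker ym).1 h)
          rw [c.card_zn, hy5] at h1
          omega
      refine U43.no_five ht hx ?_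
      show φ am * φ ym = φ ym * φ am
      rw [← map_mul, ← map_mul]
      exact congrArg φ (Subtype.ext (y.2 a ha).symm)
    intro y hy
    exact hgker y (Subgroup.mem_bot.1 (hbot ▸ Subgroup.mem_map_of_mem g (show y ∈ C from hy)))
  have hsplit : ∀ y : ↥Y, (∀ a ∈ A, (y : K) * a = a * y) → ∀ z : ↥Y, (∀ a ∈ A, (z : K) * a = a * z) →
      (y : K) * z = (z : K) * y := by
    intro y hy z hz
    obtain ⟨a, ha, hw⟩ := hC y hy
    have h1 : (y : K) = a * (a⁻¹ * y) := by group
    rw [h1, mul_assoc]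
    have h2 : a⁻¹ * (y : K) * z = z * (a⁻¹ * y) := by
      rcases c.zn_cases hw with e1 | e1 | e1 <;> rw [e1]
      · simp
      · exact (c.commute (hYM z.2)).symm
      · rw [mul_assoc, ← c.commute (hYM z.2), ← mul_assoc, ← c.commute (hYM z.2), mul_assoc]
    rw [h2, ← mul_assoc, ← hz a ha]
    group
  have hw : ∀ y : ↥Y, e * (y : K) * e * (y : K)⁻¹ ∈ Y ∧
      ∀ a ∈ A, e * (y : K) * e * (y : K)⁻¹ * a = a * (e * (y : K) * e * (y : K)⁻¹) := by
    intro y
    have hcen : ∀ a ∈ A, e * (y : K) * e * (y : K)⁻¹ * a = a * (e * (y : K) * e * (y : K)⁻¹) := by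
      intro a ha
      have h2 : (y : K)⁻¹ * a * y ∈ A := by simpa using hY _ (Y.inv_mem y.2) a ha
      calc e * (y : K) * e * (y : K)⁻¹ * a = e * (y : K) * (e * ((y : K)⁻¹ * a * y)) * (y : K)⁻¹ := by group
        _ = (e * a) * ((y : K) * e * (y : K)⁻¹) := by rw [hcent _ h2]; group
        _ = _ := by rw [hcent a ha]; group
    refine ⟨heq.ge ⟨?_, fun a ha => by rw [hcen a ha, mul_inv_cancel_right]; exact ha, fun a ha => ?_⟩, hcen⟩
    · refine M.mul_mem ?_ (M.inv_mem (hYM y.2))
      have := c.M_normal.conj_mem _ (hYM y.2) e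
      rwa [hei] at this
    · rw [mul_assoc, ← hcen a ha, inv_mul_cancel_left]; exact ha
  let w : ↥Y → ↥Y := fun y => ⟨_, (hw y).1⟩
  have hw4 : ∀ y : ↥Y, ((w y : ↥Y) : K) ^ 4 ∈ Subgroup.zpowers n := by
    intro y
    obtain ⟨a, ha, hk⟩ := hC (w y) (hw y).2
    have hcomm : Commute a (a⁻¹ * (w y : K)) := by
      have e1 : a⁻¹ * a * (w y : K) = a⁻¹ * (w y : K) * a := by
        rw [mul_assoc, ← (hw y).2 a ha, ← mul_assoc]
      show a * (a⁻¹ * (w y : K)) = a⁻¹ * (w y : K) * a
      rw [mul_inv_cancel_left, ← e1, inv_mul_cancel, one_mul]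
    have ha4 : a ^ 4 = 1 := by rw [show (4 : ℕ) = 2 * 2 from rfl, pow_mul, hA.2 a ha, one_pow]
    rw [← mul_inv_cancel_left a (w y : K), hcomm.mul_pow, ha4, one_mul]
    exact Subgroup.pow_mem _ hk 4
  let κ : ↥Y →* ↥(Subgroup.zpowers n) := MonoidHom.mk' (fun y => ⟨(w y : K) ^ 4, hw4 y⟩) fun y y' => Subtype.ext (by
    show (w (y * y') : K) ^ 4 = (w y : K) ^ 4 * (w y' : K) ^ 4
    have e1 : (w (y * y') : K) = (w y : K) * ((y : K) * (w y' : K) * (y : K)⁻¹) := by
      show e * ((y : K) * y') * e * ((y : K) * y')⁻¹ =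
        e * (y : K) * e * (y : K)⁻¹ * ((y : K) * (e * (y' : K) * e * (y' : K)⁻¹) * (y : K)⁻¹)
      calc e * ((y : K) * y') * e * ((y : K) * y')⁻¹
          = e * (y : K) * (e * e) * (y' : K) * e * ((y' : K)⁻¹ * (y : K)⁻¹) := by rw [he2]; group
        _ = _ := by group
    have hcz : ∀ a ∈ A, ((y * w y' * y⁻¹ : ↥Y) : K) * a = a * ((y * w y' * y⁻¹ : ↥Y) : K) := by
      intro a ha
      have h2 : (y : K)⁻¹ * a * y ∈ A := by simpa using hY _ (Y.inv_mem y.2) a ha
      show (y : K) * (w y' : K) * (y : K)⁻¹ * a = a * ((y : K) * (w y' : K) * (y : K)⁻¹)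
      calc (y : K) * (w y' : K) * (y : K)⁻¹ * a = (y : K) * ((w y' : K) * ((y : K)⁻¹ * a * y)) * (y : K)⁻¹ := by group
        _ = _ := by
          have h5 : (w y' : K) * ((y : K)⁻¹ * a * y) = (y : K)⁻¹ * a * y * (w y' : K) := (hw y').2 _ h2
          rw [h5]
          generalize (w y' : K) = u
          group
    have h3 : Commute (w y : K) ((y : K) * (w y' : K) * (y : K)⁻¹) :=
      hsplit (w y) (hw y).2 (y * w y' * y⁻¹) hcz
    rw [e1, h3.mul_pow, conj_pow]
    congr 1
    have h4 : (y : K) * (w y' : K) ^ 4 = (w y' : K) ^ 4 * y := by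
      rcases c.zn_cases (hw4 y') with e1 | e1 | e1 <;> rw [e1]
      · simp
      · exact c.commute (hYM y.2)
      · rw [← mul_assoc, c.commute (hYM y.2), mul_assoc, c.commute (hYM y.2), mul_assoc]
    rw [h4, mul_inv_cancel_right])
  refine c.no_split hs hd hAM hA h16 hcount hYM hYcard hAY hnY hY hg hgker κ fun h => c.n_ne ?_
  have h1 : (e * n * e * n⁻¹) ^ 4 = 1 := congrArg Subtype.val h
  have h2 : n⁻¹ = n * n := inv_eq_of_mul_eq_one_right (by rw [← mul_assoc, c.n_three])
  have h5 : e * n * e * n⁻¹ = n := by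
    rw [c.conj_n_outer hs he, mul_assoc _ e e, he2, mul_one, h2, ← mul_assoc (n * n) n n, c.n_three, one_mul]
  rw [h5, show (4 : ℕ) = 3 + 1 from rfl, pow_succ, ← c.ordn, pow_orderOf_eq_one, one_mul] at h1
  exact h1

/-- Hyperplanes of `D` containing `s` correspond to elements of `E`. -/
theorem hyperplane_elt {D₁ : AddSubgroup V} (hle : D₁ ≤ D) (hsD : s ∈ D₁) (hcard : Nat.card ↥D₁ = 32) :
    ∃ e ∈ E, e ≠ 1 ∧ (∀ d ∈ D₁, e • d = d) ∧
      ∀ e' ∈ E, e' ≠ 1 → (∀ d ∈ D₁, e' • d = d) → e' = e := by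
  classical
  obtain ⟨hE32, hD64, -, -⟩ := c.data_cards hd
  have huniq : ∀ e ∈ E, ∀ e' ∈ E, e ≠ 1 → e' ≠ 1 → (∀ d ∈ D₁, e • d = d) → (∀ d ∈ D₁, e' • d = d) → e' = e := by
    intro e he e' he' he1 he1' hf hf'
    obtain ⟨d0, hd0, hd0'⟩ : ∃ d0 ∈ D, d0 ∉ D₁ := SetLike.not_le_iff_exists.1 fun hh => by
      rw [le_antisymm hh hle, hcard] at hD64
      omega
    have hdec : ∀ d ∈ D, d ∈ D₁ ∨ d + d0 ∈ D₁ := by
      have hi : (D₁.addSubgroupOf D).index = 2 := by
        have h := (D₁.addSubgroupOf D).index_mul_card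
        rw [hD64, Nat.card_congr (AddSubgroup.addSubgroupOfEquivOfLe hle).toEquiv, hcard] at h
        omega
      intro d hdD
      by_contra hh
      rw [not_or] at hh
      have := (AddSubgroup.add_mem_iff_of_index_two hi (a := ⟨d, hdD⟩) (b := ⟨d0, hd0⟩)).2 (iff_of_false hh.1 hd0')
      exact hh.2 this
    have hmv : ∀ x ∈ E, x ≠ 1 → (∀ d ∈ D₁, x • d = d) → x • d0 = d0 + s := by
      intro x hx hx1 hfx
      refine (hd.move x hx d0 hd0).resolve_left fun h => hx1 (hd.faith x hx fun d hdD => ?_)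
      rcases hdec d hdD with h1 | h1
      · exact hfx d h1
      · have := hfx _ h1
        rwa [smul_add, h, add_left_inj] at this
    have h1 := hd.faith (e * e') (E.mul_mem he he') fun d hdD => by
      have h0 : (e * e') • d0 = d0 := by
        rw [mul_smul, hmv e' he' he1' hf', smul_add, hmv e he he1 hf, hd.fix e he, add_assoc, vadd_self, add_zero]
      rcases hdec d hdD with h | h
      · rw [mul_smul, hf' d h, hf d h]
      · have h2 : (e * e') • (d + d0) = d + d0 := by rw [mul_smul, hf' _ h, hf _ h]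
        rwa [smul_add, h0, add_left_inj] at h2
    have he2 : e * e = 1 := by rw [← pow_two]; exact hd.elem.2 e he
    calc e' = e * (e * e') := by rw [← mul_assoc, he2, one_mul]
      _ = e := by rw [h1, mul_one]
  -- functionals
  let Φ : V →+ (↥D →+ ZMod 2) := AddMonoidHom.mk'
    (fun v => AddMonoidHom.mk' (fun d => polar q v (d : V)) fun a b => QuadraticMap.polar_add_right q v (a : V) b)
    fun u v => AddMonoidHom.ext fun d => QuadraticMap.polar_add_left q u v (d : V)
  have hΦ : Function.Surjective Φ := fun f => by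
    obtain ⟨v, hv⟩ := exists_polar q c.nondeg D f
    exact ⟨v, AddMonoidHom.ext hv⟩
  haveI : Finite (↥D →+ ZMod 2) := Finite.of_surjective Φ hΦ
  have hHom : Nat.card (↥D →+ ZMod 2) = 64 := by
    have h := Φ.ker.card_mul_index
    rw [AddSubgroup.index_ker, AddMonoidHom.range_eq_top.2 hΦ, AddSubgroup.card_top] at h
    have hk : Φ.ker = perpSub q D := by
      ext v
      exact ⟨fun h u hu => DFunLike.congr_fun h ⟨u, hu⟩, fun h => AddMonoidHom.ext fun d => h d d.2⟩
    have h2 := perpSub_card q c.nondeg D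
    rw [hk] at h
    rw [hD64, c.cardV] at h2
    rw [c.cardV] at h
    norm_num at h h2
    nlinarith
  let S : AddSubgroup (↥D →+ ZMod 2) :=
    { carrier := {f | f ⟨s, hd.mem⟩ = 0}
      zero_mem' := rfl
      add_mem' := fun {f f'} h h' => by show f _ + f' _ = 0; rw [h, h', add_zero]
      neg_mem' := fun {f} h => by show -(f _) = 0; rw [h, neg_zero] }
  have hS : Nat.card ↥S ≤ 32 := by
    have h1 : S ≠ ⊤ := fun e => by
      obtain ⟨v, hv⟩ : ∃ v, polar q v s ≠ 0 := by
        by_contra h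
        simp only [not_exists, not_not] at h
        exact hs.ne (c.nondeg s fun w => by rw [QuadraticMap.polar_comm]; exact h w)
      exact hv (show Φ v ∈ S from e ▸ AddSubgroup.mem_top _)
    have h2 := S.card_mul_index
    rw [hHom] at h2
    have h3 : 1 < S.index := Nat.lt_of_le_of_ne (Nat.one_le_iff_ne_zero.2 AddSubgroup.index_ne_zero_of_finite)
      (fun e => h1 (AddSubgroup.index_eq_one.1 e.symm))
    nlinarith
  have hadd : ∀ e ∈ E, ∀ a ∈ D, ∀ b ∈ D, (if e • (a + b) = a + b then (0 : ZMod 2) else 1) =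
      (if e • a = a then 0 else 1) + (if e • b = b then 0 else 1) := by
    intro e he a ha b hb
    rw [smul_add]
    rcases hd.move e he a ha with p | p <;> rcases hd.move e he b hb with r | r <;> rw [p, r]
    · simp
    · rw [if_pos rfl, if_neg, if_neg]
      · rfl
      · intro h; exact hs.ne (add_eq_left.1 h)
      · rw [← add_assoc]; intro h; exact hs.ne (add_eq_left.1 h)
    · rw [if_neg, if_neg, if_pos rfl]
      · rfl
      · intro h; exact hs.ne (add_eq_left.1 h)
      · rw [add_right_comm]; intro h; exact hs.ne (add_eq_left.1 h)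
    · rw [if_pos, if_neg, if_neg]
      · decide
      · intro h; exact hs.ne (add_eq_left.1 h)
      · intro h; exact hs.ne (add_eq_left.1 h)
      · rw [add_add_add_comm, vadd_self, add_zero]
  let F : ↥E → ↥S := fun e => ⟨AddMonoidHom.mk' (fun d => if (e : K) • (d : V) = d then 0 else 1)
    (fun a b => hadd e e.2 a a.2 b b.2), by
      show (if (e : K) • s = s then (0 : ZMod 2) else 1) = 0
      rw [if_pos (hd.fix e e.2)]⟩
  have hFi : Function.Injective F := by
    intro e e' h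
    have h' : ∀ d ∈ D, ((e : K) • d = d ↔ (e' : K) • d = d) := fun d hdD => by
      have := DFunLike.congr_fun (congrArg Subtype.val h) ⟨d, hdD⟩
      simp only [F, AddMonoidHom.mk'_apply] at this
      by_cases p : (e : K) • d = d <;> by_cases r : (e' : K) • d = d <;> simp [p, r] at this ⊢
    have h1 := hd.faith ((e : K) * e') (E.mul_mem e.2 e'.2) fun d hdD => by
      rw [mul_smul]
      rcases hd.move e' e'.2 d hdD with p | p
      · rw [p]; exact (h' d hdD).2 p
      · rw [p, smul_add, hd.fix _ e.2]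
        have : ¬ (e : K) • d = d := fun r => by
          rw [(h' d hdD).1 r] at p
          exact hs.ne (add_eq_left.1 p.symm)
        rw [(hd.move e e.2 d hdD).resolve_left this, add_assoc, vadd_self, add_zero]
    have he2 : (e' : K) * e' = 1 := by rw [← pow_two]; exact hd.elem.2 _ e'.2
    refine Subtype.ext ?_
    calc (e : K) = (e : K) * ((e' : K) * e') := by rw [he2, mul_one]
      _ = e' := by rw [← mul_assoc, h1, one_mul]
  have hbij := hFi.bijective_of_nat_card_le (by rw [hE32]; exact hS)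
  have hi : (D₁.addSubgroupOf D).index = 2 := by
    have h := (D₁.addSubgroupOf D).index_mul_card
    rw [hD64, Nat.card_congr (AddSubgroup.addSubgroupOfEquivOfLe hle).toEquiv, hcard] at h
    omega
  let f₁ : ↥D →+ ZMod 2 := AddMonoidHom.mk' (fun d => if (d : V) ∈ D₁ then 0 else 1) fun a b => by
    have h : ((a : V) + b ∈ D₁) ↔ ((a : V) ∈ D₁ ↔ (b : V) ∈ D₁) :=
      AddSubgroup.add_mem_iff_of_index_two hi (a := a) (b := b)
    show (if (a : V) + b ∈ D₁ then (0 : ZMod 2) else 1) = _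
    by_cases p : (a : V) ∈ D₁ <;> by_cases r : (b : V) ∈ D₁ <;> simp [h, p, r] <;> decide
  obtain ⟨e, he⟩ := hbij.2 ⟨f₁, by show (if s ∈ D₁ then (0 : ZMod 2) else 1) = 0; rw [if_pos hsD]⟩
  have hef : ∀ d ∈ D, ((e : K) • d = d ↔ d ∈ D₁) := fun d hdD => by
    have := DFunLike.congr_fun (congrArg Subtype.val he) ⟨d, hdD⟩
    simp only [F, f₁, AddMonoidHom.mk'_apply] at this
    by_cases p : (e : K) • d = d <;> by_cases r : d ∈ D₁ <;> simp [p, r] at this ⊢
  have he1 : (e : K) ≠ 1 := fun h => by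
    have hsub : D ≤ D₁ := fun d hdD => (hef d hdD).1 (by rw [h, one_smul])
    rw [le_antisymm hsub hle, hcard] at hD64
    omega
  exact ⟨e, e.2, he1, fun d hdd => (hef d (hle hdd)).2 hdd, fun e' he' he1' hf' =>
    huniq e e.2 e' he' he1 he1' (fun d hdd => (hef d (hle hdd)).2 hdd) hf'⟩

end Core

end CfsgLib.LargeFischer
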