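import Cfsg.Agent.Lib.LargeFischer.Orbit

/-!
# The stabiliser of the central vector, and normal two-subgroups of the other stabiliser
-/

set_option autoImplicit false
set_option linter.unusedSectionVars false

namespace CfsgLib.LargeFischer.Core

open QuadraticMap
open CfsgLib.Schur.Tails.UFour (H4 card_H4)

variable {V : Type*} [AddCommGroup V] [Module (ZMod 2) V] [Finite V]
  {K : Type*} [Group K] [Finite K] [DistribMulAction K V]
  {q : QuadraticForm (ZMod 2) V} {n : K} {M : Subgroup K} {φ : ↥M →* ↥H4} (c : Core q n M φ) {s : V}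
  (hs : Central q K s)

include c hs

/-- The part in `M` of the stabiliser of a nonzero vector meets the subgroup of order three trivially. -/
theorem stab_inf_zn {v : V} (hv : v ≠ 0) : Subgroup.zpowers n ⊓ (MulAction.stabilizer K v ⊓ M) = ⊥ :=
  (Subgroup.eq_bot_iff_forall _).2 fun x hx => by
    by_contra hx1
    exact c.smul_zn_ne hs hv hx.1 hx1 hx.2.1

/-- The quotient of the stabiliser of the central vector by the elementary abelian group. -/
theorem stab_quotient {E : Subgroup K} {D : AddSubgroup V} (hd : CentData q s E D) :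
    ∃ f : ↥(MulAction.stabilizer K s) →* ↥(alternatingGroup (Fin 6)),
      Function.Surjective f ∧ f.ker = E.subgroupOf (MulAction.stabilizer K s) := by
  classical
  obtain ⟨hE32, -, h16, hnM⟩ := c.data_cards hd
  obtain ⟨hX, hX0, -⟩ := c.central_facts hs
  have hel : Cfsg.IsElementaryAbelian 2 (E ⊓ M) :=
    ⟨⟨⟨fun a b => Subtype.ext (congrArg (fun z : ↥E => (z : K))
      (hd.elem.1.is_comm.comm ⟨a, a.2.1⟩ ⟨b, b.2.1⟩))⟩⟩, fun a ha => hd.elem.2 a ha.1⟩
  obtain ⟨h1, h2⟩ := c.elem_map (A := E ⊓ M) inf_le_right hel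
  set A' := ((E ⊓ M).subgroupOf M).map φ with hA'
  obtain ⟨-, hN, f0, hf0, hk0⟩ := U43.elementary_facts h1 (by rw [h2, h16])
  let Y := MulAction.stabilizer K s ⊓ M
  let ψ : ↥Y →* ↥H4 := φ.comp (Subgroup.inclusion inf_le_right)
  have hψinj : Function.Injective ψ := by
    rw [injective_iff_map_eq_one]
    intro y hy
    have h := c.stab_inf_zn hs hs.ne
    exact Subtype.ext (Subgroup.mem_bot.1 (h ▸ Subgroup.mem_inf.2 ⟨(c.ker _).1 hy, y.2⟩))
  have hψN : ∀ y : ↥Y, ψ y ∈ Subgroup.normalizer (A' : Set ↥H4) := by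
    have fwd : ∀ (y : ↥Y), ∀ t ∈ A', ψ y * t * (ψ y)⁻¹ ∈ A' := by
      rintro y _ ⟨a, ha, rfl⟩
      exact ⟨Subgroup.inclusion inf_le_right y * a * (Subgroup.inclusion inf_le_right y)⁻¹,
        c.norm_E0 hd y.2.1 ha, by simp [ψ]⟩
    intro y
    refine Subgroup.mem_normalizer_iff.2 fun t => ⟨fwd y t, fun ht => ?_⟩
    have := fwd y⁻¹ _ ht
    rwa [map_inv, inv_inv, show (ψ y)⁻¹ * (ψ y * t * (ψ y)⁻¹) * ψ y = t by group] at this
  let ψ' := ψ.codRestrict _ hψN
  have hψ'bij : Function.Bijective ψ' :=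
    (Nat.bijective_iff_injective_and_card _).2
      ⟨fun a b e => hψinj (congrArg Subtype.val e), by rw [hN]; exact hX0⟩
  let f1 := f0.comp ψ'
  have hf1 : Function.Surjective f1 := hf0.comp hψ'bij.2
  have hk1 : ∀ y : ↥Y, f1 y = 1 ↔ (y : K) ∈ E := by
    intro y
    show f0 (ψ' y) = 1 ↔ _
    rw [← MonoidHom.mem_ker, hk0, Subgroup.mem_subgroupOf]
    show ψ y ∈ A' ↔ _
    constructor
    · rintro ⟨a, ha, e⟩
      have haY : (a : K) ∈ Y := ⟨c.E_le_stab hd ha.1, a.2⟩
      have h := hψinj (a₁ := ⟨(a : K), haY⟩) (a₂ := y) (by rw [← e]; rfl)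
      rw [← h]
      exact ha.1
    · exact fun hy => ⟨Subgroup.inclusion inf_le_right y, ⟨hy, y.2.2⟩, rfl⟩
  obtain ⟨e0, he0E, he0M⟩ := SetLike.not_le_iff_exists.1 hnM
  haveI := c.M_normal
  have hdec : ∀ x : ↥(MulAction.stabilizer K s), ∃ y : ↥Y, (x : K) * (y : K)⁻¹ ∈ E := by
    intro x
    by_cases hx : (x : K) ∈ M
    · exact ⟨⟨x, x.2, hx⟩, by rw [mul_inv_cancel]; exact one_mem E⟩
    · have hm : e0⁻¹ * (x : K) ∈ M :=
        (Subgroup.mul_mem_iff_of_index_two c.indexM).2 (by simp [hx, he0M])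
      refine ⟨⟨e0⁻¹ * x, (MulAction.stabilizer K s).mul_mem ((MulAction.stabilizer K s).inv_mem (c.E_le_stab hd he0E)) x.2, hm⟩, ?_⟩
      show (x : K) * (e0⁻¹ * (x : K))⁻¹ ∈ E
      rw [mul_inv_rev, inv_inv, ← mul_assoc, mul_inv_cancel, one_mul]
      exact he0E
  choose r hr using hdec
  have huniq : ∀ (x : ↥(MulAction.stabilizer K s)) (y : ↥Y), (x : K) * (y : K)⁻¹ ∈ E → f1 (r x) = f1 y := by
    intro x y hy
    rw [← mul_inv_eq_one, ← map_inv, ← map_mul, hk1]
    show (r x : K) * (y : K)⁻¹ ∈ E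
    rw [show (r x : K) * (y : K)⁻¹ = ((x : K) * (r x : K)⁻¹)⁻¹ * ((x : K) * (y : K)⁻¹) by group]
    exact mul_mem (inv_mem (hr x)) hy
  let F : ↥(MulAction.stabilizer K s) →* ↥(alternatingGroup (Fin 6)) :=
    MonoidHom.mk' (fun x => f1 (r x)) fun x x' => by
      rw [← map_mul]
      refine huniq _ _ ?_
      show (x : K) * (x' : K) * ((r x : K) * (r x' : K))⁻¹ ∈ E
      rw [show (x : K) * (x' : K) * ((r x : K) * (r x' : K))⁻¹ =
        (x : K) * ((x' : K) * (r x' : K)⁻¹) * (x : K)⁻¹ * ((x : K) * (r x : K)⁻¹) by group]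
      exact mul_mem (hd.normal x x.2 _ (hr x')) (hr x)
  refine ⟨F, fun a => ?_, ?_⟩
  · obtain ⟨y, hy⟩ := hf1 a
    refine ⟨⟨y, y.2.1⟩, ?_⟩
    show f1 (r _) = a
    rw [huniq _ y (by rw [mul_inv_cancel]; exact one_mem E), hy]
  · ext x
    rw [MonoidHom.mem_ker, Subgroup.mem_subgroupOf]
    show f1 (r x) = 1 ↔ _
    rw [hk1]
    constructor
    · intro h
      simpa using mul_mem (hr x) h
    · intro h
      have := mul_mem (inv_mem (hr x)) h
      simpa [mul_assoc] using this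

/-- Some element does not commute with the subgroup of order three. -/
theorem exists_outer : ∃ k : K, k * n ≠ n * k := by
  classical
  by_contra hall
  simp only [not_exists, not_not] at hall
  obtain ⟨E, D, hd⟩ := hs.data
  obtain ⟨-, hD64, -, -⟩ := c.data_cards hd
  have hfixn : ∀ e ∈ E, e • n • s = n • s := fun e he => by rw [← mul_smul, hall, mul_smul, hd.fix e he]
  have hfixnn : ∀ e ∈ E, e • n • n • s = n • n • s := fun e he => by
    rw [← mul_smul, hall, mul_smul, hfixn e he]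
  have hp1 : polar q (n • s) s = 0 := c.perp_of_fixed hd fun e he => hfixn e he.1
  set w := n • n • s with hw
  obtain ⟨d, hd', hd0, hds, hwd⟩ : ∃ d ∈ D, d ≠ 0 ∧ d ≠ s ∧ polar q w d = 0 := by
    by_contra h
    simp only [not_exists, not_and] at h
    have hone : ∀ d ∈ D, d ≠ 0 → d ≠ s → polar q w d = 1 := fun d h1 h2 h3 => (z2_cases _).resolve_left (h d h1 h2 h3)
    have hgt : 4 < (D : Set V).ncard := by rw [← Nat.card_coe_set_eq]; show 4 < Nat.card ↥D; omega
    obtain ⟨a, ha, ha'⟩ : ∃ a ∈ D, a ∉ ({0, s} : Set V) := by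
      by_contra hh
      simp only [not_exists, not_and, not_not] at hh
      have h1 := Set.ncard_le_ncard (s := (D : Set V)) hh (Set.toFinite _)
      have h2 := Set.ncard_insert_le (0 : V) {s}
      rw [Set.ncard_singleton] at h2
      omega
    obtain ⟨b, hb, hb'⟩ : ∃ b ∈ D, b ∉ ({0, s, a, a + s} : Set V) := by
      by_contra hh
      simp only [not_exists, not_and, not_not] at hh
      have h1 := Set.ncard_le_ncard (s := (D : Set V)) hh (Set.toFinite _)
      have h2 := Set.ncard_insert_le (0 : V) {s, a, a + s}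
      have h3 := Set.ncard_insert_le s {a, a + s}
      have h4 := Set.ncard_insert_le a {a + s}
      rw [Set.ncard_singleton] at h4
      omega
    simp only [Set.mem_insert_iff, Set.mem_singleton_iff, not_or] at ha' hb'
    have hab0 : a + b ≠ 0 := fun e => hb'.2.2.1 (eq_of_vadd e).symm
    have habs : a + b ≠ s := fun e => hb'.2.2.2 (by rw [← e, ← add_assoc, vadd_self, zero_add])
    have h5 := hone _ (D.add_mem ha hb) hab0 habs
    rw [QuadraticMap.polar_add_right, hone a ha ha'.1 ha'.2, hone b hb hb'.1 hb'.2.1] at h5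
    exact absurd h5 (by decide)
  obtain ⟨e, he, hmove⟩ : ∃ e ∈ E, e • d ≠ d := by
    by_contra h
    simp only [not_exists, not_and, not_not] at h
    rcases hd.fixD d hd' h with e | e
    · exact hd0 e
    · exact hds e
  have hed : e • d = d + s := (hd.move e he d hd').resolve_left hmove
  have hnd : polar q (n • d) s = 0 := by
    rw [← c.smul_n_three s, c.polar_smul, QuadraticMap.polar_comm]
    exact hwd
  have hmem : n • s ∈ D := by
    have h := hd.perp e he (n • d) hnd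
    rwa [← mul_smul, hall, mul_smul, hed, smul_add, add_comm (n • d) (n • s), add_assoc, vadd_self, add_zero] at h
  rcases hd.fixD _ hmem fun e he => hfixn e he with e | e
  · exact hs.ne (by rw [← inv_smul_smul n s, e, smul_zero])
  · exact c.smul_n_ne hs hs.ne e

theorem rest_cards {t : V} (ht : q t = 0) (ht0 : t ≠ 0) (hts : t ∉ MulAction.orbit K s) :
    Nat.card ↥(MulAction.stabilizer K t) = 51840 ∧ Nat.card ↥(MulAction.stabilizer K t ⊓ M) = 25920 := by
  obtain ⟨h1, h2, -⟩ := c.rest_facts hs ht ht0 hts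
  have h := c.orbit_card t
  rw [h1] at h
  refine ⟨by omega, ?_⟩
  have h' := (MulAction.stabilizer ↥M t).index_mul_card
  rw [MulAction.index_stabilizer, h2, c.card_M] at h'
  have e : (MulAction.stabilizer K t ⊓ M).subgroupOf M = MulAction.stabilizer ↥M t := by
    ext m
    exact ⟨fun hm => hm.1, fun hm => ⟨hm, m.2⟩⟩
  rw [← Nat.card_congr (Subgroup.subgroupOfEquivOfLe (inf_le_right : MulAction.stabilizer K t ⊓ M ≤ M)).toEquiv, e]
  omega

/-- The part in `M` of the stabiliser of another vector has no nontrivial normal two-subgroup. -/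
theorem rest_two_core {t : V} (ht : q t = 0) (ht0 : t ≠ 0) (hts : t ∉ MulAction.orbit K s) {P : Subgroup K}
    (hP : P ≤ MulAction.stabilizer K t ⊓ M)
    (hPn : ∀ y ∈ MulAction.stabilizer K t ⊓ M, ∀ p ∈ P, y * p * y⁻¹ ∈ P) (h2 : IsPGroup 2 ↥P) : P = ⊥ := by
  classical
  by_contra hne
  haveI := Fact.mk Nat.prime_two
  haveI : Nontrivial ↥P := (Subgroup.nontrivial_iff_ne_bot P).2 hne
  set Y := MulAction.stabilizer K t ⊓ M with hY
  obtain ⟨-, hYcard⟩ := c.rest_cards hs ht ht0 hts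
  let Z : Subgroup K :=
    { carrier := {x | x ∈ P ∧ x * x = 1 ∧ ∀ p ∈ P, x * p = p * x}
      one_mem' := ⟨one_mem P, one_mul 1, fun p _ => by rw [one_mul, mul_one]⟩
      mul_mem' := by
        rintro a b ⟨ha, ha2, hac⟩ ⟨hb, hb2, hbc⟩
        refine ⟨mul_mem ha hb, ?_, fun p hp => ?_⟩
        · rw [mul_assoc, ← mul_assoc b, hbc a ha, mul_assoc a, hb2, mul_one, ha2]
        · rw [mul_assoc, hbc p hp, ← mul_assoc, hac p hp, mul_assoc]
      inv_mem' := by
        rintro a ⟨ha, ha2, hac⟩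
        rw [show a⁻¹ = a from inv_eq_of_mul_eq_one_left ha2]
        exact ⟨ha, ha2, hac⟩ }
  have hZP : Z ≤ P := fun x hx => hx.1
  have hZn : ∀ y ∈ Y, ∀ x ∈ Z, y * x * y⁻¹ ∈ Z := by
    rintro y hy x ⟨hx, hx2, hxc⟩
    refine ⟨hPn y hy x hx, ?_, fun p hp => ?_⟩
    · rw [show y * x * y⁻¹ * (y * x * y⁻¹) = y * (x * x) * y⁻¹ by group, hx2]; group
    · have h1 := hxc _ (hPn y⁻¹ (inv_mem hy) p hp)
      rw [inv_inv] at h1
      calc y * x * y⁻¹ * p = y * (x * (y⁻¹ * p * y)) * y⁻¹ := by group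
        _ = p * (y * x * y⁻¹) := by rw [h1]; group
  have hel : Cfsg.IsElementaryAbelian 2 Z :=
    ⟨⟨⟨fun a b => Subtype.ext (a.2.2.2 b (hZP b.2))⟩⟩, fun a ha => by rw [pow_two]; exact ha.2.1⟩
  have hZne : Z ≠ ⊥ := by
    haveI := IsPGroup.center_nontrivial h2
    have hdvd : 2 ∣ Nat.card ↥(Subgroup.center ↥P) := by
      obtain ⟨k, hk⟩ := IsPGroup.iff_card.1 (h2.to_subgroup (Subgroup.center ↥P))
      rcases k with _ | k
      · exfalso
        have := Finite.one_lt_card (α := ↥(Subgroup.center ↥P))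
        rw [hk, pow_zero] at this; omega
      · exact ⟨2 ^ k, by rw [hk, pow_succ]; ring⟩
    obtain ⟨x, hx⟩ := exists_prime_orderOf_dvd_card' 2 hdvd
    intro hbot
    have hx2 : x * x = 1 := by rw [← pow_two, ← hx, pow_orderOf_eq_one]
    have hxZ : ((x : ↥P) : K) ∈ Z := ⟨(x : ↥P).2, by
      have := congrArg (fun z : ↥(Subgroup.center ↥P) => ((z : ↥P) : K)) hx2
      simpa using this,
      fun p hp => congrArg Subtype.val (Subgroup.mem_center_iff.1 x.2 ⟨p, hp⟩).symm⟩
    rw [hbot, Subgroup.mem_bot] at hxZ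
    have : x = 1 := Subtype.ext (Subtype.ext hxZ)
    rw [this, orderOf_one] at hx
    omega
  have hZM : Z ≤ M := fun x hx => (hP hx.1).2
  by_cases h16 : 16 ≤ Nat.card ↥Z
  · have h := (c.norm_bound hZM hel h16 (Y := Y) inf_le_right hZn).2 (c.stab_inf_zn hs ht0)
    rw [hYcard] at h
    exact absurd h (by norm_num)
  · haveI := Fact.mk Nat.prime_five
    obtain ⟨y, hy⟩ := exists_prime_orderOf_dvd_card' (G := ↥Y) 5 (by rw [hYcard]; norm_num)
    letI : MulAction ↥(Subgroup.zpowers y) ↥Z :=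
      { smul := fun g x => ⟨((g : ↥Y) : K) * (x : K) * ((g : ↥Y) : K)⁻¹, hZn _ (g : ↥Y).2 _ x.2⟩
        one_smul := fun x => Subtype.ext (show (1 : K) * (x : K) * 1⁻¹ = x by group)
        mul_smul := fun g g' x => Subtype.ext (show ((g : ↥Y) : K) * ((g' : ↥Y) : K) * (x : K) *
          (((g : ↥Y) : K) * ((g' : ↥Y) : K))⁻¹ = ((g : ↥Y) : K) * (((g' : ↥Y) : K) * (x : K) *
            ((g' : ↥Y) : K)⁻¹) * ((g : ↥Y) : K)⁻¹ by group) }
    have hp5 : IsPGroup 5 ↥(Subgroup.zpowers y) := IsPGroup.of_card (n := 1) (by rw [Nat.card_zpowers, hy, pow_one])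
    have hmod := hp5.card_modEq_card_fixedPoints ↥Z
    obtain ⟨k, hk⟩ := IsPGroup.iff_card.1 (h2.to_le hZP)
    have hk0 : k ≠ 0 := by
      rintro rfl
      exact hZne (Subgroup.card_eq_one.1 (by rw [hk, pow_zero]))
    have hk3 : k ≤ 3 := by
      by_contra h
      have : 2 ^ 4 ≤ 2 ^ k := Nat.pow_le_pow_right (by norm_num) (by omega)
      omega
    obtain ⟨⟨z, hzZ⟩, hz, hz1⟩ : ∃ z ∈ MulAction.fixedPoints ↥(Subgroup.zpowers y) ↥Z, z ≠ (1 : ↥Z) := by
      by_contra h
      simp only [not_exists, not_and, not_not] at h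
      have he : MulAction.fixedPoints ↥(Subgroup.zpowers y) ↥Z = {1} := by
        ext z
        refine ⟨fun hz => h z hz, ?_⟩
        rintro rfl g
        exact Subtype.ext (show ((g : ↥Y) : K) * 1 * ((g : ↥Y) : K)⁻¹ = 1 by group)
      rw [he, Nat.card_coe_set_eq, Set.ncard_singleton, hk] at hmod
      interval_cases k <;> first | exact absurd rfl hk0 | exact absurd hmod (by decide)
    have hzy : z * (y : K) = (y : K) * z := by
      have h := congrArg Subtype.val (hz ⟨y, Subgroup.mem_zpowers y⟩)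
      exact (mul_inv_eq_iff_eq_mul.1 h).symm
    have hinj : ∀ m : ↥M, (m : K) ∈ Y → φ m = 1 → m = 1 := fun m hm h =>
      Subtype.ext (Subgroup.mem_bot.1 ((c.stab_inf_zn hs ht0) ▸ Subgroup.mem_inf.2 ⟨(c.ker m).1 h, hm⟩))
    let ψ : ↥Y →* ↥H4 := φ.comp (Subgroup.inclusion inf_le_right)
    have hψ : Function.Injective ψ := (injective_iff_map_eq_one ψ).2 fun a ha =>
      Subtype.ext (congrArg (fun m : ↥M => (m : K)) (hinj _ a.2 ha))
    have hzY : z ∈ Y := hP (hZP hzZ)
    have hz2 : orderOf (ψ ⟨z, hzY⟩) = 2 := by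
      rw [orderOf_injective ψ hψ]
      refine orderOf_eq_prime ?_ fun e => hz1 (Subtype.ext (congrArg (fun a : ↥Y => (a : K)) e))
      exact Subtype.ext (show z ^ 2 = 1 by rw [pow_two]; exact hzZ.2.1)
    refine U43.no_five hz2 (x := ψ y) (by rw [orderOf_injective ψ hψ, hy]) ?_
    show ψ ⟨z, hzY⟩ * ψ y = ψ y * ψ ⟨z, hzY⟩
    rw [← map_mul, ← map_mul]
    exact congrArg ψ (Subtype.ext hzy)

end CfsgLib.LargeFischer.Core
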