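import Cfsg.Agent.Lib.Tails.UFourModel
import Cfsg.Agent.Lib.LargeFischer.U43Data

/-!
# Local structure of the unitary group of dimension four over nine elements on 126 points

A Sylow two-subgroup, the two classes of elementary subgroups of order sixteen with their normalisers and the
order of the centraliser of an involution.
-/

set_option autoImplicit false
set_option maxRecDepth 100000

namespace CfsgLib.LargeFischer.U43

open CfsgLib.LeechPSU CfsgLib.Schur.Tails.UFour CfsgLib.TailsData
open scoped Pointwise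

/-- The elements of the program. -/
def els : List ℕ := uFourCodes ++ (opsC.flatten.map fun o => o.2.2)

/-- An element by its number. -/
noncomputable def el (i : ℕ) : ℕ := els.getD i 0

/-- An entry of a list in pieces. -/
def get2 {α : Type} (l : List (List α)) (d : α) (i : ℕ) : α := (l.getD (i / 100) []).getD (i % 100) d

/-- The points. -/
def rng : List ℕ := List.range 126

/-- A product of two codes. -/
noncomputable def compB (r p q : ℕ) : Bool :=
  rng.all fun a => Nat.beq (fieldAt (el r) a) (fieldAt (el p) (fieldAt (el q) a))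

/-- Two commuting codes. -/
noncomputable def commB (p q : ℕ) : Bool :=
  rng.all fun a => Nat.beq (fieldAt (el p) (fieldAt (el q) a)) (fieldAt (el q) (fieldAt (el p) a))

/-- The code of the identity. -/
noncomputable def oneB (p : ℕ) : Bool := rng.all fun a => Nat.beq (fieldAt (el p) a) a

/-- Two different codes. -/
noncomputable def neB (p q : ℕ) : Bool := rng.any fun a => !Nat.beq (fieldAt (el p) a) (fieldAt (el q) a)

/-- The image of a set of points. -/
noncomputable def mapsB (p m m' : ℕ) : Bool := rng.all fun a => m'.testBit (fieldAt (el p) a) == m.testBit a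

/-- The number of an element of the Sylow group. -/
def tI (k : ℕ) : ℕ := tEls.getD k 0

/-- The number of an involution. -/
def iI (a : ℕ) : ℕ := tI (invs.getD a 0)

/-- Two involutions commute. -/
noncomputable def cbit (a b : ℕ) : Bool := (comM.getD a 0).testBit b

/-- The product of two involutions. -/
def pI (a b : ℕ) : ℕ := (prodT.getD a []).getD b 0

/-- The numbers in use. -/
def rangeB : Bool :=
  (Nat.ble 2 els.length) && Nat.blt oneI els.length && tGens.all (Nat.blt · els.length) &&
    tEls.all (Nat.blt · els.length) && conjs.all (Nat.blt · els.length) && nine.all (Nat.blt · els.length) &&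
    aLifts.all (fun l => Nat.blt l.1 els.length) && bLifts.all (fun l => Nat.blt l.1 els.length) &&
    Nat.beq tEls.length 128 && Nat.beq invs.length 35 && Nat.beq conjs.length 35 && Nat.beq tGens.length 3 &&
    invs.all (Nat.blt · 128) && Nat.blt central 35 && Nat.beq (tI 0) oneI && Nat.beq nine.length 2

/-- The table of the Sylow group. -/
noncomputable def stepB : Bool :=
  oneB oneI && (List.range 128).all fun i => (List.range 3).all fun k =>
    Nat.blt ((tStep.getD i []).getD k 0) 128 && compB (tI ((tStep.getD i []).getD k 0)) (tGens.getD k 0) (tI i)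

/-- The elements of the Sylow group differ. -/
noncomputable def diffB : Bool := (List.range 128).all fun i => (List.range i).all fun j => neB (tI i) (tI j)

/-- The involutions of the Sylow group. -/
noncomputable def invB : Bool :=
  (List.range 128).all (fun i => Nat.beq i 0 || !compB oneI (tI i) (tI i) || invs.any (Nat.beq · i)) &&
    (List.range 35).all (fun a => !Nat.beq (invs.getD a 0) 0 && compB oneI (iI a) (iI a) &&
      (List.range a).all fun b => !Nat.beq (invs.getD a 0) (invs.getD b 0))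

/-- The products of commuting involutions. -/
noncomputable def prodB : Bool :=
  (List.range 35).all fun a => (List.range 35).all fun b =>
    (cbit a b == commB (iI a) (iI b)) &&
      (Nat.beq a b || !cbit a b || (Nat.blt (pI a b) 35 && compB (iI (pI a b)) (iI a) (iI b)))

/-- The fifteen involutions generated by four. -/
def span4 (a b c d : ℕ) : List ℕ :=
  [a, b, c, d, pI a b, pI a c, pI b c, pI (pI a b) c, pI a d, pI b d, pI c d, pI (pI a b) d, pI (pI a c) d,
    pI (pI b c) d, pI (pI (pI a b) c) d]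

/-- A set of numbers as one number. -/
def maskOf (l : List ℕ) : ℕ := l.foldl (fun m x => m ||| 2 ^ x) 0

/-- Four independent commuting involutions. -/
noncomputable def quadB : Bool :=
  (List.range 35).all fun a => (List.range 35).all fun b =>
    Nat.beq b a || !cbit a b || (List.range 35).all fun c =>
      Nat.beq c a || Nat.beq c b || Nat.beq c (pI a b) || !cbit a c || !cbit b c || (List.range 35).all fun d =>
        Nat.beq d a || Nat.beq d b || Nat.beq d c || Nat.beq d (pI a b) || Nat.beq d (pI a c) || Nat.beq d (pI b c) ||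
          Nat.beq d (pI (pI a b) c) || !cbit a d || !cbit b d || !cbit c d ||
            (Nat.beq (maskOf (span4 a b c d)) aMask || Nat.beq (maskOf (span4 a b c d)) bMask)

/-- The members of an elementary group. -/
noncomputable def members (m : ℕ) : List ℕ := (List.range 35).filter fun a => m.testBit a

/-- Nothing further centralises an elementary group of order sixteen. -/
noncomputable def maxB (m : ℕ) : Bool :=
  Nat.beq (members m).length 15 &&
    (List.range 35).all fun d => m.testBit d || (members m).any fun a => !cbit d a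

theorem range_ok : rangeB = true := by decide +kernel
theorem ops_ok : slpOk 126 opsC.flatten uFourCodes = true := by decide +kernel
theorem step_ok : stepB = true := by decide +kernel
theorem diff_ok : diffB = true := by decide +kernel
theorem inv_ok : invB = true := by decide +kernel
theorem prod_ok : prodB = true := by decide +kernel
theorem quad_ok : quadB = true := by decide +kernel
theorem max_ok : maxB aMask = true ∧ maxB bMask = true := by
  constructor <;> decide +kernel

theorem exists_el {i : ℕ} (hi : i < els.length) : ∃ σ : ↥H4, IsCode (el i) (σ : Equiv.Perm (Fin 126)) := by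
  have hbase : ∀ P ∈ uFourCodes, ∃ σ ∈ permGroup 126 uFourCodes, IsCode P σ := by
    intro P hP
    obtain ⟨k, hk, rfl⟩ := List.getElem_of_mem hP
    have hk2 : k < 2 := by
      have h := agree_checks
      simp only [agreeB, Bool.and_eq_true, Nat.beq_eq] at h
      omega
    have e := code_perm hk2
    rw [List.getD_eq_getElem _ _ hk] at e
    exact ⟨_, Subgroup.subset_closure ⟨_, List.getElem_mem hk, e⟩, e⟩
  obtain ⟨σ, hσ, hc⟩ := slp_sound _ _ hbase ops_ok _ (show els[i] ∈ _ from List.getElem_mem hi)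
  refine ⟨⟨σ, permGroup_eq ▸ hσ⟩, ?_⟩
  rw [el, List.getD_eq_getElem _ _ hi]
  exact hc

/-- An element of the program. -/
noncomputable def E_ (i : ℕ) : ↥H4 := if h : i < els.length then (exists_el h).choose else 1

theorem code_E {i : ℕ} (hi : i < els.length) : IsCode (el i) (E_ i : Equiv.Perm (Fin 126)) := by
  rw [E_, dif_pos hi]; exact (exists_el hi).choose_spec

theorem comp_spec {r p q : ℕ} (h : compB r p q = true) (hr : r < els.length) (hp : p < els.length)
    (hq : q < els.length) : E_ r = E_ p * E_ q := by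
  simp only [compB, rng, List.all_eq_true, List.mem_range, Nat.beq_eq] at h
  exact Subtype.ext (Equiv.ext fun a => Fin.ext (by
    rw [code_E hr a, h a.val a.isLt, Subgroup.coe_mul, Equiv.Perm.mul_apply, code_E hp, code_E hq]))

theorem one_spec {p : ℕ} (h : oneB p = true) (hp : p < els.length) : E_ p = 1 := by
  simp only [oneB, rng, List.all_eq_true, List.mem_range, Nat.beq_eq] at h
  exact Subtype.ext (Equiv.ext fun a => Fin.ext (by rw [code_E hp a, h a.val a.isLt]; rfl))

theorem comm_spec {p q : ℕ} (hp : p < els.length) (hq : q < els.length) :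
    commB p q = true ↔ Commute (E_ p) (E_ q) := by
  have e1 : ∀ a : Fin 126, (((E_ p * E_ q : ↥H4) : Equiv.Perm (Fin 126)) a : ℕ) =
      fieldAt (el p) (fieldAt (el q) a) := fun a => by
    rw [Subgroup.coe_mul, Equiv.Perm.mul_apply, code_E hp, code_E hq]
  have e2 : ∀ a : Fin 126, (((E_ q * E_ p : ↥H4) : Equiv.Perm (Fin 126)) a : ℕ) =
      fieldAt (el q) (fieldAt (el p) a) := fun a => by
    rw [Subgroup.coe_mul, Equiv.Perm.mul_apply, code_E hq, code_E hp]
  simp only [commB, rng, List.all_eq_true, List.mem_range, Nat.beq_eq]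
  constructor
  · exact fun h => Subtype.ext (Equiv.ext fun a => Fin.ext (by rw [e1, e2, h a.val a.isLt]))
  · intro h a ha
    have := e1 ⟨a, ha⟩
    rw [h.eq, e2] at this
    exact this.symm

theorem ne_spec {p q : ℕ} (h : neB p q = true) (hp : p < els.length) (hq : q < els.length) : E_ p ≠ E_ q := by
  simp only [neB, rng, List.any_eq_true, List.mem_range, Bool.not_eq_true', ← Bool.not_eq_true, Nat.beq_eq] at h
  obtain ⟨a, ha, hne⟩ := h
  intro e
  exact hne (((code_E hp ⟨a, ha⟩).symm.trans (by rw [e])).trans (code_E hq ⟨a, ha⟩))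

theorem getD_lt {l : List ℕ} {b : ℕ} (h : ∀ x ∈ l, x < b) {i : ℕ} (hi : i < l.length) : l.getD i 0 < b := by
  rw [List.getD_eq_getElem _ _ hi]; exact h _ (List.getElem_mem hi)

theorem ranges : (∀ k < 128, tI k < els.length) ∧ (∀ k < 3, tGens.getD k 0 < els.length) ∧
    (∀ a < 35, invs.getD a 0 < 128) ∧ (∀ a < 35, iI a < els.length) ∧ oneI < els.length ∧ tI 0 = oneI ∧
    (∀ a < 35, conjs.getD a 0 < els.length) ∧ central < 35 ∧ (∀ a < 2, nine.getD a 0 < els.length) ∧
    (∀ l ∈ aLifts, l.1 < els.length) ∧ (∀ l ∈ bLifts, l.1 < els.length) := by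
  have h := range_ok
  simp only [rangeB, Bool.and_eq_true, List.all_eq_true, Nat.blt_eq, Nat.beq_eq, Nat.ble_eq] at h
  obtain ⟨⟨⟨⟨⟨⟨⟨⟨⟨⟨⟨⟨⟨⟨⟨-, h1⟩, h2⟩, h3⟩, h4⟩, h5⟩, h6⟩, h7⟩, h8⟩, h9⟩, h10⟩, h11⟩, h12⟩, h13⟩, h14⟩, h15⟩ := h
  have hT : ∀ k < 128, tI k < els.length := fun k hk => getD_lt h3 (by omega)
  have hI : ∀ a < 35, invs.getD a 0 < 128 := fun a ha => getD_lt h12 (by omega)
  exact ⟨hT, fun k hk => getD_lt h2 (by omega), hI, fun a ha => hT _ (hI a ha), h1, h14,
    fun a ha => getD_lt h4 (by omega), h13, fun a ha => getD_lt h5 (by omega), h6, h7⟩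

/-- An element of the Sylow group. -/
noncomputable def tP (k : ℕ) : ↥H4 := E_ (tI k)

/-- An involution of the Sylow group. -/
noncomputable def iP (a : ℕ) : ↥H4 := E_ (iI a)

theorem iP_eq (a : ℕ) : iP a = tP (invs.getD a 0) := rfl

/-- The Sylow group. -/
noncomputable def TG : Subgroup ↥H4 := Subgroup.closure {σ | ∃ k < 3, E_ (tGens.getD k 0) = σ}

theorem tP_zero : tP 0 = 1 := by
  obtain ⟨-, -, -, -, h1, h0, -⟩ := ranges
  have h := step_ok
  simp only [stepB, Bool.and_eq_true] at h
  rw [tP, h0]; exact one_spec h.1 h1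

theorem tP_mul {i k : ℕ} (hi : i < 128) (hk : k < 3) :
    ∃ j < 128, tP j = E_ (tGens.getD k 0) * tP i := by
  obtain ⟨hT, hG, -⟩ := ranges
  have h := step_ok
  simp only [stepB, Bool.and_eq_true, List.all_eq_true, List.mem_range, Nat.blt_eq] at h
  obtain ⟨hj, hc⟩ := h.2 i hi k hk
  exact ⟨_, hj, comp_spec hc (hT _ hj) (hG k hk) (hT i hi)⟩

theorem mem_TG {σ : ↥H4} : σ ∈ TG ↔ ∃ i < 128, tP i = σ := by
  constructor
  · intro h
    have h' : σ ∈ Submonoid.closure {σ : ↥H4 | ∃ k < 3, E_ (tGens.getD k 0) = σ} := by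
      rw [← Subgroup.closure_toSubmonoid_of_finite]; exact h
    induction h' using Submonoid.closure_induction_left with
    | one => exact ⟨0, by norm_num, tP_zero⟩
    | mul_left x hx y _ ih =>
      obtain ⟨k, hk, rfl⟩ := hx
      obtain ⟨i, hi, rfl⟩ := ih (by
        rw [TG, ← Subgroup.mem_toSubmonoid, Subgroup.closure_toSubmonoid_of_finite]; assumption)
      exact tP_mul hi hk
  · rintro ⟨i, hi, rfl⟩
    induction i using Nat.strong_induction_on with
    | _ i ih =>
      rcases Nat.eq_zero_or_pos i with rfl | hpos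
      · rw [tP_zero]; exact one_mem _
      · obtain ⟨p, hp, k, hk, hpar⟩ : ∃ p < i, ∃ k < 3, (tStep.getD p []).getD k 0 = i := by
          have h := (show (List.range 128).all (fun i => Nat.beq i 0 || (List.range i).any fun p =>
            (List.range 3).any fun k => Nat.beq ((tStep.getD p []).getD k 0) i) = true by decide +kernel)
          simp only [List.all_eq_true, List.mem_range, Bool.or_eq_true, Nat.beq_eq, List.any_eq_true] at h
          rcases h i hi with e | ⟨p, hp, k, hk, e⟩
          · omega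
          · exact ⟨p, hp, k, hk, e⟩
        obtain ⟨hT, hG, -⟩ := ranges
        have h := step_ok
        simp only [stepB, Bool.and_eq_true, List.all_eq_true, List.mem_range, Nat.blt_eq] at h
        obtain ⟨hj, hc⟩ := h.2 p (by omega) k hk
        have e := comp_spec hc (hT _ hj) (hG k hk) (hT p (by omega))
        rw [hpar] at e
        rw [tP, e]
        exact mul_mem (Subgroup.subset_closure ⟨k, hk, rfl⟩) (ih p hp (by omega))

theorem tP_inj {i j : ℕ} (hi : i < 128) (hj : j < 128) (h : tP i = tP j) : i = j := by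
  obtain ⟨hT, -⟩ := ranges
  have hd := diff_ok
  simp only [diffB, List.all_eq_true, List.mem_range] at hd
  rcases lt_trichotomy i j with e | e | e
  · exact absurd h.symm (ne_spec (hd j hj i e) (hT j hj) (hT i hi))
  · exact e
  · exact absurd h (ne_spec (hd i hi j e) (hT i hi) (hT j hj))

theorem card_TG : Nat.card ↥TG = 128 := by
  let f : Fin 128 → ↥TG := fun i => ⟨tP i.val, mem_TG.2 ⟨_, i.isLt, rfl⟩⟩
  rw [← Nat.card_eq_of_bijective f ⟨fun i j e => Fin.ext (tP_inj i.isLt j.isLt (congrArg Subtype.val e)),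
    fun σ => ?_⟩, Nat.card_fin]
  obtain ⟨i, hi, e⟩ := mem_TG.1 σ.2
  exact ⟨⟨i, hi⟩, Subtype.ext e⟩

theorem iP_facts {a : ℕ} (ha : a < 35) : iP a ∈ TG ∧ iP a ≠ 1 ∧ iP a * iP a = 1 := by
  obtain ⟨hT, -, hI, hIe, h1, h0, -⟩ := ranges
  have h := inv_ok
  simp only [invB, Bool.and_eq_true, List.all_eq_true, List.mem_range, Bool.not_eq_true',
    ← Bool.not_eq_true, Nat.beq_eq] at h
  obtain ⟨⟨hne, hsq⟩, -⟩ := h.2 a ha
  refine ⟨mem_TG.2 ⟨_, hI a ha, rfl⟩, fun e => hne ?_, ?_⟩
  · rw [iP_eq, ← tP_zero] at e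
    exact tP_inj (hI a ha) (by norm_num) e
  · rw [iP, ← comp_spec hsq h1 (hIe a ha) (hIe a ha), ← h0]; exact tP_zero

theorem iP_inj {a b : ℕ} (ha : a < 35) (hb : b < 35) (h : iP a = iP b) : a = b := by
  obtain ⟨-, -, hI, -⟩ := ranges
  have e := tP_inj (hI a ha) (hI b hb) h
  have hd := inv_ok
  simp only [invB, Bool.and_eq_true, List.all_eq_true, List.mem_range, Bool.not_eq_true',
    ← Bool.not_eq_true, Nat.beq_eq] at hd
  rcases lt_trichotomy a b with l | l | l
  · exact absurd e.symm ((hd.2 b hb).2 a l)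
  · exact l
  · exact absurd e ((hd.2 a ha).2 b l)

theorem exists_inv {σ : ↥H4} (h : σ ∈ TG) (h1 : σ ≠ 1) (h2 : σ * σ = 1) : ∃ a < 35, iP a = σ := by
  obtain ⟨i, hi, rfl⟩ := mem_TG.1 h
  obtain ⟨hT, -, -, -, ho, h0, -⟩ := ranges
  have hd := inv_ok
  simp only [invB, Bool.and_eq_true, List.all_eq_true, List.mem_range, Bool.or_eq_true, List.any_eq_true,
    Nat.beq_eq, Bool.not_eq_true'] at hd
  rcases hd.1 i hi with (e | e) | ⟨x, hx, rfl⟩
  · exact absurd (e ▸ tP_zero) h1
  · exfalso
    have hc : compB oneI (tI i) (tI i) = true := by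
      simp only [compB, rng, List.all_eq_true, List.mem_range, Nat.beq_eq]
      intro a ha
      have e1 := code_E ho ⟨a, ha⟩
      rw [← h0, show E_ (tI 0) = 1 from tP_zero] at e1
      have e2 : (((tP i * tP i : ↥H4) : Equiv.Perm (Fin 126)) ⟨a, ha⟩ : ℕ) =
          fieldAt (el (tI i)) (fieldAt (el (tI i)) a) := by
        rw [Subgroup.coe_mul, Equiv.Perm.mul_apply, tP, code_E (hT i hi), code_E (hT i hi)]
      rw [h2] at e2
      rw [← h0]; exact e1.symm.trans e2
    rw [hc] at e
    exact absurd e (by simp)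
  · have hlen : invs.length = 35 := by
      have hr := range_ok
      simp only [rangeB, Bool.and_eq_true, Nat.beq_eq] at hr
      omega
    obtain ⟨a, ha, rfl⟩ := List.getElem_of_mem hx
    exact ⟨a, hlen ▸ ha, by rw [iP_eq, List.getD_eq_getElem _ _ ha]⟩

theorem iP_prod {a b : ℕ} (ha : a < 35) (hb : b < 35) : (cbit a b = true ↔ Commute (iP a) (iP b)) ∧
    (a ≠ b → cbit a b = true → pI a b < 35 ∧ iP (pI a b) = iP a * iP b) := by
  obtain ⟨-, -, -, hIe, -⟩ := ranges
  have h := prod_ok
  simp only [prodB, Bool.and_eq_true, List.all_eq_true, List.mem_range, Bool.or_eq_true, Nat.beq_eq,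
    Nat.blt_eq, beq_iff_eq, Bool.not_eq_true'] at h
  obtain ⟨h1, h2⟩ := h a ha b hb
  refine ⟨by rw [h1]; exact comm_spec (hIe a ha) (hIe b hb), fun hne hc => ?_⟩
  rcases h2 with (e | e) | ⟨hlt, hcomp⟩
  · exact absurd e hne
  · rw [hc] at e; exact absurd e (by simp)
  · exact ⟨hlt, comp_spec hcomp (hIe _ hlt) (hIe a ha) (hIe b hb)⟩

theorem testBit_maskOf : ∀ (l : List ℕ) (m j : ℕ), (l.foldl (fun m x => m ||| 2 ^ x) m).testBit j = true ↔
    m.testBit j = true ∨ j ∈ l := by
  intro l
  induction l with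
  | nil => simp
  | cons x l ih =>
    intro m j
    rw [List.foldl_cons, ih, Nat.testBit_or, Bool.or_eq_true, Nat.testBit_two_pow, decide_eq_true_eq,
      List.mem_cons]
    constructor
    · rintro ((h | h) | h)
      exacts [.inl h, .inr (.inl h.symm), .inr (.inr h)]
    · rintro (h | h | h)
      exacts [.inl (.inl h), .inl (.inr h.symm), .inr h]

/-- The elementary group of a mask. -/
def IsMask (m : ℕ) (E : Subgroup ↥H4) : Prop :=
  ∀ σ, σ ∈ E ↔ σ = 1 ∨ ∃ a < 35, m.testBit a = true ∧ iP a = σ

/-- The elementary subgroups of order at least sixteen of the Sylow group. -/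
theorem elementary_sylow {E : Subgroup ↥H4} (hle : E ≤ TG) (he : Cfsg.IsElementaryAbelian 2 E)
    (hcard : 16 ≤ Nat.card E) : ∃ m, (m = aMask ∨ m = bMask) ∧ IsMask m E := by
  classical
  have hsq : ∀ σ ∈ E, σ * σ = 1 := fun σ h => by rw [← pow_two]; exact he.2 σ h
  have hcm : ∀ σ ∈ E, ∀ τ ∈ E, Commute σ τ := fun σ h τ h' =>
    congrArg Subtype.val (he.1.is_comm.comm (⟨σ, h⟩ : ↥E) ⟨τ, h'⟩)
  let S : Finset ℕ := (Finset.range 35).filter fun a => iP a ∈ E
  have hS : ∀ a, a ∈ S ↔ a < 35 ∧ iP a ∈ E := fun a => by simp [S]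
  have hcov : ∀ σ ∈ E, σ = 1 ∨ ∃ a ∈ S, iP a = σ := fun σ h => by
    by_cases h1 : σ = 1
    · exact .inl h1
    · obtain ⟨a, ha, rfl⟩ := exists_inv (hle h) h1 (hsq σ h)
      exact .inr ⟨a, (hS a).2 ⟨ha, h⟩, rfl⟩
  have h15 : 15 ≤ S.card := by
    have hsub : (E : Set ↥H4) ⊆ ↑(insert (1 : ↥H4) (S.image iP)) := fun σ h => by
      simp only [Finset.coe_insert, Finset.coe_image, Set.mem_insert_iff, Set.mem_image, Finset.mem_coe]
      exact hcov σ h
    have h1 := Set.ncard_le_ncard hsub (Finset.finite_toSet _)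
    rw [Set.ncard_coe_finset] at h1
    have h2 := (Finset.card_insert_le (1 : ↥H4) (S.image iP)).trans
      (Nat.add_le_add_right Finset.card_image_le 1)
    have h3 : (E : Set ↥H4).ncard = Nat.card ↥E := (Nat.card_coe_set_eq _).symm
    omega
  have hcl : ∀ a ∈ S, ∀ b ∈ S, cbit a b = true ∧ (a ≠ b → pI a b ∈ S) := by
    intro a ha b hb
    obtain ⟨ha', hae⟩ := (hS a).1 ha
    obtain ⟨hb', hbe⟩ := (hS b).1 hb
    have hc := (iP_prod ha' hb').1.2 (hcm _ hae _ hbe)
    exact ⟨hc, fun hne => by
      obtain ⟨hlt, e⟩ := (iP_prod ha' hb').2 hne hc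
      exact (hS _).2 ⟨hlt, e ▸ mul_mem hae hbe⟩⟩
  obtain ⟨a, ha⟩ := Finset.card_pos.1 (by omega : 0 < S.card)
  have hpick : ∀ T : Finset ℕ, T.card ≤ 7 → ∃ x ∈ S, x ∉ T := fun T hT => by
    by_contra hcon
    push Not at hcon
    have := Finset.card_le_card (fun x hx => hcon x hx : S ⊆ T)
    omega
  obtain ⟨b, hb, hb'⟩ := hpick {a} (by simp)
  obtain ⟨c, hc, hc'⟩ := hpick {a, b, pI a b} ((Finset.card_le_three).trans (by norm_num))
  obtain ⟨d, hd, hd'⟩ := hpick [a, b, c, pI a b, pI a c, pI b c, pI (pI a b) c].toFinset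
    ((List.toFinset_card_le _).trans (by simp))
  simp only [Finset.mem_singleton] at hb'
  simp only [Finset.mem_insert, Finset.mem_singleton, not_or] at hc'
  simp only [List.mem_toFinset, List.mem_cons, List.not_mem_nil, or_false, not_or] at hd'
  obtain ⟨hca, hcb, hcab⟩ := hc'
  obtain ⟨hda, hdb, hdc, hdab, hdac, hdbc, hdabc⟩ := hd'
  have hq := quad_ok
  simp only [quadB, List.all_eq_true, List.mem_range, Bool.or_eq_true, Nat.beq_eq, Bool.not_eq_true'] at hq
  have la := ((hS a).1 ha).1
  have lb := ((hS b).1 hb).1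
  have lc := ((hS c).1 hc).1
  have ld := ((hS d).1 hd).1
  have ct : ∀ {x y : ℕ}, x ∈ S → y ∈ S → ¬ cbit x y = false := fun hx hy e => by
    rw [(hcl _ hx _ hy).1] at e; exact absurd e (by simp)
  have q1' := (hq a la b lb).resolve_left fun h => h.elim hb' (ct ha hb)
  have q2' := (q1' c lc).resolve_left fun h => by
    rcases h with (((e | e) | e) | e) | e
    exacts [hca e, hcb e, hcab e, ct ha hc e, ct hb hc e]
  have q3 := (q2' d ld).resolve_left fun h => by
    rcases h with ((((((((e | e) | e) | e) | e) | e) | e) | e) | e) | e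
    exacts [hda e, hdb e, hdc e, hdab e, hdac e, hdbc e, hdabc e, ct ha hd e, ct hb hd e, ct hc hd e]
  have hab := (hcl a ha b hb).2 (Ne.symm hb')
  have hac := (hcl a ha c hc).2 (Ne.symm hca)
  have hbc := (hcl b hb c hc).2 (Ne.symm hcb)
  have habc := (hcl _ hab c hc).2 (Ne.symm hcab)
  have had := (hcl a ha d hd).2 (Ne.symm hda)
  have hbd := (hcl b hb d hd).2 (Ne.symm hdb)
  have hcd := (hcl c hc d hd).2 (Ne.symm hdc)
  have habd := (hcl _ hab d hd).2 (Ne.symm hdab)
  have hacd := (hcl _ hac d hd).2 (Ne.symm hdac)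
  have hbcd := (hcl _ hbc d hd).2 (Ne.symm hdbc)
  have habcd := (hcl _ habc d hd).2 (Ne.symm hdabc)
  obtain ⟨m, hm, hme⟩ : ∃ m, (m = aMask ∨ m = bMask) ∧ maskOf (span4 a b c d) = m :=
    ⟨_, q3, rfl⟩
  refine ⟨m, hm, ?_⟩
  have hmS : ∀ x, m.testBit x = true → x ∈ S := fun x hx => by
    rw [← hme, maskOf, testBit_maskOf] at hx
    simp only [span4, List.mem_cons, List.not_mem_nil, or_false, Nat.zero_testBit] at hx
    rcases hx with h | h | h | h | h | h | h | h | h | h | h | h | h | h | h | h
    · exact absurd h (by simp)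
    all_goals subst h; assumption
  have hmax : maxB m = true := by rcases hm with rfl | rfl; exacts [max_ok.1, max_ok.2]
  simp only [maxB, Bool.and_eq_true, List.all_eq_true, List.mem_range, Bool.or_eq_true, List.any_eq_true,
    members, List.mem_filter, Bool.not_eq_true'] at hmax
  intro σ
  constructor
  · intro h
    rcases hcov σ h with e | ⟨x, hx, rfl⟩
    · exact .inl e
    · refine .inr ⟨x, ((hS x).1 hx).1, ?_, rfl⟩
      rcases hmax.2 x ((hS x).1 hx).1 with e | ⟨y, ⟨-, hy⟩, e⟩
      · exact e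
      · exact absurd e (ct hx (hmS y hy))
  · rintro (rfl | ⟨x, hx, hxm, rfl⟩)
    · exact one_mem _
    · exact ((hS x).1 (hmS x hxm)).2

theorem sylow_index : ¬ 2 ∣ TG.index := by
  have h := TG.index_mul_card
  rw [card_TG, card_H4] at h
  omega

/-- Every two-subgroup is conjugate into the Sylow group. -/
theorem exists_conj_le {E : Subgroup ↥H4} (hE : IsPGroup 2 E) :
    ∃ g : ↥H4, E.map (MulAut.conj g).toMonoidHom ≤ TG := by
  haveI := Fact.mk Nat.prime_two
  obtain ⟨P, hP⟩ := hE.exists_le_sylow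
  have hT : IsPGroup 2 ↥TG := IsPGroup.of_card (n := 7) (by rw [card_TG]; norm_num)
  obtain ⟨g, hg⟩ := MulAction.exists_smul_eq (↥H4) P (hT.toSylow sylow_index)
  refine ⟨g, ?_⟩
  have e := congrArg Sylow.toSubgroup hg
  rw [Sylow.coe_subgroup_smul] at e
  intro y hy
  obtain ⟨x, hx, rfl⟩ := Subgroup.mem_map.1 hy
  show _ ∈ (hT.toSylow sylow_index).toSubgroup
  rw [← e]
  exact ⟨x, hP hx, rfl⟩

end CfsgLib.LargeFischer.U43
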