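import Cfsg.Agent.Lib.LargeFischer.U43Cert

/-!
# Checked tables of sets of points
-/

set_option autoImplicit false
set_option maxRecDepth 100000

namespace CfsgLib.LargeFischer.U43

open CfsgLib.LeechPSU CfsgLib.Schur.Tails.UFour CfsgLib.TailsData

/-- Evaluate a number before it is used. -/
noncomputable def forceB (n : ℕ) (f : ℕ → Bool) : Bool := Nat.rec (f 0) (fun k _ => f (Nat.succ k)) n

theorem forceB_eq (n : ℕ) (f : ℕ → Bool) : forceB n f = f n := by cases n <;> rfl

/-- The image of a set of points, evaluated quickly. -/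
noncomputable def mapsF (p m m' : ℕ) : Bool :=
  forceB (el p) fun P => forceB m fun u => forceB m' fun w =>
    Nat.rec true (fun a r => Nat.beq (Nat.land 1 (Nat.shiftRight w (fieldAt P a))) (Nat.land 1 (Nat.shiftRight u a)) && r) 126

theorem land_testBit {w u x y : ℕ} (h : Nat.land 1 (Nat.shiftRight w x) = Nat.land 1 (Nat.shiftRight u y)) :
    w.testBit x = u.testBit y := by
  change 1 &&& (w >>> x) = 1 &&& (u >>> y) at h
  simp only [Nat.testBit, h]

theorem mapsF_spec {p m m' : ℕ} (h : mapsF p m m' = true) : mapsB p m m' = true := by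
  simp only [mapsF, forceB_eq] at h
  simp only [mapsB, rng, List.all_eq_true, List.mem_range, beq_iff_eq]
  generalize (126 : ℕ) = k at h
  induction k with
  | zero => intro a ha; omega
  | succ k ih =>
    change (_ && _) = true at h
    rw [Bool.and_eq_true, Nat.beq_eq] at h
    intro a ha
    rcases Nat.lt_succ_iff_lt_or_eq.1 ha with l | rfl
    · exact ih h.2 a l
    · exact land_testBit h.1

/-- One step of an orbit given as a tree with the order by size. -/
noncomputable def orbStep (n : ℕ) (sets : List (List ℕ)) (par : List (List (ℕ × ℕ))) (srt : List (List ℕ)) (i : ℕ) : Bool :=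
  Nat.blt (get2 sets 0 i) (2 ^ 126) && Nat.blt (get2 srt 0 i) n &&
    (Nat.beq i 0 || (Nat.blt (get2 par (0, 0) (i - 1)).1 i && Nat.blt (get2 par (0, 0) (i - 1)).2 2 &&
      mapsF (get2 par (0, 0) (i - 1)).2 (get2 sets 0 (get2 par (0, 0) (i - 1)).1) (get2 sets 0 i))) &&
    (Nat.ble n (i + 1) || Nat.blt (get2 sets 0 (get2 srt 0 i)) (get2 sets 0 (get2 srt 0 (i + 1))))

/-- A stretch of steps. -/
noncomputable def orbChunk (n : ℕ) (sets : List (List ℕ)) (par : List (List (ℕ × ℕ))) (srt : List (List ℕ)) (lo len : ℕ) : Bool :=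
  Nat.rec true (fun j r => orbStep n sets par srt (lo + j) && r) len

theorem orbChunk_spec {n : ℕ} {sets : List (List ℕ)} {par : List (List (ℕ × ℕ))} {srt : List (List ℕ)} {lo : ℕ} :
    ∀ {len : ℕ}, orbChunk n sets par srt lo len = true → ∀ i, lo ≤ i → i < lo + len → orbStep n sets par srt i = true := by
  intro len
  induction len with
  | zero => intro _ i h1 h2; omega
  | succ k ih =>
    intro h i h1 h2
    change (_ && orbChunk n sets par srt lo k) = true at h
    rw [Bool.and_eq_true] at h
    rcases Nat.lt_succ_iff_lt_or_eq.1 h2 with l | e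
    · exact ih h.2 i h1 l
    · subst e; exact h.1

/-- A three-cycle of the six sets. -/
def cyc (k : ℕ) : List ℕ := (List.range 6).map fun i => if i = 0 then 1 else if i = 1 then k else if i = k then 0 else i

/-- One class of elementary groups with the six sets. -/
noncomputable def clsB (m : ℕ) (fx : Bool) (objs : List ℕ) (lifts : List (ℕ × List ℕ)) (root : ℕ) : Bool :=
  Nat.beq objs.length 6 && Nat.beq lifts.length 4 &&
    rng.all (fun a => (root.testBit a == objs.any fun o => o.testBit a) &&
      (root.testBit a == (members m).all fun e => Nat.beq (fieldAt (el (iI e)) a) a == fx)) &&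
    (List.range 6).all (fun i => (List.range i).all fun j =>
      rng.any fun a => (objs.getD i 0).testBit a != (objs.getD j 0).testBit a) &&
    (members m).all (fun e => (List.range 6).all fun i => mapsB (iI e) (objs.getD i 0) (objs.getD i 0)) &&
    (List.range 4).all fun k => decide ((lifts.getD k (0, [])).2 = cyc (k + 2)) &&
      (List.range 6).all fun i => mapsB (lifts.getD k (0, [])).1 (objs.getD i 0) (objs.getD ((cyc (k + 2)).getD i 0) 0)

/-- The root of the orbit of the central involution is its set of fixed points, with a group of order nine. -/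
noncomputable def centB : Bool :=
  rng.all (fun a => (get2 tOrbSets 0 0).testBit a == Nat.beq (fieldAt (el (iI central)) a) a) &&
    (List.range 3).all (fun k => commB (tGens.getD k 0) (iI central)) &&
    (List.range 2).all (fun k => commB (nine.getD k 0) (iI central) && neB (nine.getD k 0) oneI &&
      rng.all fun a => Nat.beq (fieldAt (el (nine.getD k 0)) (fieldAt (el (nine.getD k 0))
        (fieldAt (el (nine.getD k 0)) a))) a) &&
    commB (nine.getD 0 0) (nine.getD 1 0) && neB (nine.getD 0 0) (nine.getD 1 0) &&
    (rng.any fun a => !Nat.beq (fieldAt (el (nine.getD 1 0)) a)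
      (fieldAt (el (nine.getD 0 0)) (fieldAt (el (nine.getD 0 0)) a))) &&
    (List.range 35).all fun a => rng.all fun x =>
      Nat.beq (fieldAt (el (conjs.getD a 0)) (fieldAt (el (iI central)) x))
        (fieldAt (el (iI a)) (fieldAt (el (conjs.getD a 0)) x))

theorem aOrb_chunk0 : orbChunk 567 aOrbSets aOrbPar aOrbSort 0 315 = true := by decide +kernel
theorem aOrb_chunk1 : orbChunk 567 aOrbSets aOrbPar aOrbSort 315 252 = true := by decide +kernel
theorem aOrb_ok : ∀ i < 567, orbStep 567 aOrbSets aOrbPar aOrbSort i = true := by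
  intro i hi
  rcases Nat.lt_or_ge i 315 with l | l
  · exact orbChunk_spec aOrb_chunk0 i (by omega) (by omega)
  exact orbChunk_spec aOrb_chunk1 i (by omega) (by omega)
theorem bOrb_chunk0 : orbChunk 567 bOrbSets bOrbPar bOrbSort 0 315 = true := by decide +kernel
theorem bOrb_chunk1 : orbChunk 567 bOrbSets bOrbPar bOrbSort 315 252 = true := by decide +kernel
theorem bOrb_ok : ∀ i < 567, orbStep 567 bOrbSets bOrbPar bOrbSort i = true := by
  intro i hi
  rcases Nat.lt_or_ge i 315 with l | l
  · exact orbChunk_spec bOrb_chunk0 i (by omega) (by omega)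
  exact orbChunk_spec bOrb_chunk1 i (by omega) (by omega)
theorem tOrb_chunk0 : orbChunk 2835 tOrbSets tOrbPar tOrbSort 0 315 = true := by decide +kernel
theorem tOrb_chunk1 : orbChunk 2835 tOrbSets tOrbPar tOrbSort 315 315 = true := by decide +kernel
theorem tOrb_chunk2 : orbChunk 2835 tOrbSets tOrbPar tOrbSort 630 315 = true := by decide +kernel
theorem tOrb_chunk3 : orbChunk 2835 tOrbSets tOrbPar tOrbSort 945 315 = true := by decide +kernel
theorem tOrb_chunk4 : orbChunk 2835 tOrbSets tOrbPar tOrbSort 1260 315 = true := by decide +kernel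
theorem tOrb_chunk5 : orbChunk 2835 tOrbSets tOrbPar tOrbSort 1575 315 = true := by decide +kernel
theorem tOrb_chunk6 : orbChunk 2835 tOrbSets tOrbPar tOrbSort 1890 315 = true := by decide +kernel
theorem tOrb_chunk7 : orbChunk 2835 tOrbSets tOrbPar tOrbSort 2205 315 = true := by decide +kernel
theorem tOrb_chunk8 : orbChunk 2835 tOrbSets tOrbPar tOrbSort 2520 315 = true := by decide +kernel
theorem tOrb_ok : ∀ i < 2835, orbStep 2835 tOrbSets tOrbPar tOrbSort i = true := by
  intro i hi
  rcases Nat.lt_or_ge i 315 with l | l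
  · exact orbChunk_spec tOrb_chunk0 i (by omega) (by omega)
  rcases Nat.lt_or_ge i 630 with l | l
  · exact orbChunk_spec tOrb_chunk1 i (by omega) (by omega)
  rcases Nat.lt_or_ge i 945 with l | l
  · exact orbChunk_spec tOrb_chunk2 i (by omega) (by omega)
  rcases Nat.lt_or_ge i 1260 with l | l
  · exact orbChunk_spec tOrb_chunk3 i (by omega) (by omega)
  rcases Nat.lt_or_ge i 1575 with l | l
  · exact orbChunk_spec tOrb_chunk4 i (by omega) (by omega)
  rcases Nat.lt_or_ge i 1890 with l | l
  · exact orbChunk_spec tOrb_chunk5 i (by omega) (by omega)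
  rcases Nat.lt_or_ge i 2205 with l | l
  · exact orbChunk_spec tOrb_chunk6 i (by omega) (by omega)
  rcases Nat.lt_or_ge i 2520 with l | l
  · exact orbChunk_spec tOrb_chunk7 i (by omega) (by omega)
  exact orbChunk_spec tOrb_chunk8 i (by omega) (by omega)

theorem aCls_ok : clsB aMask aFix aObjs aLifts (get2 aOrbSets 0 0) = true := by decide +kernel
theorem bCls_ok : clsB bMask bFix bObjs bLifts (get2 bOrbSets 0 0) = true := by decide +kernel
theorem cent_ok : centB = true := by decide +kernel

end CfsgLib.LargeFischer.U43
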